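import Cfsg.Agent.H143.ChevBlocks
import Cfsg.Agent.BpLieP.Big

/-!
# The characters of the principal block of a group of local characteristic `p`

If `G` has local characteristic `p`, trivial centre, order divisible by `p`, and only one irreducible character `χ` of
defect zero, every other irreducible character lies in the principal block; so its central character vanishes modulo `p`
at the nontrivial `p`-regular elements.
-/

set_option autoImplicit false

namespace Cfsg.Agent.H330.GowBlock

open Cfsg
open Cfsg.Agent.BpLieP.Big (LocChar)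
open Cfsg.Agent.H143.ChevBlocks (card_eq_two eq_one_of_pow)

variable {G : Type*} [Group G] [Finite G] {p : ℕ} [Fact p.Prime] {M : Ideal AlgInt}

/-- the trivial character -/
noncomputable def triv (G : Type*) [Group G] : IrrCharacter G := ⟨fun _ => 1, Blocks.Basic.isIrrCharacter_one⟩

theorem triv_mem (hM : IsPModular p M) : triv G ∈ principalBlock M G := by
  intro g
  have := Blocks.Local.isPrime_of_isPModular hM
  show MemLocalIdeal M (centralChar (fun _ : G => (1 : ℂ)) g - centralChar (fun _ : G => (1 : ℂ)) g)
  rw [sub_self]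
  exact Blocks.Local.memLocalIdeal_zero

theorem self_mem (hM : IsPModular p M) (χ : IrrCharacter G) : χ ∈ blockOf M (χ : G → ℂ) := by
  intro g
  have := Blocks.Local.isPrime_of_isPModular hM
  rw [sub_self]
  exact Blocks.Local.memLocalIdeal_zero

theorem principal_eq : principalBlock M G = blockOf M ((triv G : IrrCharacter G) : G → ℂ) := rfl

/-- **All other characters lie in the principal block.** -/
theorem mem_principal (hM : IsPModular p M) (hdvd : p ∣ Nat.card G) (hloc : LocChar p G)
    (hcen : Subgroup.center G = ⊥) (χ : IrrCharacter G) (hχ : ¬ p ∣ Nat.card G / charDegree (χ : G → ℂ))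
    (huniq : ∀ ψ : IrrCharacter G, ¬ p ∣ Nat.card G / charDegree (ψ : G → ℂ) → ψ = χ)
    (ψ : IrrCharacter G) (hψ : ψ ≠ χ) : ψ ∈ principalBlock M G := by
  classical
  have h2 := card_eq_two hM hdvd hloc hcen χ hχ huniq
  have h1 : blockOf M (χ : G → ℂ) = {χ} := (Cfsg.Agent.S0914.result p M hM χ).1 hχ
  have h3 : principalBlock M G ≠ blockOf M (χ : G → ℂ) := by
    intro h
    have h4 : triv G ∈ ({χ} : Set (IrrCharacter G)) := by
      rw [← h1, ← h]
      exact triv_mem hM
    have h5 : triv G = χ := h4
    rw [← h5] at hχ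
    have h6 : charDegree ((triv G : IrrCharacter G) : G → ℂ) = 1 :=
      Blocks.Basic.charDegree_of_eq (by simp [triv])
    rw [h6, Nat.div_one] at hχ
    exact hχ hdvd
  have h4 : blockOf M (ψ : G → ℂ) ≠ blockOf M (χ : G → ℂ) := by
    intro h
    have h5 : ψ ∈ ({χ} : Set (IrrCharacter G)) := by
      rw [← h1, ← h]
      exact self_mem hM ψ
    exact hψ h5
  by_contra hcon
  have h5 : blockOf M (ψ : G → ℂ) ≠ principalBlock M G := by
    intro h
    apply hcon
    rw [← h]
    exact self_mem hM ψ
  have hfin : Finite {B : Set (IrrCharacter G) // IsPBlock M B} := by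
    apply Nat.finite_of_card_ne_zero
    rw [h2]
    exact two_ne_zero
  let a : {B : Set (IrrCharacter G) // IsPBlock M B} := ⟨principalBlock M G, triv G, rfl⟩
  let b : {B : Set (IrrCharacter G) // IsPBlock M B} := ⟨blockOf M (χ : G → ℂ), χ, rfl⟩
  let c : {B : Set (IrrCharacter G) // IsPBlock M B} := ⟨blockOf M (ψ : G → ℂ), ψ, rfl⟩
  have hab : a ≠ b := fun h => h3 (congrArg Subtype.val h)
  have hca : c ≠ a := fun h => h5 (congrArg Subtype.val h)
  have hcb : c ≠ b := fun h => h4 (congrArg Subtype.val h)
  have := Fintype.ofFinite {B : Set (IrrCharacter G) // IsPBlock M B}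
  have h6 : ({a, b, c} : Finset {B : Set (IrrCharacter G) // IsPBlock M B}).card = 3 := by
    rw [Finset.card_insert_of_notMem, Finset.card_insert_of_notMem, Finset.card_singleton]
    · rw [Finset.mem_singleton]
      exact fun h => hcb h.symm
    · rw [Finset.mem_insert, Finset.mem_singleton]
      rintro (h | h)
      · exact hab h
      · exact hca h.symm
  have h7 := Finset.card_le_univ ({a, b, c} : Finset {B : Set (IrrCharacter G) // IsPBlock M B})
  rw [h6, ← Nat.card_eq_fintype_card, h2] at h7
  omega

/-- In a group of local characteristic `p` only the identity among the `p`-regular elements centralises a Sylow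
`p`-subgroup. -/
theorem dvd_index (hdvd : p ∣ Nat.card G) (hloc : LocChar p G) {c : G} (hc : ¬ p ∣ orderOf c) (hc1 : c ≠ 1) :
    p ∣ (Subgroup.centralizer ({c} : Set G)).index := by
  have hp : p.Prime := Fact.out
  by_contra hcon
  obtain ⟨Q⟩ : Nonempty (Sylow p ↥(Subgroup.centralizer ({c} : Set G))) := inferInstance
  obtain ⟨P, hP⟩ : ∃ P : Sylow p G, (P : Subgroup G) ≤ Subgroup.centralizer ({c} : Set G) := by
    have h1 : IsPGroup p ↥((Q : Subgroup ↥(Subgroup.centralizer ({c} : Set G))).map
        (Subgroup.centralizer ({c} : Set G)).subtype) := Q.isPGroup'.map _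
    obtain ⟨P, hP⟩ := h1.exists_le_sylow
    refine ⟨P, ?_⟩
    have h2 : Nat.card ↥((Q : Subgroup ↥(Subgroup.centralizer ({c} : Set G))).map
        (Subgroup.centralizer ({c} : Set G)).subtype) = Nat.card P := by
      rw [Subgroup.card_map_of_injective (Subgroup.subtype_injective _)]
      rw [Q.card_eq_multiplicity, P.card_eq_multiplicity,
        ← (Subgroup.centralizer ({c} : Set G)).card_mul_index,
        Nat.factorization_mul Nat.card_pos.ne' Subgroup.index_ne_zero_of_finite]
      simp [Nat.factorization_eq_zero_of_not_dvd hcon]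
    have h3 : (Q : Subgroup ↥(Subgroup.centralizer ({c} : Set G))).map
        (Subgroup.centralizer ({c} : Set G)).subtype = P := Subgroup.eq_of_le_of_card_ge hP h2.ge
    rw [← h3]
    exact Subgroup.map_subtype_le _
  have hcP : c ∈ Subgroup.centralizer ((P : Subgroup G) : Set G) := by
    rw [Subgroup.mem_centralizer_iff]
    intro y hy
    exact (Subgroup.mem_centralizer_singleton_iff.1 (hP hy))
  have hP1 : (P : Subgroup G) ≠ ⊥ := by
    intro h
    have h1 := P.card_eq_multiplicity
    rw [h, Subgroup.card_bot] at h1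
    have h2 := hp.factorization_pos_of_dvd Nat.card_pos.ne' hdvd
    have h3 := Nat.one_lt_pow h2.ne' hp.one_lt
    omega
  have hcN : c ∈ Subgroup.normalizer ((P : Subgroup G) : Set G) := Subgroup.centralizer_le_normalizer _ hcP
  have h0 := hloc P P.isPGroup' hP1
  have hcore : IsPGroup p ↥(pCore p ↥(Subgroup.normalizer ((P : Subgroup G) : Set G))) :=
    Lib.Cores.pCore_isPGroup p
  have hcoreP : ∀ y : ↥(Subgroup.normalizer ((P : Subgroup G) : Set G)),
      y ∈ pCore p ↥(Subgroup.normalizer ((P : Subgroup G) : Set G)) → (y : G) ∈ (P : Subgroup G) := by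
    intro y hy
    have h2 : IsPGroup p ↥((pCore p ↥(Subgroup.normalizer ((P : Subgroup G) : Set G))).map
        (Subgroup.normalizer ((P : Subgroup G) : Set G)).subtype ⊔ (P : Subgroup G)) := by
      refine IsPGroup.to_sup_of_normal_right' (hcore.map _) P.isPGroup' ?_
      rintro _ ⟨z, -, rfl⟩
      exact z.2
    have h3 := P.is_maximal' h2 le_sup_right
    exact h3.le (le_sup_left (a := (pCore p ↥(Subgroup.normalizer ((P : Subgroup G) : Set G))).map
        (Subgroup.normalizer ((P : Subgroup G) : Set G)).subtype) ⟨y, hy, rfl⟩)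
  have h1 : (⟨c, hcN⟩ : ↥(Subgroup.normalizer ((P : Subgroup G) : Set G))) ∈
      pCore p ↥(Subgroup.normalizer ((P : Subgroup G) : Set G)) := by
    apply h0
    rw [Subgroup.mem_centralizer_iff]
    intro y hy
    exact Subtype.ext (Subgroup.mem_centralizer_iff.1 hcP y (hcoreP y hy))
  obtain ⟨k, hk⟩ := hcore ⟨_, h1⟩
  have h2 : c ^ p ^ k = 1 := by
    have := congrArg (fun z => ((z : ↥(Subgroup.normalizer ((P : Subgroup G) : Set G))) : G)) (congrArg Subtype.val hk)
    simpa using this
  exact hc1 (eq_one_of_pow hc h2)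

/-- **The central characters of the characters other than the one of defect zero vanish modulo `p` at the nontrivial
`p`-regular elements.** -/
theorem centralChar_mem (hM : IsPModular p M) (hdvd : p ∣ Nat.card G) (hloc : LocChar p G)
    (hcen : Subgroup.center G = ⊥) (χ : IrrCharacter G) (hχ : ¬ p ∣ Nat.card G / charDegree (χ : G → ℂ))
    (huniq : ∀ ψ : IrrCharacter G, ¬ p ∣ Nat.card G / charDegree (ψ : G → ℂ) → ψ = χ)
    (ψ : IrrCharacter G) (hψ : ψ ≠ χ) {z : G} (hz : z ≠ 1) (hzr : ¬ p ∣ orderOf z) :
    MemLocalIdeal M (centralChar (ψ : G → ℂ) z) := by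
  have := Blocks.Local.isPrime_of_isPModular hM
  have h1 := mem_principal hM hdvd hloc hcen χ hχ huniq ψ hψ z
  have h2 : MemLocalIdeal M (centralChar (fun _ : G => (1 : ℂ)) z) := by
    unfold centralChar
    rw [mul_one, div_one]
    exact (Blocks.Local.memLocalIdeal_natCast_iff hM _).2 (dvd_index hdvd hloc hzr hz)
  have h3 := Blocks.Local.memLocalIdeal_sub h2 h1
  rwa [sub_sub_cancel] at h3

end Cfsg.Agent.H330.GowBlock
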