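import Cfsg.Agent.H330.GowUniq
import Cfsg.Agent.H615.DefZeroChar
import Cfsg.Agent.S0165
import Cfsg.Agent.Blocks.ExistsModular
import Cfsg.Agent.H716.SplitAb

/-!
# The irreducible character of `p`-defect zero of a perfect group with a split (B,N)-pair, `B / U` abelian, is unique
-/

set_option autoImplicit false
set_option linter.unusedSectionVars false

namespace Cfsg.Agent.H330.GowOne

open Cfsg Cfsg.Agent.Tits.Core Cfsg.Agent.Tits.Core.Bldg Cfsg.Agent.Tits.Exchange Cfsg.Agent.FixBN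
  Cfsg.Agent.Tits Cfsg.Agent.H330.GowSt Cfsg.Agent.H330.GowUniq

variable {I : Type*} {M : CoxeterMatrix I} {W : Type*} [Group W] {cs : CoxeterSystem M W} {C : Type*}

local prefix:100 "ℓ" => cs.length

variable {Δ : Bldg cs C} {G : Type*} [Group G] [MulAction G C] {p : ℕ} {S : Sys Δ G p}

section Char

variable [Fintype I] [Finite W] [Finite G] [Fintype C] {V : Type*} [AddCommGroup V] [Module ℂ V]
  [FiniteDimensional ℂ V] {ρ : Representation ℂ G V}

/-- The values of a character of defect zero. -/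
theorem character_formula [Fintype G] {c : C} {x : V} (h : ROne S ρ c x) (hρ : ρ.IsIrreducible)
    (hG : commutator G = ⊤) (g : G) :
    (Nat.card G : ℂ) * ρ.character g / (Module.finrank ℂ V : ℂ) =
      ∑ k : G, (-1) ^ ℓ (Δ.δ c ((k * g * k⁻¹) • c)) / (sph Δ c (Δ.δ c ((k * g * k⁻¹) • c)) : ℂ) := by
  have F : OppRes.Cox cs := inferInstance
  have h1 := H996.DefectZero.sum_conj ρ hρ g
  have h2 := congrArg (fun f => LinearMap.trace ℂ V (av ρ (S.U c) * f)) h1
  simp only [Finset.mul_sum, map_sum, mul_smul_comm, map_smul] at h2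
  have h3 : (av ρ (S.U c) * LinearMap.id : V →ₗ[ℂ] V) = av ρ (S.U c) := LinearMap.comp_id _
  rw [h3, trace_av h.ctx, smul_eq_mul, mul_one] at h2
  rw [← h2]
  refine Finset.sum_congr rfl fun k _ => ?_
  rw [trace_av_mul h.ctx, phi_eq_of_perfect h hG]

/-- `U c` has a nonzero fixed vector. -/
theorem exists_fixed [Fact p.Prime] (S : Sys Δ G p) (c : C)
    (hv : ∀ y : G, p ∣ orderOf y → ρ.character y = 0) (hd : Module.finrank ℂ V ≠ 0) :
    ∃ v : V, v ≠ 0 ∧ ∀ u ∈ S.U c, ρ u v = v := by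
  classical
  by_contra hcon
  push Not at hcon
  have h0 : av ρ (S.U c) = 0 := by
    ext v
    by_contra hne
    obtain ⟨u, hu, hu'⟩ := hcon _ hne
    exact hu' (apply_av hu v)
  have h1 : LinearMap.trace ℂ V (av ρ (S.U c)) = (Nat.card (S.U c) : ℂ)⁻¹ * (Module.finrank ℂ V : ℂ) := by
    have : Fintype (S.U c) := Fintype.ofFinite _
    rw [av_eq, map_smul, map_sum, smul_eq_mul]
    congr 1
    rw [Finset.sum_eq_single (1 : S.U c)]
    · rw [Subgroup.coe_one, map_one]
      exact LinearMap.trace_one ℂ V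
    · intro u _ hu
      refine hv u ?_
      obtain ⟨k, hk⟩ := IsPGroup.iff_orderOf.1 (S.isP c) u
      rw [← Subgroup.orderOf_coe] at hk
      rw [hk]
      refine dvd_pow_self p ?_
      rintro rfl
      rw [pow_zero, orderOf_eq_one_iff] at hk
      exact hu (Subtype.ext hk)
    · intro h
      exact absurd (Finset.mem_univ _) h
  rw [h0, map_zero] at h1
  have h2 := card_ne (S.U c)
  rcases mul_eq_zero.1 h1.symm with h3 | h3
  · exact inv_ne_zero h2 h3
  · exact hd (by exact_mod_cast h3)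

end Char

section Block

variable [Finite G] [Fact p.Prime]

/-- An element at which a character of defect zero is a unit. -/
theorem exists_unit {M : Ideal AlgInt} (hM : IsPModular p M) (χ : IrrCharacter G)
    (hχ : ¬ p ∣ Nat.card G / charDegree (χ : G → ℂ)) :
    ∃ g₀ : G, MemLocalRing M ((Nat.card G : ℂ) * (χ : G → ℂ) g₀ / (χ : G → ℂ) 1) ∧
      ¬ MemLocalIdeal M ((Nat.card G : ℂ) * (χ : G → ℂ) g₀ / (χ : G → ℂ) 1) := by
  classical
  have : Fintype G := Fintype.ofFinite G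
  have hB : blockOf M (χ : G → ℂ) = {χ} := (S0914.result p M hM χ).1 hχ
  obtain ⟨g, h1, h2, -⟩ := S0906.result p M hM {χ} ⟨χ, hB.symm⟩
  set N := H615.DefZeroChar.NN χ with hN
  have hN1 := H615.DefZeroChar.one_mul_NN χ
  rw [← hN] at hN1
  have hone := H615.DefZeroChar.one_ne χ
  have hNM : ¬ MemLocalIdeal M (N : ℂ) := by
    rw [Blocks.LocalRing.memLocalIdeal_natCast_iff hM]
    exact hχ
  have hNR : MemLocalRing M (N : ℂ) := Blocks.LocalRing.memLocalRing_natCast hM N
  have hN0 : (N : ℂ) ≠ 0 := Blocks.LocalRing.ne_zero_of_not_memLocalIdeal hM hNM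
  have h3 : blockCoeff {χ} g = (χ : G → ℂ) g⁻¹ / (N : ℂ) := by
    rw [Blocks.Basic.blockCoeff_def, finsum_mem_singleton, Blocks.Orthogonality.irr_apply_inv χ.2, ← hN1]
    field_simp
  have h4 : (Nat.card G : ℂ) * (χ : G → ℂ) g⁻¹ / (χ : G → ℂ) 1 = (N : ℂ) * (N : ℂ) * blockCoeff {χ} g := by
    rw [h3, ← hN1]
    field_simp
  refine ⟨g⁻¹, ?_, ?_⟩
  · rw [h4]
    exact Blocks.LocalRing.memLocalRing_mul hM (Blocks.LocalRing.memLocalRing_mul hM hNR hNR) h1
  · rw [h4, Blocks.LocalRing.memLocalIdeal_mul_iff hM (Blocks.LocalRing.memLocalRing_mul hM hNR hNR) h1,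
      Blocks.LocalRing.memLocalIdeal_mul_iff hM hNR hNR]
    rintro ((h | h) | h)
    · exact hNM h
    · exact hNM h
    · exact h2 h

end Block

section Unique

variable [Fintype I] [Finite W] [Finite G] [Fintype C] [Fact p.Prime]

/-- The values of a character of defect zero, up to the degree. -/
theorem value_formula (hth : Δ.Thick) (ht : ∀ x y : C, ∃ g : G, g • x = y) {c a0 : C} (ha0 : Δ.Opp c a0)
    (S : Sys Δ G p)
    (hT : ∀ s t : G, s • c = c → s • a0 = a0 → t • c = c → t • a0 = a0 → s * t = t * s)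
    (hG : commutator G = ⊤) [Fintype G] (χ : IrrCharacter G) (hχ : ¬ p ∣ Nat.card G / charDegree (χ : G → ℂ)) (g : G) :
    (Nat.card G : ℂ) * (χ : G → ℂ) g / (χ : G → ℂ) 1 =
      ∑ k : G, (-1) ^ ℓ (Δ.δ c ((k * g * k⁻¹) • c)) / (sph Δ c (Δ.δ c ((k * g * k⁻¹) • c)) : ℂ) := by
  have hp : p.Prime := Fact.out
  obtain ⟨M, hM⟩ := Blocks.ExistsModular.exists_isPModular hp
  obtain ⟨g₀, h1, h2⟩ := exists_unit hM χ hχ
  obtain ⟨hd1, hd0, hdd⟩ := S0914.degree_spec χ
  obtain ⟨χ, n, ρ, hρ, rfl⟩ := χ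
  change MemLocalRing M ((Nat.card G : ℂ) * ρ.character g₀ / ρ.character 1) at h1
  change ¬ MemLocalIdeal M ((Nat.card G : ℂ) * ρ.character g₀ / ρ.character 1) at h2
  change (Nat.card G : ℂ) * ρ.character g / ρ.character 1 = _
  rw [Representation.char_one] at h1 h2 ⊢
  have hfin : Module.finrank ℂ (Fin n → ℂ) = charDegree ρ.character := by
    have h3 : (ρ.character 1 : ℂ) = (charDegree ρ.character : ℂ) := hd1
    rw [Representation.char_one] at h3
    exact_mod_cast h3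
  have hd0' : Module.finrank ℂ (Fin n → ℂ) ≠ 0 := by
    rw [hfin]
    exact (show 0 < charDegree ρ.character from hd0).ne'
  have hdvd : p ^ (Nat.card G).factorization p ∣ Module.finrank ℂ (Fin n → ℂ) := by
    rw [hfin]
    obtain ⟨m, hm⟩ := (show charDegree ρ.character ∣ Nat.card G from hdd)
    have hm' : Nat.card G / charDegree ρ.character = m := by
      rw [hm]
      exact Nat.mul_div_cancel_left _ hd0
    have h4 : (p ^ (Nat.card G).factorization p).Coprime m := by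
      apply Nat.Coprime.pow_left
      rw [Nat.Prime.coprime_iff_not_dvd hp, ← hm']
      exact hχ
    have h5 : p ^ (Nat.card G).factorization p ∣ charDegree ρ.character * m := by
      rw [← hm]
      exact Nat.ordProj_dvd _ _
    exact h4.dvd_of_dvd_mul_right h5
  have hirr : ρ.IsIrreducible := hρ
  have hv : ∀ y : G, p ∣ orderOf y → ρ.character y = 0 := fun y hy =>
    S0165.result ρ p _ hp (Nat.ordProj_dvd _ _) (Nat.pow_succ_factorization_not_dvd Nat.card_pos.ne' hp) hdvd y hy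
  obtain ⟨x, hx⟩ := exists_rone (S := S) hM hρ h1 h2 hth ht ha0 hT (exists_fixed S c hv hd0')
  exact character_formula hx hρ hG g

/-- **Uniqueness of the character of defect zero.** -/
theorem unique_of_sys (hth : Δ.Thick) (ht : ∀ x y : C, ∃ g : G, g • x = y) {c a0 : C} (ha0 : Δ.Opp c a0)
    (S : Sys Δ G p)
    (hT : ∀ s t : G, s • c = c → s • a0 = a0 → t • c = c → t • a0 = a0 → s * t = t * s)
    (hG : commutator G = ⊤) (χ χ' : IrrCharacter G) (hχ : ¬ p ∣ Nat.card G / charDegree (χ : G → ℂ))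
    (hχ' : ¬ p ∣ Nat.card G / charDegree (χ' : G → ℂ)) : χ = χ' := by
  classical
  have : Fintype G := Fintype.ofFinite G
  by_contra hne
  have h1 := H615.DefZeroChar.one_ne χ
  have h1' := H615.DefZeroChar.one_ne χ'
  have hc0 : (Nat.card G : ℂ) ≠ 0 := by exact_mod_cast Nat.card_pos.ne'
  have h2 : ∀ g, (χ : G → ℂ) g = ((χ : G → ℂ) 1 / (χ' : G → ℂ) 1) * (χ' : G → ℂ) g := by
    intro g
    have h3 := value_formula hth ht ha0 S hT hG χ hχ g
    rw [← value_formula hth ht ha0 S hT hG χ' hχ' g, div_eq_div_iff h1 h1'] at h3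
    have h4 : (χ : G → ℂ) g * (χ' : G → ℂ) 1 = (χ' : G → ℂ) g * (χ : G → ℂ) 1 := by
      apply mul_left_cancel₀ hc0
      linear_combination h3
    rw [div_mul_eq_mul_div, eq_div_iff h1', h4, mul_comm]
  have h3 := Blocks.Orthogonality.sum_irr_mul_irr χ χ' 1
  rw [if_neg hne] at h3
  have h4 := Blocks.Orthogonality.sum_irr_mul_irr χ' χ' 1
  rw [if_pos rfl, mul_div_assoc, div_self h1', mul_one] at h4
  have h5 : ∑ x, (χ : G → ℂ) x * (χ' : G → ℂ) (x⁻¹ * 1) =
      ((χ : G → ℂ) 1 / (χ' : G → ℂ) 1) * ∑ x, (χ' : G → ℂ) x * (χ' : G → ℂ) (x⁻¹ * 1) := by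
    rw [Finset.mul_sum]
    refine Finset.sum_congr rfl fun x _ => ?_
    rw [h2 x, mul_assoc]
  rw [h3, h4] at h5
  exact (mul_ne_zero (div_ne_zero h1 h1') hc0) h5.symm

end Unique

/-- **Uniqueness of the character of defect zero**, groups with `HasSplitAb`. -/
theorem unique_of_hasSplitAb {K : Type*} [Group K] [Finite K] {p : ℕ} [Fact p.Prime]
    (h : Cfsg.Agent.Omega.ML.LieRow.CRB.HasSplitAb p K) (hK : commutator K = ⊤) (χ χ' : IrrCharacter K)
    (hχ : ¬ p ∣ Nat.card K / charDegree (χ : K → ℂ)) (hχ' : ¬ p ∣ Nat.card K / charDegree (χ' : K → ℂ)) :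
    χ = χ' := by
  classical
  obtain ⟨P, U, -, hU, hab⟩ := h
  have hN : ((P.B ⊓ P.N).subgroupOf P.N).Normal := Tits.OfBN.normal_subgroupOf P
  obtain ⟨M, cs, hcs⟩ := S0320.result P
  set S := FixBN.OfBN.sys (Equiv.refl P.S) cs hcs hU with hS
  have : Fintype (K ⧸ P.B) := Fintype.ofFinite _
  have : Finite P.S := inferInstance
  have : Fintype P.S := Fintype.ofFinite _
  obtain ⟨a0, ha0⟩ := Tits.Opp.exists_opp (Tits.OfBN.bldg P (Equiv.refl P.S) cs hcs) (QuotientGroup.mk 1 : K ⧸ P.B)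
  refine unique_of_sys (Tits.OfBN.thick P (Equiv.refl P.S) cs hcs) (fun x y => MulAction.exists_smul_eq K x y)
    ha0 S ?_ hK χ χ' hχ hχ'
  intro s t hs hs' ht ht'
  have hmem : ∀ b : K, b • (QuotientGroup.mk 1 : K ⧸ P.B) = QuotientGroup.mk 1 → b ∈ P.B := by
    intro b hb
    rw [FixBN.OfBN.smul_mk_eq] at hb
    simpa using hb
  have h1 := hab s (hmem s hs) t (hmem t ht)
  have h2 : s * t * s⁻¹ * t⁻¹ ∈ S.U (QuotientGroup.mk 1 : K ⧸ P.B) := by
    change s * t * s⁻¹ * t⁻¹ ∈ FixBN.OfBN.UU P U (QuotientGroup.mk 1 : K ⧸ P.B)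
    rw [FixBN.OfBN.mem_UU hU]
    simpa using h1
  have hinv : ∀ b : K, b • a0 = a0 → b⁻¹ • a0 = a0 := fun b hb => by
    conv_lhs => rw [← hb]
    exact inv_smul_smul b a0
  have h3 := S.free _ _ ha0 _ h2 (by
    rw [mul_smul, mul_smul, mul_smul, hinv t ht', hinv s hs', ht', hs'])
  have h4 : s * t = (s * t * s⁻¹ * t⁻¹) * (t * s) := by group
  rw [h4, h3, one_mul]

end Cfsg.Agent.H330.GowOne
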