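import Cfsg.Agent.H330.Gow
import Cfsg.Agent.S0848
import Cfsg.Agent.S0165
import Cfsg.Agent.H80.Fpf.Def

/-!
# Gow's theorem for central extensions of order prime to the characteristic

* `lift` : the system `Sys Δ Γ p` for a central extension `Γ → S` with kernel of order prime to `p`;
* `comm_of_inverts` : a criterion for the preimage of a torus to be abelian.
-/

set_option autoImplicit false
set_option linter.unusedSectionVars false

namespace Cfsg.Agent.H330.GowCover

open Cfsg Subgroup Cfsg.Agent.Tits.Core Cfsg.Agent.Tits.Core.Bldg Cfsg.Agent.Tits.Exchange Cfsg.Agent.FixBN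
  Cfsg.Agent.Tits
open scoped ComplexConjugate

theorem pow_card_mem {S : Type*} [Group S] {V : Subgroup S} [Finite V] {v : S} (hv : v ∈ V) : v ^ Nat.card V = 1 :=
  congrArg Subtype.val (pow_card_eq_one' (x := (⟨v, hv⟩ : V)))

section Pow

variable {Γ S : Type*} [Group Γ] [Group S] {π : Γ →* S}

/-- In a central extension of a finite group `V` the power map `g ↦ g ^ |V|` is multiplicative. -/
theorem mul_pow_card (hs : Function.Surjective π) (hc : π.ker ≤ center Γ) (V : Subgroup S) [Finite V] {a b : Γ}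
    (ha : π a ∈ V) (hb : π b ∈ V) : (a * b) ^ Nat.card V = a ^ Nat.card V * b ^ Nat.card V := by
  set Q : Subgroup Γ := V.comap π with hQ
  set H : Subgroup Q := π.ker.subgroupOf Q with hH
  have hHc : H ≤ center Q := by
    intro x hx
    rw [mem_center_iff]
    intro g
    exact Subtype.ext (mem_center_iff.1 (hc hx) g)
  have hidx : H.index = Nat.card V := by
    have e : H = (π.subgroupComap V).ker := by
      ext x
      rw [hH, mem_subgroupOf, MonoidHom.mem_ker, MonoidHom.mem_ker]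
      constructor
      · intro h
        exact Subtype.ext h
      · intro h
        exact congrArg Subtype.val h
    rw [e, Subgroup.index_ker]
    have hsurj : (π.subgroupComap V).range = ⊤ := by
      rw [MonoidHom.range_eq_top]
      rintro ⟨v, hv⟩
      obtain ⟨g, rfl⟩ := hs v
      exact ⟨⟨g, hv⟩, rfl⟩
    rw [hsurj]
    exact Nat.card_congr Subgroup.topEquiv.toEquiv
  have hH0 : H.index ≠ 0 := by
    rw [hidx]
    exact Nat.card_pos.ne'
  have : (center Q).FiniteIndex := ⟨fun h0 => hH0 (Nat.eq_zero_of_zero_dvd (h0 ▸ Subgroup.index_dvd_of_le hHc))⟩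
  obtain ⟨k, hk⟩ : (center Q).index ∣ Nat.card V := hidx ▸ Subgroup.index_dvd_of_le hHc
  have h1 := congrArg Subtype.val (map_mul (MonoidHom.transferCenterPow Q) ⟨a, ha⟩ ⟨b, hb⟩)
  have h2 : ((⟨a, ha⟩ * ⟨b, hb⟩ : Q)) ^ (center Q).index = (⟨a, ha⟩ : Q) ^ (center Q).index *
      (⟨b, hb⟩ : Q) ^ (center Q).index := h1
  have h3 : (a * b) ^ (center Q).index = a ^ (center Q).index * b ^ (center Q).index := congrArg Subtype.val h2
  have h4 : Commute (a ^ (center Q).index) (b ^ (center Q).index) := by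
    have h5 := (MonoidHom.transferCenterPow Q ⟨a, ha⟩).2
    have h6 := mem_center_iff.1 h5 (⟨b, hb⟩ ^ (center Q).index)
    exact (congrArg Subtype.val h6).symm
  rw [hk, pow_mul, h3, h4.mul_pow, ← pow_mul, ← pow_mul]

/-- The elements of the preimage of `V` of order dividing `|V|`. -/
def up (hs : Function.Surjective π) (hc : π.ker ≤ center Γ) (V : Subgroup S) [Finite V] : Subgroup Γ where
  carrier := {g | π g ∈ V ∧ g ^ Nat.card V = 1}
  one_mem' := ⟨by rw [map_one]; exact one_mem _, one_pow _⟩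
  mul_mem' := by
    rintro a b ⟨ha, ha'⟩ ⟨hb, hb'⟩
    exact ⟨by rw [map_mul]; exact mul_mem ha hb, by rw [mul_pow_card hs hc V ha hb, ha', hb', one_mul]⟩
  inv_mem' := by
    rintro a ⟨ha, ha'⟩
    exact ⟨by rw [map_inv]; exact inv_mem ha, by rw [inv_pow, ha', inv_one]⟩

theorem mem_up {hs : Function.Surjective π} {hc : π.ker ≤ center Γ} {V : Subgroup S} [Finite V] {g : Γ} :
    g ∈ up hs hc V ↔ π g ∈ V ∧ g ^ Nat.card V = 1 := Iff.rfl

/-- Elements of coprime order lift. -/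
theorem exists_up [Finite Γ] (hs : Function.Surjective π) (hc : π.ker ≤ center Γ) (V : Subgroup S) [Finite V]
    (hcop : (Nat.card V).Coprime (Nat.card π.ker)) {v : S} (hv : v ∈ V) : ∃ g ∈ up hs hc V, π g = v := by
  obtain ⟨g, rfl⟩ := hs v
  obtain ⟨k, hk1, hk2⟩ := Nat.chineseRemainder hcop 1 0
  have h1 : (π g) ^ Nat.card V = 1 := pow_card_mem hv
  have h2 : π (g ^ k) = π g := by
    rw [map_pow]
    have h3 : orderOf (π g) ∣ Nat.card V := orderOf_dvd_of_pow_eq_one h1
    have h4 := (hk1.of_dvd h3)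
    have h5 := pow_eq_pow_iff_modEq.2 h4
    rw [h5, pow_one]
  refine ⟨g ^ k, ⟨by rw [h2]; exact hv, ?_⟩, h2⟩
  have h6 : g ^ Nat.card V ∈ π.ker := by rw [MonoidHom.mem_ker, map_pow, h1]
  obtain ⟨j, rfl⟩ := (Nat.modEq_zero_iff_dvd.1 hk2)
  have h7 : (g ^ Nat.card V) ^ Nat.card π.ker = 1 := pow_card_mem h6
  rw [← pow_mul, mul_comm, pow_mul, pow_mul, h7, one_pow]

/-- An element of the kernel killed by `|V|` is trivial. -/
theorem eq_one_of_ker [Finite Γ] {n : ℕ} (hcop : n.Coprime (Nat.card π.ker)) {g : Γ} (h1 : π g = 1)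
    (h2 : g ^ n = 1) : g = 1 := by
  have h3 : g ^ Nat.card π.ker = 1 := pow_card_mem h1
  have h4 := Nat.dvd_gcd (orderOf_dvd_of_pow_eq_one h2) (orderOf_dvd_of_pow_eq_one h3)
  rw [hcop] at h4
  exact orderOf_eq_one_iff.1 (Nat.dvd_one.1 h4)

end Pow

section Torus

variable {Γ S : Type*} [Group Γ] [Finite Γ] [Group S] {π : Γ →* S}

/-- The preimage of a cyclic group in a central extension is abelian. -/
theorem comm_of_cyclic (hc : π.ker ≤ center Γ) {A : Subgroup S} (hA : IsCyclic A) {a b : Γ} (ha : π a ∈ A)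
    (hb : π b ∈ A) : a * b = b * a := by
  set Q : Subgroup Γ := A.comap π with hQ
  have h1 : (π.subgroupComap A).ker ≤ center Q := by
    intro x hx
    rw [mem_center_iff]
    intro g
    have h2 : (x : Γ) ∈ π.ker := congrArg Subtype.val hx
    exact Subtype.ext (mem_center_iff.1 (hc h2) g)
  have h3 := MonoidHom.isMulCommutative_of_isCyclic_of_ker_le_center (π.subgroupComap A) h1
  exact congrArg Subtype.val (h3.is_comm.comm (⟨a, ha⟩ : Q) ⟨b, hb⟩)

/-- **A criterion for the preimage of an abelian group to be abelian**: it is generated by cyclic groups `A i` inverted by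
elements `n i` with `[T, n i] ≤ A i`, and the kernel has odd order. -/
theorem comm_of_inverts (hs : Function.Surjective π) (hc : π.ker ≤ center Γ) (hodd : Odd (Nat.card π.ker)) {ι : Type*}
    (T : Subgroup S) (A : ι → Subgroup S) (n : ι → S) (hT : T = ⨆ i, A i) (hcyc : ∀ i, IsCyclic (A i))
    (habel : ∀ s ∈ T, ∀ t ∈ T, s * t = t * s)
    (hinv : ∀ i, ∀ s ∈ A i, n i * s * (n i)⁻¹ = s⁻¹) (hcom : ∀ i, ∀ t ∈ T, t⁻¹ * (n i * t * (n i)⁻¹) ∈ A i)
    {a b : Γ} (ha : π a ∈ T) (hb : π b ∈ T) : a * b = b * a := by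
  have hAT : ∀ i, A i ≤ T := fun i => by rw [hT]; exact le_iSup A i
  have hcomm : ∀ x y : Γ, π x ∈ T → π y ∈ T → x * y * x⁻¹ * y⁻¹ ∈ π.ker := by
    intro x y hx hy
    rw [MonoidHom.mem_ker, map_mul, map_mul, map_mul, map_inv, map_inv, habel _ hx _ hy]
    group
  -- the elements over `A i` commute with the elements over `T`
  have key : ∀ i, ∀ s a : Γ, π s ∈ A i → π a ∈ T → a * s = s * a := by
    intro i s a hs' ha
    obtain ⟨m, hm⟩ := hs (n i)
    set c := a * s * a⁻¹ * s⁻¹ with hcdef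
    have hck : c ∈ π.ker := hcomm a s ha (hAT i hs')
    have hcc := mem_center_iff.1 (hc hck)
    set s' := a⁻¹ * (m * a * m⁻¹) with hs'def
    have h1 : m * a * m⁻¹ = a * s' := by rw [hs'def]; group
    have hs'A : π s' ∈ A i := by
      rw [hs'def, map_mul, map_mul, map_mul, map_inv, map_inv, hm]
      exact hcom i _ ha
    set z := s * (m * s * m⁻¹) with hzdef
    have h2 : m * s * m⁻¹ = s⁻¹ * z := by rw [hzdef]; group
    have hzk : z ∈ π.ker := by
      rw [MonoidHom.mem_ker, hzdef, map_mul, map_mul, map_mul, map_inv, hm, hinv i _ hs', mul_inv_cancel]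
    have hzc := mem_center_iff.1 (hc hzk)
    have h3 : s' * s⁻¹ = s⁻¹ * s' := comm_of_cyclic hc (hcyc i) hs'A (by rw [map_inv]; exact inv_mem hs')
    -- conjugate `c`
    have h4 : c = a * s⁻¹ * a⁻¹ * s := by
      have h5 : m * c * m⁻¹ = c := by rw [hcc m]; group
      calc c = m * c * m⁻¹ := h5.symm
        _ = (m * a * m⁻¹) * (m * s * m⁻¹) * (m * a * m⁻¹)⁻¹ * (m * s * m⁻¹)⁻¹ := by rw [hcdef]; group
        _ = (a * s') * (s⁻¹ * z) * (a * s')⁻¹ * (s⁻¹ * z)⁻¹ := by rw [h1, h2]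
        _ = a * (s' * s⁻¹) * (z * (s'⁻¹ * a⁻¹)) * z⁻¹ * s := by group
        _ = a * (s⁻¹ * s') * ((s'⁻¹ * a⁻¹) * z) * z⁻¹ * s := by rw [h3, ← hzc (s'⁻¹ * a⁻¹)]
        _ = a * s⁻¹ * a⁻¹ * s := by group
    have h6 : c * c = 1 := by
      have h7 : c⁻¹ = s * (a * s⁻¹ * a⁻¹) := by rw [hcdef]; group
      have h8 : s * c * s⁻¹ = c := by rw [hcc s]; group
      have h9 : s * c * s⁻¹ = c⁻¹ := by
        rw [h7]
        conv_lhs => rw [h4]
        group
      have h10 : c = c⁻¹ := h8.symm.trans h9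
      conv_lhs =>
        rw [h10]
        rhs
        rw [← h10]
      exact inv_mul_cancel c
    have h11 : c = 1 := by
      have h12 := pow_card_mem hck
      obtain ⟨j, hj⟩ := hodd
      rw [hj, pow_succ, pow_mul, pow_two, h6, one_pow, one_mul] at h12
      exact h12
    have h13 : a * s = c * (s * a) := by rw [hcdef]; group
    rw [h13, h11, one_mul]
  -- the centraliser of the preimage of `T`
  let D : Subgroup Γ := Subgroup.centralizer ((T.comap π : Subgroup Γ) : Set Γ)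
  have hD : ∀ i, (A i).comap π ≤ D := by
    intro i s hs'
    rw [mem_centralizer_iff]
    intro x hx
    exact key i s x hs' hx
  have hker : π.ker ≤ D := hc.trans (Subgroup.center_le_centralizer _)
  have hbD : b ∈ D := by
    have h1 : T ≤ D.map π := by
      rw [hT]
      refine iSup_le fun i => ?_
      intro v hv
      obtain ⟨g, rfl⟩ := hs v
      exact ⟨g, hD i hv, rfl⟩
    obtain ⟨d, hd, hdb⟩ := h1 hb
    have h2 : d⁻¹ * b ∈ π.ker := by rw [MonoidHom.mem_ker, map_mul, map_inv, hdb, inv_mul_cancel]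
    have h3 : b = d * (d⁻¹ * b) := by group
    rw [h3]
    exact mul_mem hd (hker h2)
  exact mem_centralizer_iff.1 hbD a ha

end Torus

section Lift

variable {I : Type*} {M : CoxeterMatrix I} {W : Type*} [Group W] {cs : CoxeterSystem M W} {C : Type*}
  {Δ : Bldg cs C} {S : Type*} [Group S] [Finite S] [MulAction S C] {p : ℕ} [Fact p.Prime] {Γ : Type*} [Group Γ]
  [Finite Γ]

/-- The action of the extension on the chambers. -/
@[reducible] def act (C : Type*) [MulAction S C] (π : Γ →* S) : MulAction Γ C := MulAction.compHom C π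

/-- **The system of the extension.** -/
def lift (S0 : FixBN.Sys Δ S p) (π : Γ →* S) (hs : Function.Surjective π) (hc : π.ker ≤ center Γ)
    (hk : ¬ p ∣ Nat.card π.ker) : @FixBN.Sys I M W _ cs C Δ Γ _ (act C π) p :=
  letI := act C π
  have hp : p.Prime := Fact.out
  have hcop : ∀ x, (Nat.card (S0.U x)).Coprime (Nat.card π.ker) := fun x => by
    obtain ⟨k, hk'⟩ := (S0.isP x).exists_card_eq
    rw [hk']
    exact Nat.Coprime.pow_left _ ((Nat.Prime.coprime_iff_not_dvd hp).2 hk)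
  { iso := fun g x y => S0.iso (π g) x y
    U := fun x => up hs hc (S0.U x)
    fix := fun x u hu => S0.fix x (π u) hu.1
    isP := fun x => by
      obtain ⟨k, hk'⟩ := (S0.isP x).exists_card_eq
      rintro ⟨g, hg⟩
      refine ⟨k, Subtype.ext ?_⟩
      have h1 := hg.2
      rw [hk'] at h1
      exact h1
    max := fun x V hV h g hg => by
      have h1 : V.map π ≤ S0.U x := by
        refine S0.max x _ (hV.map π) ?_
        rintro _ ⟨v, hv, rfl⟩
        exact h v hv
      refine ⟨h1 ⟨g, hg, rfl⟩, ?_⟩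
      have h2 : π (g ^ Nat.card (S0.U x)) = 1 := by
        rw [map_pow]
        exact pow_card_mem (h1 ⟨g, hg, rfl⟩)
      obtain ⟨k, hk'⟩ := hV ⟨_, pow_mem hg (Nat.card (S0.U x))⟩
      refine eq_one_of_ker (n := p ^ k) (Nat.Coprime.pow_left _ ((Nat.Prime.coprime_iff_not_dvd hp).2 hk)) h2 ?_
      exact congrArg Subtype.val hk'
    trans := fun x y z hy hz => by
      obtain ⟨u, hu, huy⟩ := S0.trans x y z hy hz
      obtain ⟨g, hg, rfl⟩ := exists_up hs hc (S0.U x) (hcop x) hu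
      exact ⟨g, hg, huy⟩
    free := fun x y hxy u hu huy => eq_one_of_ker (hcop x) (S0.free x y hxy (π u) hu.1 huy) hu.2
    pan := fun x y i h u hu huy z hz => S0.pan x y i h (π u) hu.1 huy z hz
    exists_fix := fun V hV => by
      obtain ⟨x, hx⟩ := S0.exists_fix (V.map π) (hV.map π)
      exact ⟨x, fun v hv => hx (π v) ⟨v, hv, rfl⟩⟩ }

end Lift

section TorusSys

variable {I : Type*} {M : CoxeterMatrix I} {W : Type*} [Group W] {cs : CoxeterSystem M W} {C : Type*}
  {Δ : Bldg cs C} {G : Type*} [Group G] [MulAction G C] {p : ℕ} (S : FixBN.Sys Δ G p)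

include S in
/-- If the stabiliser of `c` is `U c` times an abelian group, the stabiliser of two opposite chambers is abelian. -/
theorem torus_comm {c a0 : C} (ha0 : Δ.Opp c a0) (T : Subgroup G) (hTc : ∀ t ∈ T, t • c = c)
    (hab : ∀ s ∈ T, ∀ t ∈ T, s * t = t * s) (hB : ∀ g : G, g • c = c → ∃ u ∈ S.U c, ∃ t ∈ T, g = u * t)
    (s t : G) (hs : s • c = c) (hs' : s • a0 = a0) (ht : t • c = c) (ht' : t • a0 = a0) : s * t = t * s := by
  have hn : ∀ b : G, b • c = c → ∀ u ∈ S.U c, b * u * b⁻¹ ∈ S.U c := by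
    intro b hb u hu
    have := S.conj_mem_U hu b
    rwa [hb] at this
  have hinvc : ∀ b : G, b • c = c → b⁻¹ • c = c := fun b hb => by
    conv_lhs => rw [← hb]
    exact inv_smul_smul b c
  have hinv : ∀ b : G, b • a0 = a0 → b⁻¹ • a0 = a0 := fun b hb => by
    conv_lhs => rw [← hb]
    exact inv_smul_smul b a0
  obtain ⟨u, hu, s', hs1, rfl⟩ := hB s hs
  obtain ⟨v, hv, t', ht1, rfl⟩ := hB t ht
  have h1 : u * s' * (v * t') * (u * s')⁻¹ * (v * t')⁻¹ ∈ S.U c := by
    have e : u * s' * (v * t') * (u * s')⁻¹ * (v * t')⁻¹ =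
        u * (s' * v * s'⁻¹) * ((s' * t' * s'⁻¹) * u⁻¹ * (s' * t' * s'⁻¹)⁻¹) * (s' * t' * s'⁻¹ * t'⁻¹) * v⁻¹ := by
      group
    rw [e]
    have h2 : s' * t' * s'⁻¹ = t' := by rw [hab s' hs1 t' ht1, mul_inv_cancel_right]
    rw [h2, mul_inv_cancel, mul_one]
    exact mul_mem (mul_mem (mul_mem hu (hn s' (hTc s' hs1) v hv)) (hn t' (hTc t' ht1) _ (inv_mem hu))) (inv_mem hv)
  have h3 := S.free _ _ ha0 _ h1 (by
    rw [mul_smul, mul_smul, mul_smul, hinv _ ht', hinv _ hs', ht', hs'])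
  have h4 : u * s' * (v * t') = (u * s' * (v * t') * (u * s')⁻¹ * (v * t')⁻¹) * (v * t' * (u * s')) := by group
  rw [h4, h3, one_mul]

end TorusSys

section Blocks

variable {G : Type*} [Group G] [Finite G] {p : ℕ} [Fact p.Prime]

/-- The `p`-regular elements centralising a nontrivial radical `p`-subgroup are central. -/
def Rad (p : ℕ) (G : Type*) [Group G] : Prop :=
  ∀ D : Subgroup G, IsPGroup p D → D ≠ ⊥ →
    (pCore p (Subgroup.normalizer (D : Set G))).map (Subgroup.normalizer (D : Set G)).subtype = D →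
    ∀ x ∈ centralizer (D : Set G), ¬ p ∣ orderOf x → x ∈ center G

/-- A Sylow subgroup is radical. -/
theorem sylow_radical (P : Sylow p G) :
    (pCore p (Subgroup.normalizer ((P : Subgroup G) : Set G))).map
      (Subgroup.normalizer ((P : Subgroup G) : Set G)).subtype = (P : Subgroup G) := by
  have hcore : IsPGroup p ↥(pCore p ↥(Subgroup.normalizer ((P : Subgroup G) : Set G))) :=
    Lib.Cores.pCore_isPGroup p
  apply le_antisymm
  · have h2 : IsPGroup p ↥((pCore p ↥(Subgroup.normalizer ((P : Subgroup G) : Set G))).map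
        (Subgroup.normalizer ((P : Subgroup G) : Set G)).subtype ⊔ (P : Subgroup G)) := by
      refine IsPGroup.to_sup_of_normal_right' (hcore.map _) P.isPGroup' ?_
      rintro _ ⟨z, -, rfl⟩
      exact z.2
    have h3 := P.is_maximal' h2 le_sup_right
    exact le_sup_left.trans h3.le
  · intro x hx
    have hxN : x ∈ Subgroup.normalizer ((P : Subgroup G) : Set G) := Subgroup.le_normalizer hx
    have h1 : ((P : Subgroup G).subgroupOf (Subgroup.normalizer ((P : Subgroup G) : Set G))).Normal :=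
      Subgroup.normal_in_normalizer
    have h2 : IsPGroup p ((P : Subgroup G).subgroupOf (Subgroup.normalizer ((P : Subgroup G) : Set G))) :=
      P.isPGroup'.comap_subtype
    exact ⟨⟨x, hxN⟩, Lib.Cores.le_pCore h1 h2 hx, rfl⟩

theorem sylow_ne_bot (hdvd : p ∣ Nat.card G) (P : Sylow p G) : (P : Subgroup G) ≠ ⊥ := by
  have hp : p.Prime := Fact.out
  intro h
  have h1 := P.card_eq_multiplicity
  rw [h, Subgroup.card_bot] at h1
  have h2 := hp.factorization_pos_of_dvd Nat.card_pos.ne' hdvd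
  have h3 := Nat.one_lt_pow h2.ne' hp.one_lt
  omega

/-- A noncentral `p`-regular element does not centralise a Sylow `p`-subgroup. -/
theorem dvd_index (hdvd : p ∣ Nat.card G) (hrad : Rad p G) {c : G} (hc : ¬ p ∣ orderOf c) (hcc : c ∉ center G) :
    p ∣ (Subgroup.centralizer ({c} : Set G)).index := by
  have hp : p.Prime := Fact.out
  by_contra hcon
  obtain ⟨Q⟩ : Nonempty (Sylow p ↥(Subgroup.centralizer ({c} : Set G))) := inferInstance
  obtain ⟨P, hP⟩ : ∃ P : Sylow p G, (P : Subgroup G) ≤ Subgroup.centralizer ({c} : Set G) := by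
    have h1 : IsPGroup p ↥((Q : Subgroup ↥(Subgroup.centralizer ({c} : Set G))).map
        (Subgroup.centralizer ({c} : Set G)).subtype) := Q.isPGroup'.map _
    obtain ⟨P, hP⟩ := h1.exists_le_sylow
    refine ⟨P, ?_⟩
    have h2 : Nat.card ↥((Q : Subgroup ↥(Subgroup.centralizer ({c} : Set G))).map
        (Subgroup.centralizer ({c} : Set G)).subtype) = Nat.card P := by
      rw [Subgroup.card_map_of_injective (Subgroup.subtype_injective _)]
      rw [Q.card_eq_multiplicity, P.card_eq_multiplicity,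
        ← (Subgroup.centralizer ({c} : Set G)).card_mul_index,
        Nat.factorization_mul Nat.card_pos.ne' Subgroup.index_ne_zero_of_finite]
      simp [Nat.factorization_eq_zero_of_not_dvd hcon]
    have h3 : (Q : Subgroup ↥(Subgroup.centralizer ({c} : Set G))).map
        (Subgroup.centralizer ({c} : Set G)).subtype = P := Subgroup.eq_of_le_of_card_ge hP h2.ge
    rw [← h3]
    exact Subgroup.map_subtype_le _
  apply hcc
  refine hrad P P.isPGroup' (sylow_ne_bot hdvd P) (sylow_radical P) c ?_ hc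
  rw [Subgroup.mem_centralizer_iff]
  intro y hy
  exact (Subgroup.mem_centralizer_singleton_iff.1 (hP hy))

variable {M : Ideal AlgInt}

/-- **Every block has defect zero or full defect.** -/
theorem defect_of_rad (hrad : Rad p G) (hM : IsPModular p M) {B : Set (IrrCharacter G)} (hB : IsPBlock M B) :
    blockDefect p B = 0 ∨ blockDefect p B = (Nat.card G).factorization p := by
  obtain ⟨D, hD⟩ := H400.BlockDefect.exists_defectGroup hM hB
  have hDp := H400.BlockDefect.isPGroup_defectGroup hD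
  refine H400.BlockDefect.defect_of hM hB hD ?_
  by_cases hD1 : D = ⊥
  · exact Or.inl hD1
  right
  obtain ⟨P, hP⟩ := hDp.exists_le_sylow
  obtain ⟨x, hx, ⟨S, hS⟩, hPD⟩ := Cfsg.Agent.S0956.result p M hM B hB D hD P hP
  have hxc : x ∈ center G := by
    refine hrad D hDp hD1 (Cfsg.Agent.S0955.result p M hM B hB D hD) x ?_ hx
    rw [Subgroup.mem_centralizer_iff]
    intro y hy
    rw [← hS] at hy
    obtain ⟨z, -, rfl⟩ := hy
    exact (Subgroup.mem_centralizer_iff.1 z.2 x rfl).symm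
  refine ⟨P, ?_⟩
  rw [← hPD]
  have h4 : (P : Subgroup G).map (MulAut.conj x).toMonoidHom = P := by
    ext y
    have h5 : ∀ z : G, MulAut.conj x z = z := by
      intro z
      rw [MulAut.conj_apply, ← mem_center_iff.1 hxc z, mul_inv_cancel_right]
    constructor
    · rintro ⟨z, hz, rfl⟩
      change MulAut.conj x z ∈ _
      rw [h5]
      exact hz
    · intro hy
      exact ⟨y, hy, h5 y⟩
  rw [h4, inf_idem]

/-- A character not of defect zero lies in a block with a character of degree prime to `p`. -/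
theorem exists_degree (hrad : Rad p G) (hM : IsPModular p M) (ψ : IrrCharacter G)
    (hψ : p ∣ Nat.card G / charDegree (ψ : G → ℂ)) :
    ∃ ψ₀ : IrrCharacter G, ψ₀ ∈ blockOf M (ψ : G → ℂ) ∧ ¬ p ∣ charDegree (ψ₀ : G → ℂ) := by
  have hp : p.Prime := Fact.out
  have hself := GowBlock.self_mem hM ψ
  have hB : IsPBlock M (blockOf M (ψ : G → ℂ)) := ⟨ψ, rfl⟩
  have hne : ((fun χ : IrrCharacter G => (charDegree (χ : G → ℂ)).factorization p) ''
      blockOf M (ψ : G → ℂ)).Nonempty := ⟨_, ψ, hself, rfl⟩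
  obtain ⟨ψ₀, hψ₀, h0⟩ := Nat.sInf_mem hne
  have h0' : (charDegree (ψ₀ : G → ℂ)).factorization p = sInf ((fun χ : IrrCharacter G =>
      (charDegree (χ : G → ℂ)).factorization p) '' blockOf M (ψ : G → ℂ)) := h0
  refine ⟨ψ₀, hψ₀, fun hdvd => ?_⟩
  have hle : sInf ((fun χ : IrrCharacter G => (charDegree (χ : G → ℂ)).factorization p) ''
      blockOf M (ψ : G → ℂ)) ≤ (charDegree (ψ : G → ℂ)).factorization p := Nat.sInf_le ⟨ψ, hself, rfl⟩
  have h1 : ¬ (Nat.card G).factorization p ≤ (charDegree (ψ : G → ℂ)).factorization p := by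
    intro h
    exact ((H143.ChevBlocks.not_dvd_iff ψ.2).2 h) hψ
  obtain ⟨m, hm⟩ := Blocks.Knorr.charDegree_dvd ψ₀.2
  have hd0 : charDegree (ψ₀ : G → ℂ) ≠ 0 := by
    intro h
    rw [h, zero_mul] at hm
    exact Nat.card_pos.ne' hm
  have h2 := hp.factorization_pos_of_dvd hd0 hdvd
  rcases defect_of_rad hrad hM hB with h | h
  · unfold blockDefect at h
    omega
  · unfold blockDefect at h
    omega

/-- A block with a character of degree prime to `p` has vanishing central characters modulo `p` at the elements with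
class size divisible by `p`. -/
theorem centralChar_mem_of_dvd (hM : IsPModular p M) (ψ ψ₀ : IrrCharacter G) (h : ψ₀ ∈ blockOf M (ψ : G → ℂ))
    (hd : ¬ p ∣ charDegree (ψ₀ : G → ℂ)) {z : G} (hz : p ∣ (centralizer ({z} : Set G)).index) :
    MemLocalIdeal M (centralChar (ψ : G → ℂ) z) := by
  have hMp := Blocks.Local.isPrime_of_isPModular hM
  have h1 : MemLocalIdeal M (centralChar (ψ : G → ℂ) z - centralChar (ψ₀ : G → ℂ) z) := h z
  have h2 : MemLocalIdeal M (centralChar (ψ₀ : G → ℂ) z) := by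
    obtain ⟨m, hm⟩ := hz
    obtain ⟨hd1, hd0, -⟩ := S0914.degree_spec ψ₀
    have hdN : ¬ MemLocalIdeal M ((charDegree (ψ₀ : G → ℂ) : ℕ) : ℂ) := by
      rw [Blocks.Local.memLocalIdeal_natCast_iff hM]
      exact hd
    have h3 : centralChar (ψ₀ : G → ℂ) z * ((charDegree (ψ₀ : G → ℂ) : ℕ) : ℂ) =
        ((centralizer ({z} : Set G)).index : ℂ) * (ψ₀ : G → ℂ) z := by
      unfold centralChar
      rw [← hd1, div_mul_cancel₀ _ (Blocks.Basic.irr_one_ne_zero ψ₀.2)]
    have h4 : MemLocalIdeal M (((centralizer ({z} : Set G)).index : ℂ) * (ψ₀ : G → ℂ) z) := by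
      refine Blocks.Local.memLocalIdeal_mul_right ?_
        (Blocks.Local.memLocalRing_of_isIntegral (CharactersDeep.ModCongr.isIntegral_irr ψ₀.2 z))
      rw [Blocks.Local.memLocalIdeal_natCast_iff hM]
      exact ⟨m, hm⟩
    rw [← h3] at h4
    have h5 : MemLocalRing M (centralChar (ψ₀ : G → ℂ) z) := Blocks.Local.memLocalRing_of_isIntegral (by
      obtain ⟨ψ₀, n, ρ, hρ, rfl⟩ := ψ₀
      have := Characters.CentralCharacter.isIntegral_index_mul_character_div ρ z
      unfold centralChar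
      change IsIntegral ℤ (((centralizer ({z} : Set G)).index : ℂ) * ρ.character z / ρ.character 1)
      rwa [Representation.char_one])
    rcases (Blocks.LocalRing.memLocalIdeal_mul_iff hM h5 (Blocks.LocalRing.memLocalRing_natCast hM _)).1 h4 with h | h
    · exact h
    · exact absurd h hdN
  have h5 := Blocks.Local.memLocalIdeal_add h1 h2
  rwa [sub_add_cancel] at h5

/-- At a `p`-element whose class has size prime to `p` the central character of a block with a character of degree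
prime to `p` is the class size. -/
theorem centralChar_mem_root (hM : IsPModular p M) (ψ ψ₀ : IrrCharacter G) (h : ψ₀ ∈ blockOf M (ψ : G → ℂ))
    (hd : ¬ p ∣ charDegree (ψ₀ : G → ℂ)) {z : G} (hz : ∃ k, orderOf z = p ^ k) :
    MemLocalIdeal M (((centralizer ({z} : Set G)).index : ℂ) - centralChar (ψ : G → ℂ) z) := by
  have hMp := Blocks.Local.isPrime_of_isPModular hM
  have h1 : MemLocalIdeal M (centralChar (ψ : G → ℂ) z - centralChar (ψ₀ : G → ℂ) z) := h z
  have h2 : MemLocalIdeal M (((centralizer ({z} : Set G)).index : ℂ) - centralChar (ψ₀ : G → ℂ) z) := by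
    obtain ⟨hd1, hd0, -⟩ := S0914.degree_spec ψ₀
    have hdN : ¬ MemLocalIdeal M ((charDegree (ψ₀ : G → ℂ) : ℕ) : ℂ) := by
      rw [Blocks.Local.memLocalIdeal_natCast_iff hM]
      exact hd
    have h3 : (((centralizer ({z} : Set G)).index : ℂ) - centralChar (ψ₀ : G → ℂ) z) *
        ((charDegree (ψ₀ : G → ℂ) : ℕ) : ℂ) =
        -(((centralizer ({z} : Set G)).index : ℂ) * ((ψ₀ : G → ℂ) z - (ψ₀ : G → ℂ) 1)) := by
      unfold centralChar
      rw [sub_mul, ← hd1, div_mul_cancel₀ _ (Blocks.Basic.irr_one_ne_zero ψ₀.2)]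
      ring
    have hcong : MemLocalIdeal M ((ψ₀ : G → ℂ) z - (ψ₀ : G → ℂ) 1) := by
      have h6 := CharactersDeep.ModCongr.memLocalIdeal_character_sub hM ψ₀.2 z z ⟨1, by rw [mul_one],
        Commute.one_right z, hz, by rw [orderOf_one]; exact fun h => (Fact.out : p.Prime).one_lt.ne' (Nat.dvd_one.1 h)⟩
      rwa [inv_mul_cancel] at h6
    have h4 : MemLocalIdeal M ((((centralizer ({z} : Set G)).index : ℂ) - centralChar (ψ₀ : G → ℂ) z) *
        ((charDegree (ψ₀ : G → ℂ) : ℕ) : ℂ)) := by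
      rw [h3]
      refine Blocks.Local.memLocalIdeal_neg (Blocks.Local.memLocalIdeal_mul_left ?_ hcong)
      exact Blocks.LocalRing.memLocalRing_natCast hM _
    have h5 : MemLocalRing M (((centralizer ({z} : Set G)).index : ℂ) - centralChar (ψ₀ : G → ℂ) z) :=
      Blocks.Local.memLocalRing_of_isIntegral (by
      obtain ⟨ψ₀, n, ρ, hρ, rfl⟩ := ψ₀
      have := Characters.CentralCharacter.isIntegral_index_mul_character_div ρ z
      unfold centralChar
      change IsIntegral ℤ (((centralizer ({z} : Set G)).index : ℂ) -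
        ((centralizer ({z} : Set G)).index : ℂ) * ρ.character z / ρ.character 1)
      rw [Representation.char_one]
      exact (isIntegral_algebraMap (R := ℤ) (A := ℂ) (x := ((centralizer ({z} : Set G)).index : ℤ))).sub this)
    rcases (Blocks.LocalRing.memLocalIdeal_mul_iff hM h5 (Blocks.LocalRing.memLocalRing_natCast hM _)).1 h4 with h | h
    · exact h
    · exact absurd h hdN
  have h5 := Blocks.Local.memLocalIdeal_sub h2 h1
  have e : ((centralizer ({z} : Set G)).index : ℂ) - centralChar (ψ₀ : G → ℂ) z -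
      (centralChar (ψ : G → ℂ) z - centralChar (ψ₀ : G → ℂ) z) =
      ((centralizer ({z} : Set G)).index : ℂ) - centralChar (ψ : G → ℂ) z := by ring
  rwa [e] at h5

end Blocks

section Gow

variable {G : Type*} [Group G] [Finite G] {p : ℕ} [Fact p.Prime]

/-- the Steinberg character -/
structure St (p : ℕ) (G : Type*) [Group G] (χ : G → ℂ) : Prop where
  irr : IsIrrCharacter G χ
  one : χ 1 = ((p ^ (Nat.card G).factorization p : ℕ) : ℂ)
  val : ∀ g : G, ¬ p ∣ orderOf g →
    χ g = ((p ^ (Nat.card ↥(centralizer ({g} : Set G))).factorization p : ℕ) : ℂ) ∨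
    χ g = -((p ^ (Nat.card ↥(centralizer ({g} : Set G))).factorization p : ℕ) : ℂ)
  uniq : ∀ ψ ψ' : IrrCharacter G, ¬ p ∣ Nat.card G / charDegree (ψ : G → ℂ) →
    ¬ p ∣ Nat.card G / charDegree (ψ' : G → ℂ) → ψ = ψ'

theorem St.defect {χ : G → ℂ} (h : St p G χ) : ¬ p ∣ Nat.card G / charDegree χ := by
  have hp : p.Prime := Fact.out
  have hdeg : charDegree χ = p ^ (Nat.card G).factorization p := Blocks.Basic.charDegree_of_eq h.one
  rw [H143.ChevBlocks.not_dvd_iff h.irr, hdeg, hp.factorization_pow]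
  simp

theorem St.dvd_of_ne {χ : G → ℂ} (h : St p G χ) {ψ : IrrCharacter G} (hψ : ψ ≠ ⟨χ, h.irr⟩) :
    p ∣ Nat.card G / charDegree (ψ : G → ℂ) := by
  by_contra hcon
  exact hψ (h.uniq ψ ⟨χ, h.irr⟩ hcon h.defect)

theorem St.val_reg {χ : G → ℂ} (h : St p G χ) {w : G} (hw : ¬ p ∣ Nat.card ↥(centralizer ({w} : Set G))) :
    χ w = 1 ∨ χ w = -1 := by
  have h1 : ¬ p ∣ orderOf w := by
    intro h
    apply hw
    refine h.trans ?_
    have h2 : w ∈ centralizer ({w} : Set G) := mem_centralizer_singleton_iff.2 rfl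
    rw [← orderOf_mk w h2]
    exact orderOf_dvd_natCard _
  have h3 := h.val w h1
  rw [Nat.factorization_eq_zero_of_not_dvd hw, pow_zero, Nat.cast_one] at h3
  exact h3

theorem sum_zero {x y z : G} (hcon : ∀ g h : G, g * x * g⁻¹ * (h * y * h⁻¹) ≠ z) [Fintype (IrrCharacter G)] :
    ∑ ψ : IrrCharacter G, (ψ : G → ℂ) x * (ψ : G → ℂ) y * centralChar (ψ : G → ℂ) z⁻¹ = 0 := by
  have hcount : Nat.card {q : G × G // q.1 * x * q.1⁻¹ * (q.2 * y * q.2⁻¹) = z} = 0 := by
    have : IsEmpty {q : G × G // q.1 * x * q.1⁻¹ * (q.2 * y * q.2⁻¹) = z} := ⟨fun q => hcon _ _ q.2⟩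
    exact Nat.card_of_isEmpty
  have hsum := Characters.ClassMul.card_conj_mul_conj x y z
  rw [hcount, Nat.cast_zero] at hsum
  have hc0 : (Nat.card G : ℂ) ≠ 0 := by exact_mod_cast Nat.card_pos.ne'
  have hsum0 := (mul_eq_zero.1 hsum.symm).resolve_left hc0
  have h1 : ∀ ψ : IrrCharacter G, (ψ : G → ℂ) x * (ψ : G → ℂ) y * centralChar (ψ : G → ℂ) z⁻¹ =
      ((centralizer ({z⁻¹} : Set G)).index : ℂ) *
        ((ψ : G → ℂ) x * (ψ : G → ℂ) y * conj ((ψ : G → ℂ) z) / (ψ : G → ℂ) 1) := by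
    intro ψ
    unfold centralChar
    rw [Blocks.CyclicUpper.conj_irr ψ z]
    ring
  rw [Finset.sum_congr rfl fun ψ _ => h1 ψ, ← Finset.mul_sum, hsum0, mul_zero]

theorem centralizer_inv (z : G) : centralizer ({z⁻¹} : Set G) = centralizer ({z} : Set G) := by
  ext g
  rw [mem_centralizer_singleton_iff, mem_centralizer_singleton_iff]
  constructor
  · intro h
    have h1 : Commute g z⁻¹ := h
    exact (Commute.inv_right_iff.1 h1)
  · intro h
    have h1 : Commute g z := h
    exact (Commute.inv_right_iff.2 h1)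

/-- **Gow's theorem**, abstract form. -/
theorem reg_of_rad (hdvd : p ∣ Nat.card G) (hrad : Rad p G) {χ : G → ℂ} (hχ : St p G χ) {x y z : G}
    (hx : ¬ p ∣ Nat.card ↥(centralizer ({x} : Set G))) (hy : ¬ p ∣ Nat.card ↥(centralizer ({y} : Set G)))
    (hz : z ∉ center G) (hzr : ¬ p ∣ orderOf z) : ∃ g h : G, g * x * g⁻¹ * (h * y * h⁻¹) = z := by
  classical
  have hp : p.Prime := Fact.out
  have : Fintype (IrrCharacter G) := @Fintype.ofFinite _ S0909.finite_irr
  obtain ⟨M, hM⟩ := Blocks.ExistsModular.exists_isPModular hp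
  have hMp := Blocks.Local.isPrime_of_isPModular hM
  let st : IrrCharacter G := ⟨χ, hχ.irr⟩
  by_contra hcon
  push Not at hcon
  have hsum1 := sum_zero hcon
  have hzri : ¬ p ∣ orderOf z⁻¹ := by rwa [orderOf_inv]
  have hzi : p ∣ (centralizer ({z⁻¹} : Set G)).index := by
    rw [centralizer_inv]
    exact dvd_index hdvd hrad hzr hz
  have hmem : ∀ ψ : IrrCharacter G, ψ ≠ st →
      MemLocalIdeal M ((ψ : G → ℂ) x * (ψ : G → ℂ) y * centralChar (ψ : G → ℂ) z⁻¹) := by
    intro ψ hψ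
    obtain ⟨ψ₀, h1, h2⟩ := exists_degree hrad hM ψ (hχ.dvd_of_ne hψ)
    refine Blocks.Local.memLocalIdeal_mul_left ?_ (centralChar_mem_of_dvd hM ψ ψ₀ h1 h2 hzi)
    exact Blocks.Local.memLocalRing_of_isIntegral
      ((CharactersDeep.ModCongr.isIntegral_irr ψ.2 x).mul (CharactersDeep.ModCongr.isIntegral_irr ψ.2 y))
  have hstm : MemLocalIdeal M ((st : G → ℂ) x * (st : G → ℂ) y * centralChar (st : G → ℂ) z⁻¹) := by
    have h1 : (st : G → ℂ) x * (st : G → ℂ) y * centralChar (st : G → ℂ) z⁻¹ =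
        - ∑ ψ ∈ Finset.univ.erase st, (ψ : G → ℂ) x * (ψ : G → ℂ) y * centralChar (ψ : G → ℂ) z⁻¹ := by
      rw [eq_neg_iff_add_eq_zero]
      rw [← Finset.add_sum_erase Finset.univ
        (fun ψ : IrrCharacter G => (ψ : G → ℂ) x * (ψ : G → ℂ) y * centralChar (ψ : G → ℂ) z⁻¹)
        (Finset.mem_univ st)] at hsum1
      exact hsum1
    rw [h1]
    refine Blocks.Local.memLocalIdeal_neg (Blocks.Local.memLocalIdeal_sum fun ψ hψ => ?_)
    exact hmem ψ (Finset.ne_of_mem_erase hψ)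
  obtain ⟨m, hm, hω⟩ : ∃ m : ℕ, ¬ p ∣ m ∧ (centralChar χ z⁻¹ = (m : ℂ) ∨ centralChar χ z⁻¹ = -(m : ℂ)) := by
    have h1 := (centralizer ({z⁻¹} : Set G)).card_mul_index
    have hi0 : (centralizer ({z⁻¹} : Set G)).index ≠ 0 := Subgroup.index_ne_zero_of_finite
    have hfac : (Nat.card G).factorization p = (Nat.card ↥(centralizer ({z⁻¹} : Set G))).factorization p +
        (centralizer ({z⁻¹} : Set G)).index.factorization p := by
      rw [← h1, Nat.factorization_mul Nat.card_pos.ne' hi0]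
      rfl
    refine ⟨ordCompl[p] (centralizer ({z⁻¹} : Set G)).index, Nat.not_dvd_ordCompl hp hi0, ?_⟩
    have h2 : ((centralizer ({z⁻¹} : Set G)).index : ℂ) =
        (p : ℂ) ^ (centralizer ({z⁻¹} : Set G)).index.factorization p *
          ((ordCompl[p] (centralizer ({z⁻¹} : Set G)).index : ℕ) : ℂ) := by
      rw [← Nat.cast_pow, ← Nat.cast_mul, Nat.ordProj_mul_ordCompl_eq_self]
    have hp0 : (p : ℂ) ≠ 0 := by exact_mod_cast hp.ne_zero
    unfold centralChar
    rcases hχ.val z⁻¹ hzri with h3 | h3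
    · left
      rw [h3, hχ.one, hfac, h2, pow_add, Nat.cast_mul, Nat.cast_pow, Nat.cast_pow]
      field_simp
    · right
      rw [h3, hχ.one, hfac, h2, pow_add, Nat.cast_mul, Nat.cast_pow, Nat.cast_pow]
      field_simp
  have hmm : MemLocalIdeal M (m : ℂ) := by
    have h1 : MemLocalIdeal M (χ x * χ y * centralChar χ z⁻¹) := hstm
    rcases hχ.val_reg hx with h2 | h2 <;> rcases hχ.val_reg hy with h3 | h3 <;> rcases hω with h4 | h4 <;>
      rw [h2, h3, h4] at h1 <;> simpa [Blocks.Local.memLocalIdeal_neg_iff] using h1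
  exact hm ((Blocks.Local.memLocalIdeal_natCast_iff hM m).1 hmm)

/-- **Gow's theorem for `p`-elements with class size prime to `p`**, abstract form. -/
theorem root_of_rad (hrad : Rad p G) {χ : G → ℂ} (hχ : St p G χ) {x y z : G}
    (hx : ¬ p ∣ Nat.card ↥(centralizer ({x} : Set G))) (hy : ¬ p ∣ Nat.card ↥(centralizer ({y} : Set G)))
    (hxy : ¬ IsConj x y⁻¹) (hz : ∃ k, orderOf z = p ^ k) (hz1 : z ≠ 1)
    (hzc : ¬ p ∣ (centralizer ({z} : Set G)).index) :
    ∃ g h : G, g * x * g⁻¹ * (h * y * h⁻¹) = z := by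
  classical
  have hp : p.Prime := Fact.out
  have : Fintype (IrrCharacter G) := @Fintype.ofFinite _ S0909.finite_irr
  obtain ⟨M, hM⟩ := Blocks.ExistsModular.exists_isPModular hp
  have hMp := Blocks.Local.isPrime_of_isPModular hM
  let st : IrrCharacter G := ⟨χ, hχ.irr⟩
  by_contra hcon
  push Not at hcon
  have hsum1 := sum_zero hcon
  set m : ℕ := (centralizer ({z⁻¹} : Set G)).index with hm
  have hmp : ¬ p ∣ m := by rw [hm, centralizer_inv]; exact hzc
  obtain ⟨k, hk⟩ := hz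
  have hk0 : k ≠ 0 := by
    rintro rfl
    rw [pow_zero, orderOf_eq_one_iff] at hk
    exact hz1 hk
  have hzip : p ∣ orderOf z⁻¹ := by
    rw [orderOf_inv, hk]
    exact dvd_pow_self p hk0
  have hst0 : χ z⁻¹ = 0 := by
    obtain ⟨l, ρ, hρ, hρχ⟩ := hχ.irr
    have h0 : χ = ρ.character := hρχ.symm
    rw [h0]
    refine S0165.result ρ p ((Nat.card G).factorization p) hp (Nat.ordProj_dvd _ _) ?_ ?_ z⁻¹ hzip
    · exact Nat.pow_succ_factorization_not_dvd Nat.card_pos.ne' hp
    · have h1 : ((Module.finrank ℂ (Fin l → ℂ) : ℕ) : ℂ) = ((p ^ (Nat.card G).factorization p : ℕ) : ℂ) := by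
        rw [← ρ.char_one, ← h0]; exact hχ.one
      have h2 : Module.finrank ℂ (Fin l → ℂ) = p ^ (Nat.card G).factorization p := by exact_mod_cast h1
      rw [h2]
  have hint : ∀ ψ : IrrCharacter G, MemLocalRing M ((ψ : G → ℂ) x * (ψ : G → ℂ) y) := fun ψ =>
    Blocks.Local.memLocalRing_of_isIntegral
      ((CharactersDeep.ModCongr.isIntegral_irr ψ.2 x).mul (CharactersDeep.ModCongr.isIntegral_irr ψ.2 y))
  have hmem : ∀ ψ : IrrCharacter G, ψ ≠ st →
      MemLocalIdeal M ((ψ : G → ℂ) x * (ψ : G → ℂ) y * ((m : ℂ) - centralChar (ψ : G → ℂ) z⁻¹)) := by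
    intro ψ hψ
    obtain ⟨ψ₀, h1, h2⟩ := exists_degree hrad hM ψ (hχ.dvd_of_ne hψ)
    refine Blocks.Local.memLocalIdeal_mul_left (hint ψ)
      (centralChar_mem_root hM ψ ψ₀ h1 h2 ⟨k, by rw [orderOf_inv, hk]⟩)
  have horth : ∑ ψ : IrrCharacter G, (ψ : G → ℂ) x * (ψ : G → ℂ) y = 0 := by
    have h1 := S0848.column_orth x y⁻¹
    have h2 : Nat.card {a : G // a * x * a⁻¹ = y⁻¹} = 0 := by
      have : IsEmpty {a : G // a * x * a⁻¹ = y⁻¹} := ⟨fun a => hxy (isConj_iff.2 ⟨a, a.2⟩)⟩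
      exact Nat.card_of_isEmpty
    rw [h2, Nat.cast_zero] at h1
    rw [h1]
    refine Finset.sum_congr rfl fun ψ _ => ?_
    rw [← Blocks.CyclicUpper.conj_irr ψ y]
    simp
  have hfin : MemLocalIdeal M (χ x * χ y * (m : ℂ)) := by
    have h1 : ∑ ψ ∈ Finset.univ.erase st, (ψ : G → ℂ) x * (ψ : G → ℂ) y * ((m : ℂ) - centralChar (ψ : G → ℂ) z⁻¹) =
        - (χ x * χ y * (m : ℂ)) := by
      have h2 : ∑ ψ : IrrCharacter G, (ψ : G → ℂ) x * (ψ : G → ℂ) y * ((m : ℂ) - centralChar (ψ : G → ℂ) z⁻¹) = 0 := by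
        simp only [mul_sub]
        rw [Finset.sum_sub_distrib, hsum1, ← Finset.sum_mul, horth, zero_mul, sub_zero]
      rw [← Finset.add_sum_erase Finset.univ _ (Finset.mem_univ st)] at h2
      have h3 : centralChar (st : G → ℂ) z⁻¹ = 0 := by
        unfold centralChar
        change _ * χ z⁻¹ / χ 1 = 0
        rw [hst0, mul_zero, zero_div]
      rw [h3, sub_zero] at h2
      exact eq_neg_of_add_eq_zero_right h2
    have h4 : MemLocalIdeal M (- (χ x * χ y * (m : ℂ))) := by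
      rw [← h1]
      exact Blocks.Local.memLocalIdeal_sum fun ψ hψ => hmem ψ (Finset.ne_of_mem_erase hψ)
    exact (Blocks.Local.memLocalIdeal_neg_iff).1 h4
  have hmm : MemLocalIdeal M (m : ℂ) := by
    rcases hχ.val_reg hx with h2 | h2 <;> rcases hχ.val_reg hy with h3 | h3 <;>
      rw [h2, h3] at hfin <;> simpa [Blocks.Local.memLocalIdeal_neg_iff] using hfin
  exact hmp ((Blocks.Local.memLocalIdeal_natCast_iff hM m).1 hmm)

end Gow

section LocRad

variable {Γ S : Type*} [Group Γ] [Finite Γ] [Group S] [Finite S] {π : Γ →* S} {p : ℕ} [Fact p.Prime]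

theorem mem_of_map {D : Subgroup Γ} (hc : π.ker ≤ center Γ) (hk : ¬ p ∣ Nat.card π.ker)
    (hD : IsPGroup p D) {g : Γ} (hg : ∃ n, g ^ p ^ n = 1) (h : π g ∈ D.map π) : g ∈ D := by
  have hp : p.Prime := Fact.out
  obtain ⟨d, hd, hdg⟩ := h
  obtain ⟨n, hn⟩ := hg
  obtain ⟨m, hm⟩ := hD ⟨d, hd⟩
  have hm' : d ^ p ^ m = 1 := congrArg Subtype.val hm
  have h1 : d⁻¹ * g ∈ π.ker := by rw [MonoidHom.mem_ker, map_mul, map_inv, hdg, inv_mul_cancel]
  have h2 : Commute d (d⁻¹ * g) := mem_center_iff.1 (hc h1) d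
  have h3 : (d⁻¹ * g) ^ p ^ (n + m) = 1 := by
    have h4 : Commute d g := by
      have := h2.mul_right (Commute.refl d)
      have h5 : d * (d⁻¹ * g) = g := by group
      have h6 : Commute d (d * (d⁻¹ * g)) := (Commute.refl d).mul_right h2
      rwa [h5] at h6
    rw [(h4.inv_left).mul_pow, inv_pow, pow_add, mul_comm (p ^ n), pow_mul d, hm', one_pow, inv_one, one_mul,
      mul_comm (p ^ m), pow_mul g, hn, one_pow]
  have h4 : d⁻¹ * g = 1 := eq_one_of_ker (n := p ^ (n + m))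
    (Nat.Coprime.pow_left _ ((Nat.Prime.coprime_iff_not_dvd hp).2 hk)) h1 h3
  have h5 : g = d := by
    have h6 : g = d * (d⁻¹ * g) := by group
    rw [h6, h4, mul_one]
  rwa [h5]

theorem conj_mem_of_map {D : Subgroup Γ} (hc : π.ker ≤ center Γ) (hk : ¬ p ∣ Nat.card π.ker)
    (hD : IsPGroup p D) {g : Γ} (hg : π g ∈ normalizer ((D.map π : Subgroup S) : Set S)) :
    g ∈ normalizer (D : Set Γ) := by
  have key : ∀ g : Γ, π g ∈ normalizer ((D.map π : Subgroup S) : Set S) → ∀ d ∈ D, g * d * g⁻¹ ∈ D := by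
    intro g hg d hd
    obtain ⟨m, hm⟩ := hD ⟨d, hd⟩
    have hm' : d ^ p ^ m = 1 := congrArg Subtype.val hm
    refine mem_of_map hc hk hD ⟨m, ?_⟩ ?_
    · rw [conj_pow, hm', mul_one, mul_inv_cancel]
    · rw [map_mul, map_mul, map_inv]
      exact (mem_normalizer_iff.1 hg (π d)).1 ⟨d, hd, rfl⟩
  rw [mem_normalizer_iff]
  intro d
  constructor
  · exact key g hg d
  · intro h
    have h1 := key g⁻¹ (by rw [map_inv]; exact inv_mem hg) _ h
    have e : g⁻¹ * (g * d * g⁻¹) * g⁻¹⁻¹ = d := by group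
    rwa [e] at h1

/-- The radical `p`-subgroups of a central extension of a group of local characteristic `p`. -/
theorem rad_of_locChar (hs : Function.Surjective π) (hc : π.ker ≤ center Γ) (hk : ¬ p ∣ Nat.card π.ker)
    (hL : BpLieP.Big.LocChar p S) : Rad p Γ := by
  have hp : p.Prime := Fact.out
  intro D hD hD1 hrad x hx hxp
  apply hc
  rw [MonoidHom.mem_ker]
  set D' : Subgroup S := D.map π with hD'
  have hD'p : IsPGroup p D' := hD.map π
  have hD'1 : D' ≠ ⊥ := by
    intro h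
    apply hD1
    rw [eq_bot_iff]
    intro d hd
    have h1 : π d = 1 := by
      have : π d ∈ D' := ⟨d, hd, rfl⟩
      rwa [h, mem_bot] at this
    obtain ⟨m, hm⟩ := hD ⟨d, hd⟩
    exact eq_one_of_ker (n := p ^ m) (Nat.Coprime.pow_left _ ((Nat.Prime.coprime_iff_not_dvd hp).2 hk)) h1
      (congrArg Subtype.val hm)
  have hloc := hL D' hD'p hD'1
  -- the core
  set N' : Subgroup S := normalizer (D' : Set S) with hN'
  have hcore : IsPGroup p ↥(pCore p ↥N') := Lib.Cores.pCore_isPGroup p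
  set Q' : Subgroup S := (pCore p ↥N').map N'.subtype with hQ'
  have hQ'p : IsPGroup p Q' := hcore.map _
  have hQ'N : Q' ≤ N' := map_subtype_le _
  have hcop : (Nat.card Q').Coprime (Nat.card π.ker) := by
    obtain ⟨k, hk'⟩ := hQ'p.exists_card_eq
    rw [hk']
    exact Nat.Coprime.pow_left _ ((Nat.Prime.coprime_iff_not_dvd hp).2 hk)
  set Q : Subgroup Γ := up hs hc Q' with hQ
  have hQp : IsPGroup p Q := by
    obtain ⟨k, hk'⟩ := hQ'p.exists_card_eq
    rintro ⟨g, hg⟩
    refine ⟨k, Subtype.ext ?_⟩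
    have h1 := hg.2
    rw [hk'] at h1
    exact h1
  have hQN : Q ≤ normalizer (D : Set Γ) := by
    intro g hg
    exact conj_mem_of_map hc hk hD (hQ'N hg.1)
  have hnorm : ∀ n ∈ normalizer (D : Set Γ), π n ∈ N' := by
    intro n hn
    rw [hN', mem_normalizer_iff]
    have key : ∀ n ∈ normalizer (D : Set Γ), ∀ s ∈ D', π n * s * (π n)⁻¹ ∈ D' := by
      rintro n hn _ ⟨d, hd, rfl⟩
      exact ⟨n * d * n⁻¹, (mem_normalizer_iff.1 hn d).1 hd, by rw [map_mul, map_mul, map_inv]⟩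
    intro s
    constructor
    · exact key n hn s
    · intro h
      have h1 := key n⁻¹ (inv_mem hn) _ h
      rw [map_inv] at h1
      have e : (π n)⁻¹ * (π n * s * (π n)⁻¹) * ((π n)⁻¹)⁻¹ = s := by group
      rwa [e] at h1
  have hQnorm : (Q.subgroupOf (normalizer (D : Set Γ))).Normal := by
    constructor
    rintro ⟨g, hgN⟩ hg ⟨n, hn⟩
    rw [mem_subgroupOf] at hg ⊢
    change n * g * n⁻¹ ∈ Q
    change g ∈ Q at hg
    refine ⟨?_, ?_⟩
    · obtain ⟨⟨q, hqN⟩, hq, hqg⟩ := hg.1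
      have h2 : (⟨π n, hnorm n hn⟩ : N') * ⟨q, hqN⟩ * (⟨π n, hnorm n hn⟩ : N')⁻¹ ∈ pCore p ↥N' :=
        (inferInstance : (pCore p ↥N').Normal).conj_mem _ hq _
      refine ⟨_, h2, ?_⟩
      rw [map_mul π, map_mul π, map_inv π, ← hqg]
      rfl
    · rw [conj_pow, hg.2, mul_one, mul_inv_cancel]
  have hQD : Q ≤ D := by
    intro g hg
    have h1 := Lib.Cores.le_pCore hQnorm (hQp.comap_subtype) (x := ⟨g, hQN hg⟩) (mem_subgroupOf.2 hg)
    rw [← hrad]
    exact ⟨_, h1, rfl⟩
  have hQ'D : Q' ≤ D' := by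
    intro s hs'
    obtain ⟨g, hg, rfl⟩ := exists_up hs hc Q' hcop hs'
    exact ⟨g, hQD hg, rfl⟩
  -- `π x` centralises `Q'`
  have hxD : ∀ s ∈ D', s * π x = π x * s := by
    rintro _ ⟨d, hd, rfl⟩
    rw [← map_mul, ← map_mul, mem_centralizer_iff.1 hx d hd]
  have hxN : π x ∈ N' := by
    rw [hN', mem_normalizer_iff]
    intro s
    constructor
    · intro h
      rwa [← hxD s h, mul_inv_cancel_right]
    · intro h
      have h1 := hxD _ h
      have h2 : π x * s * (π x)⁻¹ = s := by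
        have h3 : s = (π x)⁻¹ * (π x * s * (π x)⁻¹ * π x) := by group
        have h4 : (π x)⁻¹ * (π x * (π x * s * (π x)⁻¹)) = π x * s * (π x)⁻¹ := by group
        rw [h1, h4] at h3
        exact h3.symm
      rwa [h2] at h
  have hxQ : (⟨π x, hxN⟩ : N') ∈ pCore p ↥N' := by
    apply hloc
    rw [mem_centralizer_iff]
    intro s hs'
    refine Subtype.ext ?_
    change (s : S) * π x = π x * s
    exact hxD _ (hQ'D ⟨s, hs', rfl⟩)
  obtain ⟨k, hk'⟩ := hcore ⟨_, hxQ⟩
  have h1 : (π x) ^ p ^ k = 1 := congrArg (fun a => ((a : ↥N') : S)) (congrArg Subtype.val hk')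
  have h2 : orderOf (π x) ∣ p ^ k := orderOf_dvd_of_pow_eq_one h1
  have h3 : orderOf (π x) ∣ orderOf x := orderOf_map_dvd π x
  have h4 : (p ^ k).Coprime (orderOf x) := Nat.Coprime.pow_left _ ((Nat.Prime.coprime_iff_not_dvd hp).2 hxp)
  exact orderOf_eq_one_iff.1 (Nat.dvd_one.1 (h4 ▸ Nat.dvd_gcd h2 h3))

end LocRad

section Cover

variable {Γ S : Type*} [Group Γ] [Finite Γ] [Group S] [Finite S] {π : Γ →* S} {p : ℕ} [Fact p.Prime]

/-- **The Steinberg character of a central extension.** -/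
theorem exists_st_cover (hπ : H80.Fpf.IsCover π) (hk : ¬ p ∣ Nat.card π.ker) (P : Cfsg.BNPair S) {U : Subgroup S}
    (hU : FixBN.Split P p U) {T : Subgroup S} (hTB : T ≤ P.B) (hdec : ∀ b ∈ P.B, ∃ u ∈ U, ∃ t ∈ T, b = u * t)
    (hab : ∀ a b : Γ, π a ∈ T → π b ∈ T → a * b = b * a) : ∃ χ, St p Γ χ := by
  classical
  have hN : ((P.B ⊓ P.N).subgroupOf P.N).Normal := Tits.OfBN.normal_subgroupOf P
  obtain ⟨M, cs, hcs⟩ := S0320.result P
  set S0 := FixBN.OfBN.sys (Equiv.refl P.S) cs hcs hU with hS0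
  have : Fintype (S ⧸ P.B) := Fintype.ofFinite _
  have : Finite P.S := inferInstance
  have : Fintype P.S := Fintype.ofFinite _
  let _ := act (S ⧸ P.B) π
  let S1 := lift S0 π hπ.surj hπ.central hk
  have hth := Tits.OfBN.thick P (Equiv.refl P.S) cs hcs
  have htr : ∀ x y : S ⧸ P.B, ∃ g : Γ, g • x = y := by
    intro x y
    obtain ⟨g, hg⟩ := MulAction.exists_smul_eq S x y
    obtain ⟨γ, rfl⟩ := hπ.surj g
    exact ⟨γ, hg⟩
  obtain ⟨a0, ha0⟩ := Tits.Opp.exists_opp (Tits.OfBN.bldg P (Equiv.refl P.S) cs hcs) (QuotientGroup.mk 1 : S ⧸ P.B)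
  have hmem : ∀ b : S, b • (QuotientGroup.mk 1 : S ⧸ P.B) = QuotientGroup.mk 1 → b ∈ P.B := by
    intro b hb
    rw [FixBN.OfBN.smul_mk_eq] at hb
    simpa using hb
  have hT : ∀ s t : Γ, s • (QuotientGroup.mk 1 : S ⧸ P.B) = QuotientGroup.mk 1 → s • a0 = a0 →
      t • (QuotientGroup.mk 1 : S ⧸ P.B) = QuotientGroup.mk 1 → t • a0 = a0 → s * t = t * s := by
    refine torus_comm S1 ha0 (T.comap π) ?_ ?_ ?_
    · intro t ht
      change π t • (QuotientGroup.mk 1 : S ⧸ P.B) = QuotientGroup.mk 1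
      rw [FixBN.OfBN.smul_mk_eq]
      simpa using hTB ht
    · intro s hs t ht
      exact hab s t hs ht
    · intro g hg
      obtain ⟨u, hu, t, ht, e⟩ := hdec (π g) (hmem (π g) hg)
      have hu' : u ∈ S0.U (QuotientGroup.mk 1 : S ⧸ P.B) := by
        change u ∈ FixBN.OfBN.UU P U (QuotientGroup.mk 1 : S ⧸ P.B)
        rw [FixBN.OfBN.mem_UU hU]
        simpa using hu
      have hcop : (Nat.card (S0.U (QuotientGroup.mk 1 : S ⧸ P.B))).Coprime (Nat.card π.ker) := by
        obtain ⟨k, hk'⟩ := (S0.isP (QuotientGroup.mk 1 : S ⧸ P.B)).exists_card_eq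
        rw [hk']
        exact Nat.Coprime.pow_left _ ((Nat.Prime.coprime_iff_not_dvd Fact.out).2 hk)
      obtain ⟨v, hv, rfl⟩ := exists_up hπ.surj hπ.central (S0.U (QuotientGroup.mk 1 : S ⧸ P.B)) hcop hu'
      refine ⟨v, hv, v⁻¹ * g, ?_, by group⟩
      change π (v⁻¹ * g) ∈ T
      rw [map_mul, map_inv, e]
      simpa using ht
  obtain ⟨χ, h1, h2, h3⟩ := GowSt.exists_st S1 hth htr (QuotientGroup.mk 1 : S ⧸ P.B)
  exact ⟨χ, h1, h2, h3, fun ψ ψ' hψ hψ' => GowOne.unique_of_sys hth htr ha0 S1 hT hπ.perf ψ ψ' hψ hψ'⟩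

/-- `S` has a split (B,N)-pair with a torus `T` whose preimage in `Γ` is abelian. -/
def TorAb (p : ℕ) (π : Γ →* S) : Prop :=
  ∃ (P : Cfsg.BNPair S) (U T : Subgroup S), P.S.Nonempty ∧ FixBN.Split P p U ∧ T ≤ P.B ∧
    (∀ b ∈ P.B, ∃ u ∈ U, ∃ t ∈ T, b = u * t) ∧ ∀ a b : Γ, π a ∈ T → π b ∈ T → a * b = b * a

theorem TorAb.dvd_card (h : TorAb p π) : p ∣ Nat.card S := by
  obtain ⟨P, U, T, h1, h2, -⟩ := h
  exact Gow.dvd_card ⟨P, U, h1, h2⟩

theorem TorAb.exists_st (hπ : H80.Fpf.IsCover π) (hk : ¬ p ∣ Nat.card π.ker) (h : TorAb p π) : ∃ χ, St p Γ χ := by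
  obtain ⟨P, U, T, h1, h2, h3, h4, h5⟩ := h
  exact exists_st_cover hπ hk P h2 h3 h4 h5

/-- **Gow's theorem for covers** : every noncentral `p`-regular element is a product of conjugates of two given
elements with centralisers of order prime to `p`. -/
theorem gow_cover_reg (hπ : H80.Fpf.IsCover π) (hk : ¬ p ∣ Nat.card π.ker) (h : TorAb p π)
    (hL : BpLieP.Big.LocChar p S) {x y z : Γ}
    (hx : ¬ p ∣ Nat.card ↥(centralizer ({x} : Set Γ))) (hy : ¬ p ∣ Nat.card ↥(centralizer ({y} : Set Γ)))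
    (hz : z ∉ center Γ) (hzr : ¬ p ∣ orderOf z) : ∃ g h : Γ, g * x * g⁻¹ * (h * y * h⁻¹) = z := by
  obtain ⟨χ, hχ⟩ := h.exists_st hπ hk
  exact reg_of_rad (h.dvd_card.trans (Subgroup.card_dvd_of_surjective π hπ.surj))
    (rad_of_locChar hπ.surj hπ.central hk hL) hχ hx hy hz hzr

/-- **Gow's theorem for covers, `p`-elements**. -/
theorem gow_cover_root (hπ : H80.Fpf.IsCover π) (hk : ¬ p ∣ Nat.card π.ker) (h : TorAb p π)
    (hL : BpLieP.Big.LocChar p S) {x y z : Γ}
    (hx : ¬ p ∣ Nat.card ↥(centralizer ({x} : Set Γ))) (hy : ¬ p ∣ Nat.card ↥(centralizer ({y} : Set Γ)))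
    (hxy : ¬ IsConj x y⁻¹) (hz : ∃ k, orderOf z = p ^ k) (hz1 : z ≠ 1)
    (hzc : ¬ p ∣ (centralizer ({z} : Set Γ)).index) : ∃ g h : Γ, g * x * g⁻¹ * (h * y * h⁻¹) = z := by
  obtain ⟨χ, hχ⟩ := h.exists_st hπ hk
  exact root_of_rad (rad_of_locChar hπ.surj hπ.central hk hL) hχ hx hy hxy hz hz1 hzc

end Cover

section LiftCent

variable {Γ S : Type*} [Group Γ] [Finite Γ] [Group S] [Finite S] {π : Γ →* S} {p : ℕ} [Fact p.Prime]

/-- The preimages of the elements of `S` with centraliser of order prime to `p`. -/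
theorem not_dvd_cent (hk : ¬ p ∣ Nat.card π.ker) {x : Γ}
    (hx : ¬ p ∣ Nat.card ↥(centralizer ({π x} : Set S))) : ¬ p ∣ Nat.card ↥(centralizer ({x} : Set Γ)) := by
  have hp : p.Prime := Fact.out
  intro hdvd
  obtain ⟨⟨g, hg⟩, hgo⟩ := exists_prime_orderOf_dvd_card' p hdvd
  rw [orderOf_mk] at hgo
  have hgx : π g ∈ centralizer ({π x} : Set S) := by
    rw [mem_centralizer_singleton_iff] at hg ⊢
    rw [← map_mul, ← map_mul, hg]
  have h1 : orderOf (π g) ∣ p := hgo ▸ orderOf_map_dvd π g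
  rcases (Nat.dvd_prime hp).1 h1 with h2 | h2
  · rw [orderOf_eq_one_iff] at h2
    apply hk
    rw [← hgo, ← orderOf_mk g (show g ∈ π.ker from h2)]
    exact orderOf_dvd_natCard _
  · apply hx
    rw [← h2, ← orderOf_mk (π g) hgx]
    exact orderOf_dvd_natCard _

/-- The `p`-elements of `Γ` over the `p`-elements of `S` whose classes have size prime to `p`. -/
theorem not_dvd_index (hs : Function.Surjective π) (hc : π.ker ≤ center Γ) (hk : ¬ p ∣ Nat.card π.ker) {z : Γ}
    (hz : ∃ k, orderOf z = p ^ k) (hx : ¬ p ∣ (centralizer ({π z} : Set S)).index) :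
    ¬ p ∣ (centralizer ({z} : Set Γ)).index := by
  have hp : p.Prime := Fact.out
  have e : centralizer ({z} : Set Γ) = (centralizer ({π z} : Set S)).comap π := by
    ext g
    rw [mem_comap, mem_centralizer_singleton_iff, mem_centralizer_singleton_iff]
    constructor
    · intro h
      rw [← map_mul, ← map_mul, h]
    · intro h
      set c := g * z * g⁻¹ * z⁻¹ with hcdef
      have h1 : c ∈ π.ker := by
        rw [MonoidHom.mem_ker, hcdef, map_mul, map_mul, map_mul, map_inv, map_inv, h]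
        group
      have h2 : c * z = g * z * g⁻¹ := by rw [hcdef]; group
      have h3 : Commute c z := (mem_center_iff.1 (hc h1) z).symm
      obtain ⟨k, hk'⟩ := hz
      have h4 : z ^ p ^ k = 1 := by rw [← hk']; exact pow_orderOf_eq_one z
      have h5 : c ^ p ^ k = 1 := by
        have h6 : (c * z) ^ p ^ k = 1 := by rw [h2, conj_pow, h4, mul_one, mul_inv_cancel]
        rwa [h3.mul_pow, h4, mul_one] at h6
      have h6 : c = 1 := eq_one_of_ker (n := p ^ k)
        (Nat.Coprime.pow_left _ ((Nat.Prime.coprime_iff_not_dvd hp).2 hk)) h1 h5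
      rw [h6, one_mul] at h2
      have h7 : g * z = g * z * g⁻¹ * g := by group
      rw [h7, ← h2]
  rw [e, Subgroup.index_comap_of_surjective _ hs]
  exact hx

end LiftCent

section Criterion

variable {Γ S : Type*} [Group Γ] [Finite Γ] [Group S] {π : Γ →* S} {p : ℕ}

/-- `TorAb` from cyclic subgroups of the torus inverted by elements `n i`. -/
theorem TorAb.of_inverts (hπ : H80.Fpf.IsCover π) (hodd : Odd (Nat.card π.ker)) {P : Cfsg.BNPair S}
    {U T : Subgroup S} (hne : P.S.Nonempty) (hU : FixBN.Split P p U) (hTB : T ≤ P.B)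
    (hdec : ∀ b ∈ P.B, ∃ u ∈ U, ∃ t ∈ T, b = u * t) {ι : Type*} (A : ι → Subgroup S) (n : ι → S)
    (hT : T = ⨆ i, A i) (hcyc : ∀ i, IsCyclic (A i)) (habel : ∀ s ∈ T, ∀ t ∈ T, s * t = t * s)
    (hinv : ∀ i, ∀ s ∈ A i, n i * s * (n i)⁻¹ = s⁻¹) (hcom : ∀ i, ∀ t ∈ T, t⁻¹ * (n i * t * (n i)⁻¹) ∈ A i) :
    TorAb p π :=
  ⟨P, U, T, hne, hU, hTB, hdec, fun _ _ ha hb =>
    comm_of_inverts hπ.surj hπ.central hodd T A n hT hcyc habel hinv hcom ha hb⟩

open Subgroup CoxeterSystem Cfsg.Agent.ChevalleyStructure.CoxeterGeom Cfsg.Agent.Tits.Roots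
  Cfsg.Agent.Tits.RootComb Cfsg.Agent.Nodes.Comb Cfsg.Agent.Nodes.Reps Cfsg.Agent.Nodes.BNOf
  Cfsg.Agent.FixBN.SplitRGD in
/-- `TorAb` from a root group datum. -/
theorem TorAb.of_rgd {I W : Type*} [Fintype I] [DecidableEq I] [Group W] {M : CoxeterMatrix I}
    {cs : CoxeterSystem M W} {A : I → I → ℤ} {h : IsCartan M A} {T : Subgroup S} {n : I → S}
    {X : (I → ℤ) → Subgroup S} [Finite W] [Nonempty I] [IsSimpleGroup S] (hp : p.Prime) (R : RGD cs h p T n X)
    (hgen : RGD.Sup X {x | IsRoot cs h x} = ⊤) (hπ : H80.Fpf.IsCover π) (hodd : Odd (Nat.card π.ker))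
    {ι : Type*} (Ac : ι → Subgroup S) (nc : ι → S)
    (hT : T = ⨆ i, Ac i) (hcyc : ∀ i, IsCyclic (Ac i)) (habel : ∀ s ∈ T, ∀ t ∈ T, s * t = t * s)
    (hinv : ∀ i, ∀ s ∈ Ac i, nc i * s * (nc i)⁻¹ = s⁻¹) (hcom : ∀ i, ∀ t ∈ T, t⁻¹ * (nc i * t * (nc i)⁻¹) ∈ Ac i) :
    TorAb p π := by
  obtain ⟨i⟩ := (inferInstance : Nonempty I)
  have hg := NodeRGD.gen_of_top R hgen
  have hne : (R.bnPair hg).S.Nonempty := ⟨n i, i, rfl⟩
  have hs := split_of_rgd hp R hg (Cfsg.Agent.Tits.OfBN.normalCore_eq_bot (R.bnPair hg) hne)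
  refine TorAb.of_inverts hπ hodd hne hs (T := T) (le_sup_left : T ≤ RGD.B cs h T X) (fun b hb => ?_)
    Ac nc hT hcyc habel hinv hcom
  obtain ⟨u, hu, hT⟩ := NodeRGD.cover R (show b ∈ RGD.B cs h T X from hb)
  exact ⟨u, hu, u⁻¹ * b, hT, by group⟩

end Criterion

end Cfsg.Agent.H330.GowCover
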