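import Cfsg.Agent.H330.ClassRes
import Cfsg.Agent.H27.AH.Defs
import Cfsg.Agent.H330.GowCover

/-!
# Products of two classes: tools for the classical groups (helper330)

* `clash_sub` : a subgroup `H` with `p ^ v ∤ |H|` (`p ^ v = |G|_p`) cannot contain conjugates of a Sylow `p`-subgroup of
  `C(a)` and of a Sylow `p`-subgroup of `C(b)`;
* `not_dvd_of_normalizes` : `p ^ v ∤ |H|` if a `p`-element outside of `H` normalises `H`;
* `exists_factor` : if `B ≤ P` is a Sylow `p`-subgroup of `C(b)`, `P` a Sylow `p`-subgroup of `G`, then there is a conjugate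
  `a'` of `a` with a Sylow `p`-subgroup `A ≤ P` of `C(a')` and `P = A B`;
* `smul_eq_of_fix` : then every point of a `P`-orbit of a point fixed by `B` is in the orbit of `A`.
-/

set_option autoImplicit false
set_option linter.unusedSectionVars false

open scoped Pointwise

namespace Cfsg.Agent.H330.ClassSub

open Cfsg Subgroup Cfsg.Agent.H330.ClassProd Cfsg.Agent.H330.ClassRes

variable {G : Type*} [Group G] [Finite G] {p : ℕ} [Fact p.Prime]

theorem exists_isSyl (a : G) : ∃ A : Subgroup G, IsSyl p a A ∧ IsPGroup p A := by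
  obtain ⟨Q⟩ : Nonempty (Sylow p ↥(centralizer ({a} : Set G))) := inferInstance
  have hc : Nat.card ↥((Q : Subgroup ↥(centralizer ({a} : Set G))).map (centralizer ({a} : Set G)).subtype) =
      p ^ cv p a := by
    rw [Subgroup.card_map_of_injective (Subgroup.subtype_injective _)]
    exact Q.card_eq_multiplicity
  exact ⟨_, ⟨map_subtype_le _, hc⟩, IsPGroup.of_card hc⟩

/-- `p ^ v ∤ |H|` if a `p`-element outside of `H` normalises `H`. -/
theorem not_dvd_of_normalizes {H : Subgroup G} {g : G} (hg : g ∉ H) (hgp : ∃ k : ℕ, g ^ p ^ k = 1)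
    (hn : ∀ h ∈ H, g * h * g⁻¹ ∈ H) : ¬ p ^ (Nat.card G).factorization p ∣ Nat.card H := by
  have hp : p.Prime := Fact.out
  intro hdvd
  set N := Subgroup.normalizer (H : Set G) with hN
  have hgN : g ∈ N := by
    have h1 : H.map (MulAut.conj g).toMonoidHom ≤ H := by
      rintro _ ⟨h, hh, rfl⟩
      exact hn h hh
    have h2 : H.map (MulAut.conj g).toMonoidHom = H := by
      refine Subgroup.eq_of_le_of_card_ge h1 ?_
      rw [Subgroup.card_map_of_injective (MulAut.conj g).injective]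
    rw [hN, Subgroup.mem_normalizer_iff]
    intro h
    constructor
    · exact hn h
    · intro hh
      have h3 : g * h * g⁻¹ ∈ H.map (MulAut.conj g).toMonoidHom := by
        rw [h2]
        exact hh
      have h4 := mem_map_conj.1 h3
      have e : g⁻¹ * (g * h * g⁻¹) * g = h := by group
      rwa [e] at h4
  have hHN : (H.subgroupOf N).Normal := Subgroup.normal_in_normalizer
  have hd : p ∣ (H.subgroupOf N).index := by
    set q := QuotientGroup.mk' (H.subgroupOf N) with hq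
    have h1 : q ⟨g, hgN⟩ ≠ 1 := by
      intro h
      rw [hq, QuotientGroup.mk'_apply, QuotientGroup.eq_one_iff] at h
      exact hg h
    obtain ⟨k, hk⟩ := hgp
    have h2 : (q ⟨g, hgN⟩) ^ p ^ k = 1 := by
      rw [← map_pow]
      have : (⟨g, hgN⟩ : N) ^ p ^ k = 1 := Subtype.ext hk
      rw [this, map_one]
    obtain ⟨j, hj, hj'⟩ := (Nat.dvd_prime_pow hp).1 (orderOf_dvd_of_pow_eq_one h2)
    have hj0 : j ≠ 0 := by
      rintro rfl
      rw [pow_zero, orderOf_eq_one_iff] at hj'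
      exact h1 hj'
    rw [Subgroup.index_eq_card]
    refine dvd_trans ?_ (orderOf_dvd_natCard (q ⟨g, hgN⟩))
    rw [hj']
    exact dvd_pow_self p hj0
  have hcard : Nat.card H * (H.subgroupOf N).index = Nat.card N := by
    rw [← Nat.card_congr (Subgroup.subgroupOfEquivOfLe (Subgroup.le_normalizer (H := H))).toEquiv]
    exact Subgroup.card_mul_index _
  have h3 : p ^ ((Nat.card G).factorization p + 1) ∣ Nat.card G := by
    rw [pow_succ]
    refine dvd_trans ?_ (Subgroup.card_subgroup_dvd_card N)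
    rw [← hcard]
    exact mul_dvd_mul hdvd hd
  exact Nat.pow_succ_factorization_not_dvd Nat.card_pos.ne' hp h3

/-- **A subgroup without a Sylow `p`-subgroup of `G` cannot contain conjugates of Sylow subgroups of `C(a)` and `C(b)`.** -/
theorem clash_sub (hS : FixBN.HasSplit p G) {a b c : G} (h : AllConj a b c) (ha : ¬ p ∣ orderOf a)
    (hb : ¬ p ∣ orderOf b) {H : Subgroup G} (hH : ¬ p ^ (Nat.card G).factorization p ∣ Nat.card H)
    (hA : ∀ A : Subgroup G, IsPGroup p A → A ≤ centralizer ({a} : Set G) → ∃ g : G, ∀ x ∈ A, g * x * g⁻¹ ∈ H)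
    (hB : ∀ B : Subgroup G, IsPGroup p B → B ≤ centralizer ({b} : Set G) → ∃ g : G, ∀ x ∈ B, g * x * g⁻¹ ∈ H) :
    False := by
  obtain ⟨A, hA1, hA2⟩ := exists_isSyl (p := p) a
  obtain ⟨B, hB1, hB2⟩ := exists_isSyl (p := p) b
  obtain ⟨g, hg⟩ := hA A hA2 hA1.le
  obtain ⟨k, hk⟩ := hB B hB2 hB1.le
  have h' := h.conj g k
  have hA' := hA1.conj g
  have hB' := hB1.conj k
  refine hH (h'.dvd_card hS ?_ ?_ (H := H) ?_ ?_ hA'.le hB'.le hA'.card hB'.card)
  · rwa [orderOf_of_isConj (isConj_iff.2 ⟨g, rfl⟩)]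
  · rwa [orderOf_of_isConj (isConj_iff.2 ⟨k, rfl⟩)]
  · rintro _ ⟨x, hx, rfl⟩
    exact hg x hx
  · rintro _ ⟨x, hx, rfl⟩
    exact hk x hx

/-- **The factorisation of a Sylow `p`-subgroup of `G`** containing a given Sylow subgroup of `C(b)`. -/
theorem exists_factor (hS : FixBN.HasSplit p G) {a b c : G} (h : AllConj a b c) (ha : ¬ p ∣ orderOf a)
    (hb : ¬ p ∣ orderOf b) (P : Sylow p G) {B : Subgroup G} (hB : IsSyl p b B) (hBP : B ≤ (P : Subgroup G)) :
    ∃ (g : G) (A : Subgroup G), IsSyl p (g * a * g⁻¹) A ∧ A ≤ (P : Subgroup G) ∧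
      ∀ u ∈ (P : Subgroup G), ∃ x ∈ A, ∃ y ∈ B, u = x * y := by
  obtain ⟨A, hA1, hA2⟩ := exists_isSyl (p := p) a
  obtain ⟨Q, hQ⟩ := hA2.exists_le_sylow
  obtain ⟨g, hg⟩ := MulAction.exists_smul_eq G Q P
  have hAP : A.map (MulAut.conj g).toMonoidHom ≤ (P : Subgroup G) := by
    rintro _ ⟨x, hx, rfl⟩
    rw [← hg, Sylow.coe_subgroup_smul, Subgroup.mem_pointwise_smul_iff_inv_smul_mem]
    have e : (MulAut.conj g)⁻¹ • (MulAut.conj g).toMonoidHom x = x := by
      change (MulAut.conj g)⁻¹ • (g * x * g⁻¹) = x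
      rw [MulAut.smul_def, MulAut.conj_inv_apply]
      group
    rw [e]
    exact hQ hx
  have h' : AllConj (g * a * g⁻¹) b c := by
    have := h.conj g 1
    simpa using this
  refine ⟨g, _, hA1.conj g, hAP, ?_⟩
  exact (h'.factor hS (by rwa [orderOf_of_isConj (isConj_iff.2 ⟨g, rfl⟩)]) hb P.isPGroup' hAP hBP
    (hA1.conj g).le hB.le (hA1.conj g).card hB.card).2.1

/-! ### Central extensions of order prime to `p` -/

section Lift

open Cfsg.Agent.H330.GowCover

variable {Γ : Type*} [Group Γ] [Finite Γ] {π : Γ →* G}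

theorem isPGroup_up (hs : Function.Surjective π) (hc : π.ker ≤ center Γ) {V : Subgroup G} (hV : IsPGroup p V) :
    IsPGroup p (up hs hc V) := by
  obtain ⟨k, hk'⟩ := hV.exists_card_eq
  rintro ⟨g, hg⟩
  refine ⟨k, Subtype.ext ?_⟩
  have h1 := hg.2
  rw [hk'] at h1
  exact h1

/-- A `p`-element of `Γ` which commutes with `a` modulo the kernel commutes with `a`. -/
theorem comm_of_map (hc : π.ker ≤ center Γ) (hk : ¬ p ∣ Nat.card π.ker) {a x : Γ} (hx : ∃ k : ℕ, x ^ p ^ k = 1)
    (h : π x * π a = π a * π x) : x * a = a * x := by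
  have hp : p.Prime := Fact.out
  obtain ⟨k, hk'⟩ := hx
  set z := a * x * a⁻¹ * x⁻¹ with hz
  have h1 : z ∈ π.ker := by
    rw [MonoidHom.mem_ker, hz, map_mul, map_mul, map_mul, map_inv, map_inv, ← h]
    group
  have h2 : z * x = a * x * a⁻¹ := by rw [hz]; group
  have h3 : Commute z x := (mem_center_iff.1 (hc h1) x).symm
  have h5 : z ^ p ^ k = 1 := by
    have h6 : (z * x) ^ p ^ k = 1 := by rw [h2, conj_pow, hk', mul_one, mul_inv_cancel]
    rwa [h3.mul_pow, hk', mul_one] at h6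
  have h6 : z = 1 := eq_one_of_ker (n := p ^ k)
    (Nat.Coprime.pow_left _ ((Nat.Prime.coprime_iff_not_dvd hp).2 hk)) h1 h5
  rw [h6, one_mul] at h2
  calc x * a = (a * x * a⁻¹) * a := by rw [← h2]
    _ = a * x := by group

/-- The order of a lift. -/
theorem not_dvd_orderOf (hk : ¬ p ∣ Nat.card π.ker) {a : Γ} (h : ¬ p ∣ orderOf (π a)) : ¬ p ∣ orderOf a := by
  have hp : p.Prime := Fact.out
  intro hd
  have h1 : orderOf a ∣ orderOf (π a) * Nat.card π.ker := by
    apply orderOf_dvd_of_pow_eq_one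
    rw [pow_mul]
    refine pow_card_mem (V := π.ker) ?_
    rw [MonoidHom.mem_ker, map_pow, pow_orderOf_eq_one]
  rcases hp.dvd_mul.1 (hd.trans h1) with h2 | h2
  · exact h h2
  · exact hk h2

theorem factorization_card (hs : Function.Surjective π) (hk : ¬ p ∣ Nat.card π.ker) :
    (Nat.card Γ).factorization p = (Nat.card G).factorization p := by
  have h1 : Nat.card Γ = Nat.card π.ker * Nat.card G := by
    rw [← π.ker.card_mul_index, Subgroup.index_ker, MonoidHom.range_eq_top.2 hs]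
    congr 1
    exact Nat.card_congr Subgroup.topEquiv.toEquiv
  rw [h1, Nat.factorization_mul Nat.card_pos.ne' Nat.card_pos.ne', Finsupp.add_apply,
    Nat.factorization_eq_zero_of_not_dvd hk, zero_add]

/-- **`NotA` for a central quotient `G` of a (linear) group `Γ`**: `H` is a subgroup normalised by a `p`-element outside
of `H`, every `p`-subgroup centralising a noncentral `p`-regular element `a`, `¬ Spec a`, is conjugate to a subgroup of `H`,
and `Spec` elements are excluded otherwise. -/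
theorem notA_of_linear_spec (hS : FixBN.HasSplit p G) (hs : Function.Surjective π) (hc : π.ker ≤ center Γ)
    (hk : ¬ p ∣ Nat.card π.ker) {H : Subgroup Γ} {g : Γ} (hg : g ∉ H) (hgp : ∃ k : ℕ, g ^ p ^ k = 1)
    (hn : ∀ h ∈ H, g * h * g⁻¹ ∈ H) (Spec : Γ → Prop)
    (hfix : ∀ a : Γ, ¬ p ∣ orderOf a → π a ≠ 1 → Spec a ∨
      ∀ X : Subgroup Γ, IsPGroup p X → (∀ x ∈ X, x * a = a * x) → ∃ k : Γ, ∀ x ∈ X, k * x * k⁻¹ ∈ H)
    (hspec : ∀ a b c : Γ, AllConj (π a) (π b) (π c) → ¬ p ∣ orderOf a → ¬ p ∣ orderOf b → π a ≠ 1 → π b ≠ 1 →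
      Spec b → False) : H27.AH.NotA p G := by
  have hp : p.Prime := Fact.out
  intro a b c ha hb hc' h har hbr hcr
  obtain ⟨a, rfl⟩ := hs a
  obtain ⟨b, rfl⟩ := hs b
  obtain ⟨c, rfl⟩ := hs c
  have har' := not_dvd_orderOf hk har
  have hbr' := not_dvd_orderOf hk hbr
  have hH : ¬ p ^ (Nat.card G).factorization p ∣ Nat.card (H.map π) := by
    intro hd
    rw [← factorization_card hs hk] at hd
    exact not_dvd_of_normalizes hg hgp hn (hd.trans (Subgroup.card_dvd_of_surjective (π.subgroupMap H)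
      (π.subgroupMap_surjective H)))
  have key : ∀ a : Γ, (∀ X : Subgroup Γ, IsPGroup p X → (∀ x ∈ X, x * a = a * x) →
      ∃ k : Γ, ∀ x ∈ X, k * x * k⁻¹ ∈ H) → ∀ A : Subgroup G, IsPGroup p A → A ≤ centralizer ({π a} : Set G) →
      ∃ g : G, ∀ x ∈ A, g * x * g⁻¹ ∈ H.map π := by
    intro a ha A hA hAa
    have hcop : (Nat.card A).Coprime (Nat.card π.ker) := by
      obtain ⟨k, hk'⟩ := hA.exists_card_eq
      rw [hk']
      exact Nat.Coprime.pow_left _ ((Nat.Prime.coprime_iff_not_dvd hp).2 hk)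
    have hup := isPGroup_up hs hc hA
    obtain ⟨k, hk1⟩ := ha (up hs hc A) hup (fun x hx => by
      obtain ⟨n, hn⟩ := hup ⟨x, hx⟩
      exact comm_of_map hc hk ⟨n, congrArg Subtype.val hn⟩ (mem_centralizer_singleton_iff.1 (hAa hx.1)))
    refine ⟨π k, fun x hx => ?_⟩
    obtain ⟨y, hy, rfl⟩ := exists_up hs hc A hcop hx
    exact ⟨_, hk1 y hy, by rw [map_mul, map_mul, map_inv]⟩
  rcases hfix a har' ha with h1 | h1
  · exact hspec b a c h.symm hbr' har' hb ha h1
  rcases hfix b hbr' hb with h2 | h2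
  · exact hspec a b c h har' hbr' ha hb h2
  exact clash_sub hS h har hbr hH (key a h1) (key b h2)

/-- The same without special elements. -/
theorem notA_of_linear (hS : FixBN.HasSplit p G) (hs : Function.Surjective π) (hc : π.ker ≤ center Γ)
    (hk : ¬ p ∣ Nat.card π.ker) {H : Subgroup Γ} {g : Γ} (hg : g ∉ H) (hgp : ∃ k : ℕ, g ^ p ^ k = 1)
    (hn : ∀ h ∈ H, g * h * g⁻¹ ∈ H)
    (hfix : ∀ a : Γ, ¬ p ∣ orderOf a → π a ≠ 1 →
      ∀ X : Subgroup Γ, IsPGroup p X → (∀ x ∈ X, x * a = a * x) → ∃ k : Γ, ∀ x ∈ X, k * x * k⁻¹ ∈ H) :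
    H27.AH.NotA p G :=
  notA_of_linear_spec hS hs hc hk hg hgp hn (fun _ => False) (fun a h1 h2 => Or.inr (hfix a h1 h2))
    fun _ _ _ _ _ _ _ _ h => h

/-- **The factorisation of a Sylow `p`-subgroup of `Γ`.** -/
theorem exists_factor_lift (hS : FixBN.HasSplit p G) (hs : Function.Surjective π) (hc : π.ker ≤ center Γ)
    (hk : ¬ p ∣ Nat.card π.ker) {a b : Γ} {c : G} (h : AllConj (π a) (π b) c) (ha : ¬ p ∣ orderOf a)
    (hb : ¬ p ∣ orderOf b) (P : Sylow p Γ) {B : Subgroup Γ} (hB : IsSyl p b B) (hBP : B ≤ (P : Subgroup Γ)) :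
    ∃ (g : Γ) (A : Subgroup Γ), A ≤ (P : Subgroup Γ) ∧ (∀ x ∈ A, x * (g * a * g⁻¹) = g * a * g⁻¹ * x) ∧
      ∀ u ∈ (P : Subgroup Γ), ∃ x ∈ A, ∃ y ∈ B, u = x * y := by
  have hp : p.Prime := Fact.out
  have hcop : ∀ {V : Subgroup G}, IsPGroup p V → (Nat.card V).Coprime (Nat.card π.ker) := by
    intro V hV
    obtain ⟨k, hk'⟩ := hV.exists_card_eq
    rw [hk']
    exact Nat.Coprime.pow_left _ ((Nat.Prime.coprime_iff_not_dvd hp).2 hk)
  -- `π` is injective on `p`-subgroups
  have hinj : ∀ {V : Subgroup Γ}, IsPGroup p V → Nat.card (V.map π) = Nat.card V := by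
    intro V hV
    have h1 : Function.Injective (π.subgroupMap V) := by
      rw [injective_iff_map_eq_one]
      intro v hv
      obtain ⟨n, hn⟩ := hV v
      exact Subtype.ext (eq_one_of_ker (n := p ^ n) (Nat.Coprime.pow_left _ ((Nat.Prime.coprime_iff_not_dvd hp).2 hk))
        (congrArg Subtype.val hv) (congrArg Subtype.val hn))
    exact (Nat.card_congr (Equiv.ofBijective _ ⟨h1, π.subgroupMap_surjective V⟩)).symm
  have hBp : IsPGroup p B := IsPGroup.of_card hB.card
  have hord : ∀ {a : Γ}, ¬ p ∣ orderOf a → ¬ p ∣ orderOf (π a) := fun ha hd => ha (hd.trans (orderOf_map_dvd π _))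
  -- the Sylow subgroup of `C (π b)`
  have hcv : cv p (π b) = cv p b := by
    apply le_antisymm
    · obtain ⟨A, hA1, hA2⟩ := exists_isSyl (p := p) (π b)
      have h1 : up hs hc A ≤ centralizer ({b} : Set Γ) := by
        intro x hx
        obtain ⟨n, hn⟩ := isPGroup_up hs hc hA2 ⟨x, hx⟩
        rw [mem_centralizer_singleton_iff]
        exact comm_of_map hc hk ⟨n, congrArg Subtype.val hn⟩ (mem_centralizer_singleton_iff.1 (hA1.le hx.1))
      have h2 : (up hs hc A).map π = A := by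
        apply le_antisymm
        · rintro _ ⟨x, hx, rfl⟩
          exact hx.1
        · intro x hx
          obtain ⟨y, hy, rfl⟩ := exists_up hs hc A (hcop hA2) hx
          exact ⟨y, hy, rfl⟩
      have h3 := hinj (isPGroup_up hs hc hA2)
      rw [h2, hA1.card] at h3
      have h4 : p ^ cv p (π b) ∣ Nat.card ↥(centralizer ({b} : Set Γ)) := by
        rw [h3]
        exact Subgroup.card_dvd_of_le h1
      exact (hp.pow_dvd_iff_le_factorization Nat.card_pos.ne').1 h4
    · have h1 : B.map π ≤ centralizer ({π b} : Set G) := by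
        rintro _ ⟨x, hx, rfl⟩
        rw [mem_centralizer_singleton_iff, ← map_mul, ← map_mul, mem_centralizer_singleton_iff.1 (hB.le hx)]
      have h4 : p ^ cv p b ∣ Nat.card ↥(centralizer ({π b} : Set G)) := by
        rw [← hB.card, ← hinj hBp]
        exact Subgroup.card_dvd_of_le h1
      exact (hp.pow_dvd_iff_le_factorization Nat.card_pos.ne').1 h4
  have hB' : IsSyl p (π b) (B.map π) := by
    refine ⟨?_, by rw [hinj hBp, hB.card, hcv]⟩
    rintro _ ⟨x, hx, rfl⟩
    rw [mem_centralizer_singleton_iff, ← map_mul, ← map_mul, mem_centralizer_singleton_iff.1 (hB.le hx)]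
  -- the Sylow subgroup of `G`
  have hPc : Nat.card ((P : Subgroup Γ).map π) = p ^ (Nat.card G).factorization p := by
    rw [hinj P.isPGroup', P.card_eq_multiplicity, factorization_card hs hk]
  let P' : Sylow p G := Sylow.ofCard _ hPc
  have hP' : (P' : Subgroup G) = (P : Subgroup Γ).map π := rfl
  obtain ⟨g, A, hA1, hA2, hA3⟩ := exists_factor hS h (hord ha) (hord hb) P' hB' (by
    rw [hP']
    exact Subgroup.map_mono hBP)
  obtain ⟨g, rfl⟩ := hs g
  have hAp : IsPGroup p A := IsPGroup.of_card hA1.card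
  have hAe : π g * π a * (π g)⁻¹ = π (g * a * g⁻¹) := by rw [map_mul, map_mul, map_inv]
  -- the lift of `A` is contained in `P`
  have hAP : up hs hc A ≤ (P : Subgroup Γ) := by
    intro x hx
    obtain ⟨n, hn⟩ := isPGroup_up hs hc hAp ⟨x, hx⟩
    refine mem_of_map hc hk P.isPGroup' ⟨n, congrArg Subtype.val hn⟩ ?_
    exact hA2 hx.1
  refine ⟨g, up hs hc A, hAP, ?_, ?_⟩
  · intro x hx
    obtain ⟨n, hn⟩ := isPGroup_up hs hc hAp ⟨x, hx⟩
    refine comm_of_map hc hk ⟨n, congrArg Subtype.val hn⟩ ?_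
    have h1 := mem_centralizer_singleton_iff.1 (hA1.le hx.1)
    rwa [hAe] at h1
  · intro u hu
    obtain ⟨x, hx, y, hy, e⟩ := hA3 (π u) ⟨u, hu, rfl⟩
    obtain ⟨y, hy, rfl⟩ := hy
    obtain ⟨x, hx', rfl⟩ := exists_up hs hc A (hcop hAp) hx
    refine ⟨x, hx', y, hy, ?_⟩
    have h1 : (x * y)⁻¹ * u ∈ (P : Subgroup Γ) := mul_mem (inv_mem (mul_mem (hAP hx') (hBP hy))) hu
    have h2 : π ((x * y)⁻¹ * u) = 1 := by rw [map_mul, map_inv, map_mul, e, inv_mul_cancel]
    obtain ⟨n, hn⟩ := P.isPGroup' ⟨_, h1⟩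
    have h3 := eq_one_of_ker (n := p ^ n) (Nat.Coprime.pow_left _ ((Nat.Prime.coprime_iff_not_dvd hp).2 hk))
      h2 (congrArg Subtype.val hn)
    rw [inv_mul_eq_one] at h3
    exact h3.symm

end Lift

end Cfsg.Agent.H330.ClassSub
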