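import Cfsg.Agent.CoThreeStd.InvTwo
import Cfsg.Agent.LargeExtra.W2.Iface

/-!
# The centralizer of a 2-central involution of `Spor.M12` is in case F2
-/

set_option autoImplicit false

namespace Cfsg.Agent.H330.MTw

open Cfsg.Agent.CoThreeStd.MTwelve Cfsg.Agent.CoThreeStd.InvTwo Cfsg.Agent.LargeExtra.W2
open Cfsg.Agent.Co2Type.Quad

/-- words of the generators -/
def wi : List ℕ := [0, 5, 2, 4, 5, 0, 5, 2, 4, 5]
/-- words of the generators -/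
def wj : List ℕ := [2, 1, 3, 2, 1]
/-- words of the generators -/
def wk : List ℕ := [0, 2, 1, 3, 2, 1]
/-- words of the generators -/
def wl : List ℕ := [0, 5, 0, 2, 5, 0, 3, 5, 0, 2, 5]
/-- words of the generators -/
def wv : List ℕ := [1, 5, 1, 5, 2, 3, 5, 2, 4]
/-- words of the generators -/
def wy : List ℕ := [0, 2, 5, 0, 1, 3, 4, 3, 5]
/-- the word of the involution -/
def wz : List ℕ := [1, 3]

/-- normal form words -/
def wn (n : ℕ) : List ℕ :=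
  (if n.testBit 0 then wi else []) ++ ((if n.testBit 1 then wj else []) ++ ((if n.testBit 2 then wk else []) ++
    ((if n.testBit 3 then wl else []) ++ ((if n.testBit 4 then wz else []) ++
    (wpow wv ((n / 32) % 3) ++ wpow wy (n / 96))))))

/-- short words for the 192 elements of the centralizer -/
def shl : List (List ℕ) :=
  [[], [0, 5, 2, 4, 5, 0, 5, 2, 4, 5], [2, 1, 3, 2, 1], [1, 5, 0, 4, 5, 0, 1, 5, 0, 4, 5], [0, 2, 1, 3, 2, 1],
  [5, 0, 2, 5, 1, 3, 5, 0, 2, 5], [0, 1, 3], [5, 2, 4, 5, 0, 5, 2, 4, 5], [0, 5, 0, 2, 5, 0, 3, 5, 0, 2, 5],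
  [0, 2, 1, 3, 2], [1, 5, 2, 4, 5, 0, 5, 2, 4, 5], [0, 1], [0, 1, 5, 2, 4, 5, 0, 5, 2, 4, 5], [3],
  [5, 0, 4, 5, 0, 1, 5, 0, 4, 5], [2, 1, 3, 2], [1, 3], [0, 2, 4, 5, 0, 1, 3, 5, 2, 4], [1, 2, 1, 3, 2],
  [0, 5, 0, 2, 5, 1, 3, 5, 0, 2, 5], [0, 1, 2, 1, 3, 2], [0, 1, 5, 0, 4, 5, 0, 1, 5, 0, 4, 5], [0],
  [2, 4, 5, 0, 1, 3, 5, 2, 4], [0, 5, 0, 4, 5, 0, 1, 5, 0, 4, 5], [0, 1, 2, 1, 3, 2, 1],
  [1, 2, 4, 5, 0, 1, 3, 5, 2, 4], [0, 3], [0, 1, 2, 4, 5, 0, 1, 3, 5, 2, 4], [1],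
  [5, 0, 2, 5, 0, 3, 5, 0, 2, 5], [1, 2, 1, 3, 2, 1], [1, 5, 1, 5, 2, 3, 5, 2, 4],
  [3, 2, 5, 0, 1, 4, 3, 2, 5], [5, 1, 5, 0, 5, 1, 2, 5, 4], [2, 1, 3, 5, 0, 1, 4, 3, 2, 5],
  [5, 0, 5, 1, 2, 5, 0, 5, 4], [4, 5, 0, 4, 5, 1, 2, 3, 5, 4], [5, 1, 5, 2, 3, 5, 0, 2, 4],
  [0, 3, 2, 5, 0, 1, 4, 3, 2, 5], [5, 1, 5, 2, 3, 5, 1, 4, 3, 2], [3, 5, 0, 5, 1, 2, 5, 0, 5, 4],
  [2, 5, 0, 1, 4, 3, 2, 5, 1], [0, 5, 1, 5, 2, 3, 5, 2, 4], [5, 1, 2, 5, 4, 3, 5, 1, 5],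
  [0, 5, 1, 5, 2, 3, 5, 2, 4, 3], [5, 1, 3, 2, 4, 5, 4, 5, 3, 2], [3, 5, 1, 5, 0, 5, 1, 2, 5, 4],
  [3, 5, 1, 5, 2, 3, 5, 2, 4], [1, 2, 5, 0, 1, 4, 3, 2, 5], [2, 5, 0, 1, 5, 4, 3, 2, 5, 2],
  [2, 3, 5, 2, 1, 4, 3, 5, 1, 5], [4, 3, 5, 1, 5, 0, 5, 1, 2, 5], [5, 3, 2, 4, 5, 1, 4, 5, 1, 2],
  [0, 1, 5, 1, 5, 2, 3, 5, 2, 4], [2, 5, 0, 1, 4, 3, 2, 5, 0], [4, 5, 0, 1, 2, 5, 3, 4, 5, 2],
  [1, 5, 0, 5, 1, 2, 5, 0, 5, 4], [0, 2, 5, 0, 1, 4, 3, 2, 5], [5, 1, 5, 2, 3, 5, 2, 4, 3],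
  [2, 5, 0, 1, 4, 3, 2, 5], [5, 1, 5, 2, 3, 5, 2, 4], [2, 3, 4, 5, 4, 5, 3, 2, 5, 4],
  [1, 5, 1, 5, 0, 5, 1, 2, 5, 4], [2, 4, 5, 3, 2, 5, 1, 5, 1], [2, 5, 0, 1, 2, 5, 1, 5, 3, 4],
  [5, 1, 5, 1, 3, 2, 4, 5, 3, 2], [5, 0, 2, 1, 3, 4, 5, 2, 1], [2, 5, 4, 3, 5, 0, 2, 1, 5, 4],
  [1, 5, 0, 2, 1, 3, 4, 5, 2], [1, 2, 4, 5, 3, 2, 5, 1, 5], [2, 4, 5, 0, 1, 2, 5, 1, 5, 3],
  [5, 0, 2, 1, 3, 4, 5, 2], [2, 3, 5, 4, 5, 2, 1, 4, 3, 5], [4, 5, 2, 1, 5, 0, 5, 1, 5, 3],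
  [1, 3, 2, 4, 5, 3, 2, 5, 1, 5], [3, 4, 5, 2, 1, 5, 0, 5, 1, 5], [0, 2, 4, 5, 3, 2, 5, 1, 5],
  [0, 5, 1, 5, 3, 4, 5, 2, 1, 5], [4, 5, 3, 2, 1, 5, 0, 4, 5, 4], [2, 4, 5, 3, 2, 5, 1, 5, 3],
  [4, 5, 2, 1, 5, 0, 5, 1, 5], [5, 0, 2, 1, 3, 4, 5, 1, 3, 2], [5, 0, 2, 1, 3, 4, 5, 2, 3],
  [2, 1, 3, 4, 5, 3, 2, 5, 1, 5], [3, 5, 0, 2, 1, 3, 4, 5, 2], [3, 2, 4, 5, 3, 2, 5, 1, 5],
  [0, 4, 5, 2, 1, 5, 0, 5, 1, 5], [5, 1, 5, 3, 4, 5, 2, 1, 5], [2, 4, 5, 2, 4, 5, 4, 3, 5, 2],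
  [0, 2, 4, 5, 0, 1, 2, 5, 1, 5], [2, 4, 5, 3, 2, 5, 1, 5], [2, 4, 5, 0, 1, 2, 5, 1, 5],
  [1, 2, 4, 5, 3, 2, 5, 1, 5, 1], [0, 5, 0, 2, 1, 3, 4, 5, 2], [2, 1, 5, 1, 4, 5, 2, 4, 3, 5],
  [0, 2, 5, 0, 1, 3, 4, 3, 5], [2, 3, 4, 5, 0, 1, 3, 5, 4], [4, 5, 0, 1, 3, 5, 4, 3, 2],
  [1, 2, 1, 4, 5, 0, 1, 3, 5, 4], [1, 5, 0, 1, 3, 4, 3, 5, 2], [1, 2, 5, 0, 1, 3, 4, 3, 5, 1],
  [1, 3, 2, 5, 0, 1, 3, 4, 3, 5], [5, 0, 1, 3, 4, 3, 5, 2, 1], [2, 5, 0, 1, 3, 4, 3, 5, 1],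
  [1, 3, 5, 0, 1, 3, 4, 3, 5, 2], [1, 5, 0, 1, 3, 4, 3, 5, 2, 1], [1, 2, 5, 0, 1, 3, 4, 3, 5],
  [1, 2, 3, 4, 5, 0, 1, 3, 5, 4], [4, 5, 0, 1, 3, 5, 1, 2, 4], [2, 1, 4, 5, 0, 1, 3, 5, 4],
  [2, 3, 4, 5, 0, 1, 3, 5, 4, 3], [1, 4, 5, 0, 1, 3, 5, 1, 2, 4], [0, 5, 0, 1, 3, 4, 3, 5, 2, 3],
  [0, 3, 5, 0, 1, 3, 4, 3, 5, 2], [3, 2, 1, 4, 5, 0, 1, 3, 5, 4], [3, 5, 0, 1, 3, 4, 3, 5, 2],
  [1, 2, 5, 0, 1, 3, 4, 3, 5, 3], [2, 5, 0, 1, 3, 4, 3, 5], [5, 0, 1, 3, 4, 3, 5, 2, 3],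
  [2, 5, 0, 1, 3, 4, 3, 5, 3], [5, 0, 1, 3, 4, 3, 5, 2], [1, 5, 0, 1, 3, 4, 3, 5, 2, 3],
  [3, 2, 5, 0, 1, 3, 4, 3, 5], [2, 3, 2, 4, 5, 0, 1, 3, 5, 4], [0, 1, 2, 5, 0, 1, 3, 4, 3, 5],
  [0, 2, 5, 0, 1, 3, 4, 3, 5, 1], [0, 5, 0, 1, 3, 4, 3, 5, 2], [1, 4, 5, 1, 2, 1, 4, 5, 1, 4],
  [0, 3, 4, 5, 1, 2, 1, 4, 5, 4], [2, 5, 0, 4, 5, 4, 3, 2, 1, 5], [4, 5, 1, 2, 1, 4, 5, 0, 4, 3],
  [5, 1, 4, 5, 0, 2, 4, 3, 2, 5], [2, 1, 5, 0, 5, 2, 1, 3, 5, 4], [0, 1, 4, 5, 1, 2, 1, 4, 5, 4, 3],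
  [3, 4, 5, 1, 2, 1, 4, 5, 4], [2, 4, 5, 0, 5, 1, 5, 1, 4, 5], [1, 4, 5, 1, 2, 1, 4, 5, 0, 4],
  [1, 3, 4, 5, 1, 2, 1, 4, 5, 4], [0, 4, 5, 1, 2, 1, 4, 5, 1, 4], [5, 0, 2, 3, 2, 4, 5, 1, 4, 5],
  [4, 5, 1, 2, 1, 4, 5, 4, 3], [1, 4, 5, 1, 2, 1, 4, 5, 0, 4, 3], [4, 5, 1, 3, 2, 5, 0, 5, 1, 2],
  [1, 4, 5, 1, 2, 1, 4, 5, 4, 3], [0, 1, 4, 5, 1, 2, 1, 4, 5, 4], [0, 4, 5, 1, 2, 1, 4, 5, 0, 4],
  [2, 4, 5, 0, 5, 2, 1, 5, 4, 5], [4, 5, 1, 2, 1, 4, 5, 0, 4], [0, 4, 5, 1, 2, 1, 4, 5, 0, 4, 3],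
  [4, 3, 5, 1, 3, 5, 1, 5, 0, 5], [1, 4, 5, 1, 2, 1, 4, 5, 4], [3, 2, 1, 5, 0, 5, 2, 1, 3, 5, 4],
  [3, 4, 5, 1, 2, 1, 4, 5, 0, 4], [4, 5, 1, 2, 1, 4, 5, 4], [0, 4, 5, 1, 2, 1, 4, 5, 4, 3],
  [0, 4, 5, 1, 2, 1, 4, 5, 4], [4, 5, 1, 2, 1, 4, 5, 1, 4], [5, 0, 1, 5, 1, 5, 1, 3, 5, 4],
  [0, 3, 4, 5, 1, 2, 1, 4, 5, 0, 4], [0, 1, 5, 2, 4, 5, 0, 1], [1, 5, 2, 4, 5, 3], [5, 2, 4, 5, 0],
  [0, 5, 2, 4, 5], [0, 5, 2, 4, 5, 0], [1, 3, 5, 2, 4, 5], [1, 5, 2, 4, 5, 0, 3], [0, 1, 5, 2, 4, 5, 3],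
  [3, 5, 2, 4, 5], [0, 3, 5, 2, 4, 5, 0], [0, 5, 2, 4, 5, 3], [5, 2, 4, 5, 0, 1], [5, 2, 4, 5, 3],
  [0, 5, 2, 4, 5, 0, 3], [0, 1, 5, 2, 4, 5], [3, 5, 2, 4, 5, 0], [0, 1, 5, 2, 4, 5, 0, 3],
  [1, 5, 2, 4, 5, 1], [1, 3, 5, 2, 4, 5, 0], [0, 1, 3, 5, 2, 4, 5], [0, 1, 3, 5, 2, 4, 5, 0], [5, 2, 4, 5],
  [1, 5, 2, 4, 5, 0, 1], [0, 1, 5, 2, 4, 5, 1], [1, 5, 2, 4, 5], [0, 1, 5, 2, 4, 5, 0], [0, 5, 2, 4, 5, 1],
  [5, 2, 4, 5, 0, 3], [5, 2, 4, 5, 1], [0, 5, 2, 4, 5, 0, 1], [0, 3, 5, 2, 4, 5], [1, 5, 2, 4, 5, 0]]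

/-- short word number `n` -/
def sh (n : ℕ) : List ℕ := shl.getD n []

/-- an order of the codes with increasing signatures -/
def ordl : List ℕ :=
  [0, 106, 101, 15, 180, 65, 75, 190, 50, 157, 136, 39, 45, 151, 130, 56, 187, 68, 78, 177, 26, 127, 112, 21,
  108, 22, 9, 115, 52, 139, 158, 33, 178, 71, 93, 168, 173, 66, 88, 183, 59, 145, 132, 46, 121, 28, 3, 102,
  76, 169, 179, 86, 128, 47, 42, 133, 29, 103, 18, 104, 23, 98, 24, 109, 89, 166, 188, 67, 154, 48, 53, 159,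
  150, 41, 44, 147, 74, 175, 165, 64, 97, 11, 126, 20, 100, 17, 123, 14, 156, 38, 35, 153, 95, 176, 186, 85,
  137, 51, 54, 140, 69, 170, 160, 79, 107, 30, 116, 1, 110, 4, 113, 27, 131, 60, 57, 134, 80, 181, 191, 90,
  83, 172, 182, 73, 143, 37, 32, 138, 8, 125, 7, 114, 2, 120, 13, 119, 70, 163, 185, 92, 149, 58, 63, 144, 5,
  96, 111, 10, 161, 94, 84, 171, 40, 146, 135, 61, 55, 152, 141, 34, 174, 91, 81, 164, 31, 117, 122, 16, 118,
  19, 12, 105, 62, 148, 129, 43, 167, 72, 82, 189, 184, 77, 87, 162, 49, 142, 155, 36, 99, 25, 6, 124]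

/-- the signatures of the codes of the list are increasing -/
def incrN : ℕ → List ℕ → Bool
  | _, [] => true
  | a, m :: l => Nat.blt a (sig (sh m) 24) && incrN (sig (sh m) 24) l

set_option maxRecDepth 100000 in
theorem incrN_ordl : incrN 0 ordl = true := by decide +kernel

theorem len_ordl : ordl.length = 192 := by decide +kernel

theorem ordl_lt : ordl.all (fun m => Nat.blt m 192) = true := by decide +kernel

theorem incrN_lt : ∀ {ls : List ℕ} {a : ℕ}, incrN a ls = true → ∀ m ∈ ls, a < sig (sh m) 24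
  | [], _, _, m, hm => by simp at hm
  | m' :: ls, a, h, m, hm => by
    rw [incrN, Bool.and_eq_true] at h
    have h1 : a < sig (sh m') 24 := by simpa [Nat.blt] using h.1
    rcases List.mem_cons.mp hm with rfl | hm
    · exact h1
    · exact h1.trans (incrN_lt h.2 m hm)

theorem incrN_pairwise : ∀ {ls : List ℕ} {a : ℕ}, incrN a ls = true →
    ls.Pairwise (fun m m' => sig (sh m) 24 < sig (sh m') 24)
  | [], _, _ => List.Pairwise.nil
  | m :: ls, a, h => by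
    rw [incrN, Bool.and_eq_true] at h
    exact List.Pairwise.cons (fun m' hm' => incrN_lt h.2 m' hm') (incrN_pairwise h.2)

set_option maxRecDepth 100000 in
theorem sh_comm : ∀ n : Fin 192, eqW (sh n.1 ++ wz) (wz ++ sh n.1) = true := by decide +kernel

set_option maxRecDepth 100000 in
theorem sh_wn : ∀ n : Fin 192, eqW (sh n.1) (wn n.1) = true := by decide +kernel

theorem wd_wz : wd wz = p * r := wd_pr

/-- the elements of the centralizer -/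
theorem mem_C {g : H} (hg : g * (p * r) = (p * r) * g) : ∃ n : Fin 192, g = wd (sh n.1) := by
  have hp := List.pairwise_iff_getElem.mp (incrN_pairwise incrN_ordl)
  have hall : ∀ n : Fin 192, wd (sh n.1) ∈ Subgroup.centralizer {p * r} := by
    intro n
    rw [Subgroup.mem_centralizer_singleton_iff]
    have := wd_eq (sh_comm n)
    rw [wd_append, wd_append, wd_wz] at this
    exact this
  have hlt : ∀ m ∈ ordl, m < 192 := by
    intro m hm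
    have := List.all_eq_true.mp ordl_lt m hm
    exact Nat.ble_eq.mp this
  let f : Fin 192 → ↥(Subgroup.centralizer {p * r} : Subgroup H) := fun a =>
    ⟨wd (sh (ordl[a.1]'(by rw [len_ordl]; exact a.2))), hall ⟨_, hlt _ (List.getElem_mem _)⟩⟩
  have hinj : Function.Injective f := by
    intro a b hab
    have h1 : wd (sh (ordl[a.1]'(by rw [len_ordl]; exact a.2))) = wd (sh (ordl[b.1]'(by rw [len_ordl]; exact b.2))) :=
      congrArg Subtype.val hab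
    have h2 := sig_eq h1 24 le_rfl
    by_contra hne
    rcases lt_or_gt_of_ne (fun h => hne (Fin.ext h)) with h3 | h3
    · exact absurd h2 (hp a.1 b.1 (by rw [len_ordl]; exact a.2) (by rw [len_ordl]; exact b.2) h3).ne
    · exact absurd h2 (hp b.1 a.1 (by rw [len_ordl]; exact b.2) (by rw [len_ordl]; exact a.2) h3).ne'
  have hb := (Nat.bijective_iff_injective_and_card f).2 ⟨hinj, by rw [card_cent_v, Nat.card_eq_fintype_card,
    Fintype.card_fin]⟩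
  obtain ⟨a, ha⟩ := hb.2 ⟨g, Subgroup.mem_centralizer_singleton_iff.2 hg⟩
  exact ⟨⟨_, hlt _ (List.getElem_mem (by rw [len_ordl]; exact a.2))⟩, (congrArg Subtype.val ha).symm⟩

/-- different codes give different elements -/
theorem sh_inj : Function.Injective (fun n : Fin 192 => wd (sh n.1)) := by
  have hp := List.pairwise_iff_getElem.mp (incrN_pairwise incrN_ordl)
  have hs : ∀ n : Fin 192, n.1 ∈ ordl := by
    have h : ∀ n : Fin 192, ordl.contains n.1 = true := by decide +kernel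
    intro n
    exact List.contains_iff_mem.mp (h n)
  intro a b hab
  obtain ⟨i, hi, hia⟩ := List.getElem_of_mem (hs a)
  obtain ⟨j, hj, hjb⟩ := List.getElem_of_mem (hs b)
  have h2 := sig_eq hab 24 le_rfl
  rcases lt_trichotomy i j with h3 | h3 | h3
  · exact absurd (by rw [hia, hjb]; exact h2) (hp i j hi hj h3).ne
  · apply Fin.ext
    rw [← hia, ← hjb]
    subst h3
    rfl
  · exact absurd (by rw [hia, hjb]; exact h2.symm) (hp j i hj hi h3).ne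

/-! ### the elements -/

/-- generator of `Q` -/
noncomputable def ei : H := wd wi
/-- generator of `Q` -/
noncomputable def ej : H := wd wj
/-- generator of `Q` -/
noncomputable def ek : H := wd wk
/-- generator of `Q` -/
noncomputable def el : H := wd wl
/-- the element of order three -/
noncomputable def ev : H := wd wv
/-- the involution inverting `ev` -/
noncomputable def ey : H := wd wy
/-- the subgroup `Q` -/
noncomputable def Q : Subgroup H := Subgroup.closure {ei, ej, ek, el}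

theorem r_ii : ei * ei = p * r := by
  rw [ei, ← wd_append, ← wd_wz]; exact wd_eq (by decide +kernel)
theorem r_jj : ej * ej = p * r := by
  rw [ej, ← wd_append, ← wd_wz]; exact wd_eq (by decide +kernel)
theorem r_kk : ek * ek = p * r := by
  rw [ek, ← wd_append, ← wd_wz]; exact wd_eq (by decide +kernel)
theorem r_ll : el * el = p * r := by
  rw [el, ← wd_append, ← wd_wz]; exact wd_eq (by decide +kernel)
theorem r_ji : ej * ei = ei * ej * (p * r) := by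
  rw [ej, ei, ← wd_wz, ← wd_append, ← wd_append, ← wd_append]; exact wd_eq (by decide +kernel)
theorem r_lk : el * ek = ek * el * (p * r) := by
  rw [el, ek, ← wd_wz, ← wd_append, ← wd_append, ← wd_append]; exact wd_eq (by decide +kernel)
theorem r_ki : ek * ei = ei * ek := by
  rw [ek, ei, ← wd_append, ← wd_append]; exact wd_eq (by decide +kernel)
theorem r_li : el * ei = ei * el := by
  rw [el, ei, ← wd_append, ← wd_append]; exact wd_eq (by decide +kernel)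
theorem r_kj : ek * ej = ej * ek := by
  rw [ek, ej, ← wd_append, ← wd_append]; exact wd_eq (by decide +kernel)
theorem r_lj : el * ej = ej * el := by
  rw [el, ej, ← wd_append, ← wd_append]; exact wd_eq (by decide +kernel)
theorem r_v3 : ev ^ 3 = 1 := by
  rw [ev, ← wd_wpow]; exact wd_eq (l' := []) (by decide +kernel)
theorem r_yy : ey * ey = 1 := by
  rw [ey, ← wd_append]; exact wd_eq (l' := []) (by decide +kernel)

/-- conjugation from a commutation relation -/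
theorem conj_of {a b c : H} (h : a * b = c * a) : a * b * a⁻¹ = c := by rw [h, mul_inv_cancel_right]

theorem r_vi : ev * ei * ev⁻¹ = ej := conj_of (by
  rw [ev, ei, ej, ← wd_append, ← wd_append]; exact wd_eq (by decide +kernel))
theorem r_vj : ev * ej * ev⁻¹ = ei * ej := conj_of (by
  rw [ev, ei, ej, ← wd_append, ← wd_append, ← wd_append]; exact wd_eq (by decide +kernel))
theorem r_vk : ev * ek * ev⁻¹ = el := conj_of (by
  rw [ev, ek, el, ← wd_append, ← wd_append]; exact wd_eq (by decide +kernel))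
theorem r_vl : ev * el * ev⁻¹ = ek * el := conj_of (by
  rw [ev, ek, el, ← wd_append, ← wd_append, ← wd_append]; exact wd_eq (by decide +kernel))
theorem r_vz : ev * (p * r) * ev⁻¹ = p * r := conj_of (by
  rw [ev, ← wd_wz, ← wd_append, ← wd_append]; exact wd_eq (by decide +kernel))
theorem r_yi : ey * ei * ey⁻¹ = ej * (p * r) := conj_of (by
  rw [ey, ei, ej, ← wd_wz, ← wd_append, ← wd_append, ← wd_append]; exact wd_eq (by decide +kernel))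
theorem r_yj : ey * ej * ey⁻¹ = ei * (p * r) := conj_of (by
  rw [ey, ei, ej, ← wd_wz, ← wd_append, ← wd_append, ← wd_append]; exact wd_eq (by decide +kernel))
theorem r_yk : ey * ek * ey⁻¹ = el * (p * r) := conj_of (by
  rw [ey, ek, el, ← wd_wz, ← wd_append, ← wd_append, ← wd_append]; exact wd_eq (by decide +kernel))
theorem r_yl : ey * el * ey⁻¹ = ek * (p * r) := conj_of (by
  rw [ey, ek, el, ← wd_wz, ← wd_append, ← wd_append, ← wd_append]; exact wd_eq (by decide +kernel))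
theorem r_yz : ey * (p * r) * ey⁻¹ = p * r := conj_of (by
  rw [ey, ← wd_wz, ← wd_append, ← wd_append]; exact wd_eq (by decide +kernel))
theorem r_yv : ey * ev * ey⁻¹ = ev⁻¹ := by
  have h : ey * ev = ev * ev * ey := by
    rw [ey, ev, ← wd_append, ← wd_append, ← wd_append]; exact wd_eq (by decide +kernel)
  have h3 : ev * ev = ev⁻¹ := by
    have := r_v3
    rw [pow_succ, pow_two] at this
    exact eq_inv_of_mul_eq_one_left this
  rw [h, mul_inv_cancel_right, h3]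

/-- the elements of `Q` -/
theorem mem_Q {x : H} (hx : x ∈ Q) : ∃ m : Fin 32, x = wd (sh m.1) := by
  have hstep : ∀ s ∈ [wi, wj, wk, wl], ∀ m : Fin 32,
      (∃ m' : Fin 32, eqW (s ++ sh m.1) (sh m'.1) = true) ∧ ∃ m' : Fin 32, eqW (s.reverse ++ sh m.1) (sh m'.1) = true := by
    decide +kernel
  have hs : ∀ g ∈ ({ei, ej, ek, el} : Set H), ∃ s ∈ [wi, wj, wk, wl], g = wd s := by
    rintro g (rfl | rfl | rfl | rfl)
    · exact ⟨wi, by simp, rfl⟩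
    · exact ⟨wj, by simp, rfl⟩
    · exact ⟨wk, by simp, rfl⟩
    · exact ⟨wl, by simp, rfl⟩
  rw [Q] at hx
  induction hx using Subgroup.closure_induction_left with
  | one => exact ⟨0, rfl⟩
  | mul_left g hg y _ ih =>
    obtain ⟨m, rfl⟩ := ih
    obtain ⟨s, hs1, rfl⟩ := hs g hg
    obtain ⟨m', hm'⟩ := (hstep s hs1 m).1
    exact ⟨m', by rw [← wd_append]; exact wd_eq hm'⟩
  | inv_mul_cancel g hg y _ ih =>
    obtain ⟨m, rfl⟩ := ih
    obtain ⟨s, hs1, rfl⟩ := hs g hg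
    obtain ⟨m', hm'⟩ := (hstep s hs1 m).2
    exact ⟨m', by rw [wd_reverse, ← wd_append]; exact wd_eq hm'⟩

theorem ei_mem : ei ∈ Q := Subgroup.subset_closure (by simp)
theorem ej_mem : ej ∈ Q := Subgroup.subset_closure (by simp)
theorem ek_mem : ek ∈ Q := Subgroup.subset_closure (by simp)
theorem el_mem : el ∈ Q := Subgroup.subset_closure (by simp)
theorem z_mem : p * r ∈ Q := by rw [← r_ii]; exact mul_mem ei_mem ei_mem

theorem wd_wn_mem (K : Subgroup H) (hi : ei ∈ K) (hj : ej ∈ K) (hk : ek ∈ K) (hl : el ∈ K) (hz : p * r ∈ K)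
    (n : ℕ) (hvy : wd (wpow wv ((n / 32) % 3) ++ wpow wy (n / 96)) ∈ K) : wd (wn n) ∈ K := by
  have q : ∀ (b : Bool) (w : List ℕ), wd w ∈ K → wd (if b then w else []) ∈ K := by
    intro b w hw
    cases b
    · exact one_mem K
    · exact hw
  rw [wn, wd_append, wd_append, wd_append, wd_append, wd_append]
  exact mul_mem (q _ _ hi) (mul_mem (q _ _ hj) (mul_mem (q _ _ hk) (mul_mem (q _ _ hl)
    (mul_mem (q _ _ (by rw [wd_wz]; exact hz)) hvy))))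

theorem sh_mem_Q (m : Fin 32) : wd (sh m.1) ∈ Q := by
  have h := sh_wn ⟨m.1, by omega⟩
  rw [wd_eq h]
  apply wd_wn_mem Q ei_mem ej_mem ek_mem el_mem z_mem
  have h1 : m.1 / 32 = 0 := Nat.div_eq_of_lt m.2
  have h2 : m.1 / 96 = 0 := Nat.div_eq_of_lt (by omega)
  simp only [h1, h2]
  exact one_mem _

theorem card_Q : Nat.card Q = 32 := by
  let f : Fin 32 → Q := fun m => ⟨wd (sh m.1), sh_mem_Q m⟩
  have hinj : Function.Injective f := by
    intro a b hab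
    have h1 : wd (sh a.1) = wd (sh b.1) := congrArg Subtype.val hab
    have h2 := sh_inj (a₁ := ⟨a.1, by omega⟩) (a₂ := ⟨b.1, by omega⟩) h1
    have h3 := congrArg Fin.val h2
    exact Fin.ext h3
  have hsurj : Function.Surjective f := by
    intro x
    obtain ⟨m, hm⟩ := mem_Q x.2
    exact ⟨m, Subtype.ext hm.symm⟩
  rw [← Nat.card_congr (Equiv.ofBijective f ⟨hinj, hsurj⟩), Nat.card_eq_fintype_card, Fintype.card_fin]

set_option maxRecDepth 100000 in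
theorem chk_sq : ∀ m : Fin 32, (eqW (sh m.1 ++ sh m.1) [] || eqW (sh m.1 ++ sh m.1) wz) = true := by
  decide +kernel

set_option maxRecDepth 100000 in
theorem chk_comm : ∀ m m' : Fin 32, (eqW (sh m.1 ++ sh m'.1) (sh m'.1 ++ sh m.1) ||
    eqW (sh m.1 ++ sh m'.1) (sh m'.1 ++ sh m.1 ++ wz)) = true := by
  decide +kernel

set_option maxRecDepth 100000 in
theorem chk_cent : ∀ m : Fin 32, m.1 = 0 ∨ m.1 = 16 ∨
    (eqW (sh m.1 ++ wi) (wi ++ sh m.1) && eqW (sh m.1 ++ wj) (wj ++ sh m.1) &&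
      eqW (sh m.1 ++ wk) (wk ++ sh m.1) && eqW (sh m.1 ++ wl) (wl ++ sh m.1)) = false := by
  decide +kernel

set_option maxRecDepth 100000 in
theorem chk_self : ∀ m : Fin 192, m.1 < 32 ∨
    (eqW (sh m.1 ++ wi) (wi ++ sh m.1) && eqW (sh m.1 ++ wj) (wj ++ sh m.1) &&
      eqW (sh m.1 ++ wk) (wk ++ sh m.1) && eqW (sh m.1 ++ wl) (wl ++ sh m.1)) = false := by
  decide +kernel

theorem sh_zero : wd (sh 0) = 1 := rfl
theorem sh_sixteen : wd (sh 16) = p * r := by rw [← wd_wz]; exact wd_eq (by decide +kernel)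

theorem all_comm {g : H} {l : List ℕ} (hg : g = wd l) (h : ∀ x ∈ Q, g * x = x * g) :
    (eqW (l ++ wi) (wi ++ l) && eqW (l ++ wj) (wj ++ l) &&
      eqW (l ++ wk) (wk ++ l) && eqW (l ++ wl) (wl ++ l)) = true := by
  subst hg
  have h1 : eqW (l ++ wi) (wi ++ l) = true := eqW_of_wd (by rw [wd_append, wd_append]; exact h _ ei_mem)
  have h2 : eqW (l ++ wj) (wj ++ l) = true := eqW_of_wd (by rw [wd_append, wd_append]; exact h _ ej_mem)
  have h3 : eqW (l ++ wk) (wk ++ l) = true := eqW_of_wd (by rw [wd_append, wd_append]; exact h _ ek_mem)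
  have h4 : eqW (l ++ wl) (wl ++ l) = true := eqW_of_wd (by rw [wd_append, wd_append]; exact h _ el_mem)
  rw [h1, h2, h3, h4]; rfl

/-- normalizing the generators -/
theorem norm_of {g : H} (h1 : g * ei * g⁻¹ ∈ Q) (h2 : g * ej * g⁻¹ ∈ Q) (h3 : g * ek * g⁻¹ ∈ Q)
    (h4 : g * el * g⁻¹ ∈ Q) : g ∈ Subgroup.normalizer (Q : Set H) := by
  have hle : Q.map (MulAut.conj g).toMonoidHom ≤ Q := by
    rw [Subgroup.map_le_iff_le_comap, Q, Subgroup.closure_le]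
    rintro x (rfl | rfl | rfl | rfl)
    exacts [h1, h2, h3, h4]
  have heq : Q.map (MulAut.conj g).toMonoidHom = Q := by
    apply Subgroup.eq_of_le_of_card_ge hle
    rw [Subgroup.card_map_of_injective (MulAut.conj g).injective]
  rw [Subgroup.mem_normalizer_iff]
  intro x
  constructor
  · intro hx
    rw [← heq]
    exact ⟨x, hx, rfl⟩
  · intro hx
    rw [← heq] at hx
    obtain ⟨y, hy, hyx⟩ := hx
    have : y = x := by
      have h5 : g * y * g⁻¹ = g * x * g⁻¹ := hyx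
      simpa using h5
    rwa [← this]

theorem closure_le_norm : Subgroup.closure {ei, ej, ek, el, ev, ey} ≤ Subgroup.normalizer (Q : Set H) := by
  rw [Subgroup.closure_le]
  rintro x (rfl | rfl | rfl | rfl | rfl | rfl)
  · exact Subgroup.le_normalizer ei_mem
  · exact Subgroup.le_normalizer ej_mem
  · exact Subgroup.le_normalizer ek_mem
  · exact Subgroup.le_normalizer el_mem
  · refine norm_of ?_ ?_ ?_ ?_
    · rw [r_vi]; exact ej_mem
    · rw [r_vj]; exact mul_mem ei_mem ej_mem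
    · rw [r_vk]; exact el_mem
    · rw [r_vl]; exact mul_mem ek_mem el_mem
  · refine norm_of ?_ ?_ ?_ ?_
    · rw [r_yi]; exact mul_mem ej_mem z_mem
    · rw [r_yj]; exact mul_mem ei_mem z_mem
    · rw [r_yk]; exact mul_mem el_mem z_mem
    · rw [r_yl]; exact mul_mem ek_mem z_mem

theorem comm_z_of_Q : ∀ x ∈ Q, x * (p * r) = (p * r) * x := by
  intro x hx
  obtain ⟨m, rfl⟩ := mem_Q hx
  have := wd_eq (sh_comm ⟨m.1, by omega⟩)
  rwa [wd_append, wd_append, wd_wz] at this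

theorem cent_eq : Subgroup.centralizer {p * r} = Subgroup.closure {ei, ej, ek, el, ev, ey} := by
  apply le_antisymm
  · intro g hg
    obtain ⟨n, rfl⟩ := mem_C (Subgroup.mem_centralizer_singleton_iff.1 hg)
    rw [wd_eq (sh_wn n)]
    have s1 : ∀ x ∈ ({ei, ej, ek, el, ev, ey} : Set H), x ∈ Subgroup.closure {ei, ej, ek, el, ev, ey} :=
      fun x hx => Subgroup.subset_closure hx
    refine wd_wn_mem _ (s1 _ (by simp)) (s1 _ (by simp)) (s1 _ (by simp)) (s1 _ (by simp)) ?_ n.1 ?_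
    · rw [← r_ii]; exact mul_mem (s1 _ (by simp)) (s1 _ (by simp))
    · rw [wd_append, wd_wpow, wd_wpow]
      exact mul_mem (pow_mem (s1 ev (by simp)) _) (pow_mem (s1 ey (by simp)) _)
  · rw [Subgroup.closure_le]
    have hcz : ∀ {g : H}, g * (p * r) * g⁻¹ = p * r → g ∈ (Subgroup.centralizer {p * r} : Subgroup H) := by
      intro g hg
      rw [Subgroup.mem_centralizer_singleton_iff]
      exact mul_inv_eq_iff_eq_mul.1 hg
    rintro x (rfl | rfl | rfl | rfl | rfl | rfl)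
    · exact Subgroup.mem_centralizer_singleton_iff.2 (comm_z_of_Q _ ei_mem)
    · exact Subgroup.mem_centralizer_singleton_iff.2 (comm_z_of_Q _ ej_mem)
    · exact Subgroup.mem_centralizer_singleton_iff.2 (comm_z_of_Q _ ek_mem)
    · exact Subgroup.mem_centralizer_singleton_iff.2 (comm_z_of_Q _ el_mem)
    · exact hcz r_vz
    · exact hcz r_yz

/-- `Q` is a large extraspecial subgroup -/
theorem large : Large Q (p * r) where
  z_mem := z_mem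
  z_ne := pr_ne
  z_sq := pr_sq
  comm_z := comm_z_of_Q
  conj_mem := by
    intro g hg x hx
    have h1 : g ∈ Subgroup.normalizer (Q : Set H) := by
      apply closure_le_norm
      rw [← cent_eq]
      exact Subgroup.mem_centralizer_singleton_iff.2 hg
    exact (Subgroup.mem_normalizer_iff.1 h1 x).1 hx
  sq := by
    intro x hx
    obtain ⟨m, rfl⟩ := mem_Q hx
    have h := chk_sq m
    rw [Bool.or_eq_true] at h
    rcases h with h | h
    · left; rw [← wd_append]; exact wd_eq (l' := []) h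
    · right; rw [← wd_append, wd_eq h, wd_wz]
  comm := by
    intro x hx y hy
    obtain ⟨m, rfl⟩ := mem_Q hx
    obtain ⟨m', rfl⟩ := mem_Q hy
    have h := chk_comm m m'
    rw [Bool.or_eq_true] at h
    rcases h with h | h
    · left; rw [← wd_append, ← wd_append]; exact wd_eq h
    · right; rw [← wd_append, wd_eq h, wd_append, wd_append, wd_wz]
  cent := by
    intro x hx hxy
    obtain ⟨m, hm⟩ := mem_Q hx
    have h1 := all_comm hm hxy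
    rcases chk_cent m with h | h | h
    · left; rw [hm, h, sh_zero]
    · right; rw [hm, h, sh_sixteen]
    · rw [h1] at h; exact absurd h (by simp)
  self := by
    intro g hg hgx
    obtain ⟨n, hn⟩ := mem_C hg
    have h1 := all_comm hn hgx
    rcases chk_self n with h | h
    · rw [hn]; exact sh_mem_Q ⟨n.1, h⟩
    · rw [h1] at h; exact absurd h (by simp)

/-- **the centralizer of `p * r` in `M12` is in case F2** -/
theorem caseF2 : CaseF2 Q (p * r) ei ej ek el ev ey :=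
  { large := large, card := card_Q, gen := rfl, ii := r_ii, jj := r_jj, kk := r_kk, ll := r_ll, ji := r_ji,
    lk := r_lk, ki := r_ki, li := r_li, kj := r_kj, lj := r_lj, v3 := r_v3,
    v_act := ⟨r_vz, r_vi, r_vj, r_vk, r_vl⟩, y_act := ⟨r_yz, r_yi, r_yj, r_yk, r_yl⟩, vy := r_yv,
    y2 := Or.inl r_yy, cent := cent_eq, card_cent := card_cent_v }

end Cfsg.Agent.H330.MTw
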