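import Cfsg.Agent.H330.ClassLacedRGD
import Cfsg.Agent.H330.ClassBitsE
import Cfsg.Agent.Nodes.RGDChev
import Cfsg.Agent.ChevalleyStructure.BNChev
import Cfsg.Agent.TitsThree.KExcTab

/-!
# Products of two `p`-regular classes: `E₆`, `E₇`, `E₈` (helper330)

`notA_E6`, `notA_E7`, `notA_E8`.
-/

set_option autoImplicit false

namespace Cfsg.Agent.H330.ClassRowsE

open Cfsg Cfsg.Lie Cfsg.Agent.Tits.RootComb Cfsg.Agent.Nodes.Comb Cfsg.Agent.Nodes.Reps Cfsg.Agent.Nodes.BNOf
  Cfsg.Agent.Nodes.BNOf.RGD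
  Cfsg.Agent.Nodes.RGDChev Cfsg.Agent.ChevalleyStructure.Elts Cfsg.Agent.H330.ClassLaced
  Cfsg.Agent.H330.ClassLacedRGD Cfsg.Agent.Tits.Roots Cfsg.Agent.ChevalleyStructure.NPerm

universe u

/-- **Elements of the torus centralising a nontrivial element of a root group centralise the root group.** -/
theorem torus_root {D : ChevalleyDatum} {l : ℕ} {M : CoxeterMatrix (Fin l)} (hp : IsType D l M) {K : Type u} [Field K]
    (i : Fin l) {t : ↥(D.group K)} (ht : t ∈ (D.diagonalSubgroup K).subgroupOf (D.group K)) {u : ↥(D.group K)}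
    (hu : u ∈ (XV D l K (sr i)).subgroupOf (D.group K)) (hu1 : u ≠ 1) (htu : t * u * t⁻¹ = u) {v : ↥(D.group K)}
    (hv : v ∈ (XV D l K (sr i)).subgroupOf (D.group K)) : t * v * t⁻¹ = v := by
  rw [Subgroup.mem_subgroupOf, XV_sr hp, mem_rootSubgroup_iff hp.inList] at hu hv
  rw [Subgroup.mem_subgroupOf] at ht
  obtain ⟨a, ha⟩ := hu
  obtain ⟨b, hb⟩ := hv
  have hs := simple_lt hp.inList (lt_rank hp i)
  obtain ⟨c, hc, h⟩ := ChevalleyStructure.BNChev.diagonal_conj hp.inList ht hs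
  have h1 : (t : GL D.Idx K) * (u : GL D.Idx K) * (t : GL D.Idx K)⁻¹ = (u : GL D.Idx K) :=
    congrArg Subtype.val htu
  have ha0 : a ≠ 0 := by
    rintro rfl
    apply hu1
    apply Subtype.ext
    rw [ha, xG_zero]
    rfl
  have hc1 : c = 1 := by
    rw [ha, h] at h1
    have h2 := xG_injective hp.inList hs h1
    exact mul_right_cancel₀ ha0 (by rw [h2, one_mul])
  apply Subtype.ext
  change (t : GL D.Idx K) * (v : GL D.Idx K) * (t : GL D.Idx K)⁻¹ = (v : GL D.Idx K)
  rw [hb, h, hc1, one_mul]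

/-- `NotA` for the Chevalley groups of simply laced type. -/
theorem notA_chev {D : ChevalleyDatum} {l : ℕ} {M : CoxeterMatrix (Fin l)} (hp : IsType D l M) {K : Type u} [Field K]
    [Finite K] {p : ℕ} [CharP K p] [IsSimpleGroup ↥(D.group K)] [Nonempty (Fin l)]
    (hconn : ∀ i j : Fin l, Relation.ReflTransGen (fun a b => M a b = 3) i j)
    (hcomb : ∀ K L : Finset (Fin l), K.Nonempty → L.Nonempty → ∃ i, Hit M K i ∧ Hit M L i) :
    H27.AH.NotA p ↥(D.group K) := by
  have : Fact p.Prime := ⟨CharP.char_is_prime K p⟩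
  have hW := finite_W hp M.toCoxeterSystem
  exact notA_of_rgd (rgd (K := K) hp M.toCoxeterSystem p) (gen hp M.toCoxeterSystem p)
    (fun i t ht u hu hu1 htu v hv => torus_root hp i ht hu hu1 htu hv) hconn hcomb

variable (F : Type u) [Field F] [Finite F] (p : ℕ) [CharP F p]

theorem notA_E6 : H27.AH.NotA p ↥(chevE6.group F) := by
  have := TitsThree.KExcBase.simpleE6 F
  exact notA_chev (D := chevE6) (l := 6) (M := CoxeterMatrix.E₆) (by simp [IsType, typeList]) ClassBitsE.conn6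
    ClassBitsE.comb6

theorem notA_E7 : H27.AH.NotA p ↥(chevE7.group F) := by
  have := TitsThree.KExcBase.simpleE7 F
  exact notA_chev (D := chevE7) (l := 7) (M := CoxeterMatrix.E₇) (by simp [IsType, typeList]) ClassBitsE.conn7
    ClassBitsE.comb7

theorem notA_E8 : H27.AH.NotA p ↥(chevE8.group F) := by
  have := TitsThree.KExcBase.simpleE8 F
  exact notA_chev (D := chevE8) (l := 8) (M := CoxeterMatrix.E₈) (by simp [IsType, typeList]) ClassBitsE.conn8
    ClassBitsE.comb8

end Cfsg.Agent.H330.ClassRowsE
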