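import Cfsg.Agent.LargeExtra.W2.Iface

/-!
# Transport of `CaseF2` along an isomorphism of involution centralizers
-/

set_option autoImplicit false

namespace Cfsg.Agent.H330.CaseTrans

open Cfsg.Agent.LargeExtra.W2 Cfsg.Agent.Co2Type.Quad

variable {H G : Type*} [Group H] [Group G]

/-- An element of the centre of `C(z)` is `1` or `z`. -/
theorem center_eq {Q : Subgroup H} {z : H} (h : Large Q z) {c : H} (hc : c * z = z * c)
    (hcc : ∀ g, g * z = z * g → g * c = c * g) : c = 1 ∨ c = z := by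
  have h1 : c ∈ Q := h.self c hc (fun x hx => (hcc x (h.comm_z x hx)).symm)
  exact h.cent c h1 (fun y hy => (hcc y (h.comm_z y hy)).symm)

/-- `CaseF2` depends only on the isomorphism type of the involution centralizer. -/
theorem transport {Q : Subgroup H} {z i j k l v y : H} (h : CaseF2 Q z i j k l v y) (t : G)
    (ht : orderOf t = 2) (e : ↥(Subgroup.centralizer ({t} : Set G)) ≃* ↥(Subgroup.centralizer ({z} : Set H))) :
    ∃ (Q' : Subgroup G) (i' j' k' l' v' y' : G), CaseF2 Q' t i' j' k' l' v' y' := by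
  have memC : ∀ g : H, g ∈ Subgroup.centralizer ({z} : Set H) ↔ g * z = z * g := fun g =>
    Subgroup.mem_centralizer_singleton_iff
  have memT : ∀ g : G, g ∈ Subgroup.centralizer ({t} : Set G) ↔ g * t = t * g := fun g =>
    Subgroup.mem_centralizer_singleton_iff
  set φ : ↥(Subgroup.centralizer ({z} : Set H)) →* G :=
    (Subgroup.centralizer ({t} : Set G)).subtype.comp e.symm.toMonoidHom with hφ
  have hinj : Function.Injective φ := by
    intro a b hab
    exact e.symm.injective (Subtype.ext hab)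
  have hrange : φ.range = Subgroup.centralizer ({t} : Set G) := by
    ext x
    constructor
    · rintro ⟨a, rfl⟩
      exact (e.symm a).2
    · intro hx
      exact ⟨e ⟨x, hx⟩, by simp [hφ]⟩
  have hiQ : ∀ x ∈ Q, x ∈ Subgroup.centralizer ({z} : Set H) := fun x hx => (memC x).2 (h.large.comm_z x hx)
  have hgen : ∀ x ∈ ({i, j, k, l} : Set H), x ∈ Q := by
    rw [h.gen]; exact fun x hx => Subgroup.subset_closure hx
  have hcen : ∀ x ∈ ({i, j, k, l, v, y} : Set H), x ∈ Subgroup.centralizer ({z} : Set H) := by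
    rw [h.cent]; exact fun x hx => Subgroup.subset_closure hx
  have hi := hcen i (by simp)
  have hj := hcen j (by simp)
  have hk := hcen k (by simp)
  have hl := hcen l (by simp)
  have hv := hcen v (by simp)
  have hy := hcen y (by simp)
  have hz : z ∈ Subgroup.centralizer ({z} : Set H) := (memC z).2 rfl
  have htt : t ∈ Subgroup.centralizer ({t} : Set G) := (memT t).2 rfl
  -- `z` corresponds to `t`
  have hzt : φ ⟨z, hz⟩ = t := by
    have h1 := center_eq h.large (c := (e ⟨t, htt⟩ : H)) ((memC _).1 (e ⟨t, htt⟩).2) (by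
      intro g hg
      have h2 : (e.symm ⟨g, (memC g).2 hg⟩ : G) * t = t * (e.symm ⟨g, (memC g).2 hg⟩ : G) :=
        (memT _).1 (e.symm ⟨g, (memC g).2 hg⟩).2
      have h3 : e.symm ⟨g, (memC g).2 hg⟩ * ⟨t, htt⟩ = ⟨t, htt⟩ * e.symm ⟨g, (memC g).2 hg⟩ := Subtype.ext h2
      have h4 := congrArg e h3
      rw [map_mul, map_mul, e.apply_symm_apply] at h4
      exact congrArg Subtype.val h4)
    rcases h1 with h1 | h1
    · exfalso
      have h2 : e ⟨t, htt⟩ = 1 := Subtype.ext h1
      have h3 : (⟨t, htt⟩ : ↥(Subgroup.centralizer ({t} : Set G))) = 1 := by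
        apply e.injective; rw [h2, map_one]
      have h4 : t = 1 := congrArg Subtype.val h3
      rw [h4, orderOf_one] at ht
      exact absurd ht (by norm_num)
    · have h2 : (⟨z, hz⟩ : ↥(Subgroup.centralizer ({z} : Set H))) = e ⟨t, htt⟩ := Subtype.ext h1.symm
      rw [h2]
      simp [hφ]
  have tr : ∀ {a b : ↥(Subgroup.centralizer ({z} : Set H))}, (a : H) = (b : H) → φ a = φ b :=
    fun hab => congrArg φ (Subtype.ext hab)
  have rt : ∀ {a b : ↥(Subgroup.centralizer ({z} : Set H))}, φ a = φ b → (a : H) = (b : H) :=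
    fun hab => congrArg Subtype.val (hinj hab)
  have ht1 : ∀ g : G, g * t = t * g → ∃ c : ↥(Subgroup.centralizer ({z} : Set H)), φ c = g := by
    intro g hg
    have : g ∈ φ.range := by rw [hrange]; exact (memT g).2 hg
    exact this
  set Q' : Subgroup G := (Q.subgroupOf (Subgroup.centralizer ({z} : Set H))).map φ with hQ'
  have memQ : ∀ c : ↥(Subgroup.centralizer ({z} : Set H)), φ c ∈ Q' ↔ (c : H) ∈ Q := by
    intro c
    constructor
    · rintro ⟨d, hd, hdc⟩
      have h2 := rt hdc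
      rw [← h2]; exact hd
    · intro hc
      exact ⟨c, hc, rfl⟩
  have exQ : ∀ x ∈ Q', ∃ c : ↥(Subgroup.centralizer ({z} : Set H)), φ c = x ∧ (c : H) ∈ Q := by
    rintro x ⟨d, hd, rfl⟩
    exact ⟨d, rfl, hd⟩
  have hlarge : Large Q' t := by
    refine ⟨?_, ?_, ?_, ?_, ?_, ?_, ?_, ?_, ?_⟩
    · rw [← hzt]; exact (memQ _).2 h.large.z_mem
    · intro h1
      rw [h1, orderOf_one] at ht
      exact absurd ht (by norm_num)
    · have := pow_orderOf_eq_one t
      rwa [ht, pow_two] at this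
    · intro x hx
      obtain ⟨c, rfl, hc⟩ := exQ x hx
      rw [← hzt, ← map_mul, ← map_mul]
      exact tr (h.large.comm_z _ hc)
    · intro g hg x hx
      obtain ⟨c, rfl, hc⟩ := exQ x hx
      obtain ⟨d, rfl⟩ := ht1 g hg
      rw [← map_mul, ← map_inv, ← map_mul]
      exact (memQ _).2 (h.large.conj_mem d ((memC _).1 d.2) c hc)
    · intro x hx
      obtain ⟨c, rfl, hc⟩ := exQ x hx
      rcases h.large.sq c hc with h1 | h1
      · left
        rw [← map_mul, ← map_one φ]
        exact tr h1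
      · right
        rw [← map_mul, ← hzt]
        exact tr h1
    · intro x hx y hy
      obtain ⟨c, rfl, hc⟩ := exQ x hx
      obtain ⟨d, rfl, hd⟩ := exQ y hy
      rcases h.large.comm c hc d hd with h1 | h1
      · left
        rw [← map_mul, ← map_mul]
        exact tr h1
      · right
        rw [← hzt, ← map_mul, ← map_mul, ← map_mul]
        exact tr h1
    · intro x hx hxy
      obtain ⟨c, rfl, hc⟩ := exQ x hx
      have h1 := h.large.cent c hc (fun y hy => by
        have h2 := hxy (φ ⟨y, hiQ y hy⟩) ((memQ _).2 hy)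
        rw [← map_mul, ← map_mul] at h2
        exact rt h2)
      rcases h1 with h1 | h1
      · left
        rw [← map_one φ]
        exact tr h1
      · right
        rw [← hzt]
        exact tr h1
    · intro g hg hgx
      obtain ⟨d, rfl⟩ := ht1 g hg
      refine (memQ _).2 (h.large.self d ((memC _).1 d.2) (fun x hx => ?_))
      have h2 := hgx (φ ⟨x, hiQ x hx⟩) ((memQ _).2 hx)
      rw [← map_mul, ← map_mul] at h2
      exact rt h2
  have hcardQ : Nat.card Q' = 32 := by
    rw [hQ', Subgroup.card_map_of_injective hinj, ← h.card]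
    exact Nat.card_congr (Subgroup.subgroupOfEquivOfLe hiQ).toEquiv
  have hgenC : ∀ s : Set H, (hs : s ⊆ Subgroup.centralizer ({z} : Set H)) →
      (Subgroup.closure s).subgroupOf (Subgroup.centralizer ({z} : Set H)) =
        Subgroup.closure (Subtype.val ⁻¹' s) := by
    intro s hs
    have h1 : Subgroup.closure s = (Subgroup.closure
        ((Subtype.val : ↥(Subgroup.centralizer ({z} : Set H)) → H) ⁻¹' s)).map
        (Subgroup.centralizer ({z} : Set H)).subtype := by
      rw [MonoidHom.map_closure]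
      congr 1
      ext x
      simp only [Subgroup.coe_subtype, Set.mem_image, Set.mem_preimage, Subtype.exists, exists_and_left,
        exists_prop, exists_eq_right_right]
      exact ⟨fun hx => ⟨hx, hs hx⟩, fun hx => hx.1⟩
    rw [h1, Subgroup.subgroupOf, Subgroup.comap_map_eq_self_of_injective
      (Subgroup.centralizer ({z} : Set H)).subtype_injective]
  have hgenQ' : Q' = Subgroup.closure {φ ⟨i, hi⟩, φ ⟨j, hj⟩, φ ⟨k, hk⟩, φ ⟨l, hl⟩} := by
    rw [hQ', h.gen, hgenC _ (by rintro x hx; exact hcen x (by simp at hx ⊢; tauto)), MonoidHom.map_closure]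
    congr 1
    ext x
    simp only [Set.mem_image, Set.mem_preimage, Set.mem_insert_iff, Set.mem_singleton_iff]
    constructor
    · rintro ⟨c, hc, rfl⟩
      rcases hc with hc | hc | hc | hc
      · exact Or.inl (tr hc)
      · exact Or.inr (Or.inl (tr hc))
      · exact Or.inr (Or.inr (Or.inl (tr hc)))
      · exact Or.inr (Or.inr (Or.inr (tr hc)))
    · rintro (rfl | rfl | rfl | rfl)
      · exact ⟨_, Or.inl rfl, rfl⟩
      · exact ⟨_, Or.inr (Or.inl rfl), rfl⟩
      · exact ⟨_, Or.inr (Or.inr (Or.inl rfl)), rfl⟩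
      · exact ⟨_, Or.inr (Or.inr (Or.inr rfl)), rfl⟩
  have hgenT : Subgroup.centralizer ({t} : Set G) =
      Subgroup.closure {φ ⟨i, hi⟩, φ ⟨j, hj⟩, φ ⟨k, hk⟩, φ ⟨l, hl⟩, φ ⟨v, hv⟩, φ ⟨y, hy⟩} := by
    have h1 : (⊤ : Subgroup ↥(Subgroup.centralizer ({z} : Set H))) =
        Subgroup.closure (Subtype.val ⁻¹' {i, j, k, l, v, y}) := by
      rw [← hgenC _ hcen, ← h.cent, Subgroup.subgroupOf_self]
    rw [← hrange, MonoidHom.range_eq_map, h1, MonoidHom.map_closure]
    congr 1
    ext x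
    simp only [Set.mem_image, Set.mem_preimage, Set.mem_insert_iff, Set.mem_singleton_iff]
    constructor
    · rintro ⟨c, hc, rfl⟩
      rcases hc with hc | hc | hc | hc | hc | hc
      · exact Or.inl (tr hc)
      · exact Or.inr (Or.inl (tr hc))
      · exact Or.inr (Or.inr (Or.inl (tr hc)))
      · exact Or.inr (Or.inr (Or.inr (Or.inl (tr hc))))
      · exact Or.inr (Or.inr (Or.inr (Or.inr (Or.inl (tr hc)))))
      · exact Or.inr (Or.inr (Or.inr (Or.inr (Or.inr (tr hc)))))
    · rintro (rfl | rfl | rfl | rfl | rfl | rfl)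
      · exact ⟨_, Or.inl rfl, rfl⟩
      · exact ⟨_, Or.inr (Or.inl rfl), rfl⟩
      · exact ⟨_, Or.inr (Or.inr (Or.inl rfl)), rfl⟩
      · exact ⟨_, Or.inr (Or.inr (Or.inr (Or.inl rfl))), rfl⟩
      · exact ⟨_, Or.inr (Or.inr (Or.inr (Or.inr (Or.inl rfl)))), rfl⟩
      · exact ⟨_, Or.inr (Or.inr (Or.inr (Or.inr (Or.inr rfl)))), rfl⟩
  have act : ∀ {c i₁ j₁ k₁ l₁ : H} (hc : c ∈ Subgroup.centralizer ({z} : Set H))
      (h1 : i₁ ∈ Subgroup.centralizer ({z} : Set H)) (h2 : j₁ ∈ Subgroup.centralizer ({z} : Set H))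
      (h3 : k₁ ∈ Subgroup.centralizer ({z} : Set H)) (h4 : l₁ ∈ Subgroup.centralizer ({z} : Set H)),
      Act z i j k l c i₁ j₁ k₁ l₁ →
      Act t (φ ⟨i, hi⟩) (φ ⟨j, hj⟩) (φ ⟨k, hk⟩) (φ ⟨l, hl⟩) (φ ⟨c, hc⟩) (φ ⟨i₁, h1⟩) (φ ⟨j₁, h2⟩)
        (φ ⟨k₁, h3⟩) (φ ⟨l₁, h4⟩) := by
    intro c i₁ j₁ k₁ l₁ hc h1 h2 h3 h4 hA
    refine ⟨?_, ?_, ?_, ?_, ?_⟩
    · rw [← hzt, ← map_mul, ← map_inv, ← map_mul]; exact tr hA.z
    · rw [← map_mul, ← map_inv, ← map_mul]; exact tr hA.i
    · rw [← map_mul, ← map_inv, ← map_mul]; exact tr hA.j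
    · rw [← map_mul, ← map_inv, ← map_mul]; exact tr hA.k
    · rw [← map_mul, ← map_inv, ← map_mul]; exact tr hA.l
  refine ⟨Q', φ ⟨i, hi⟩, φ ⟨j, hj⟩, φ ⟨k, hk⟩, φ ⟨l, hl⟩, φ ⟨v, hv⟩, φ ⟨y, hy⟩, ?_⟩
  refine { large := hlarge, card := hcardQ, gen := hgenQ', ii := ?_, jj := ?_, kk := ?_, ll := ?_, ji := ?_,
           lk := ?_, ki := ?_, li := ?_, kj := ?_, lj := ?_, v3 := ?_, v_act := ?_, y_act := ?_, vy := ?_,
           y2 := ?_, cent := hgenT, card_cent := ?_ }
  · rw [← map_mul, ← hzt]; exact tr h.ii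
  · rw [← map_mul, ← hzt]; exact tr h.jj
  · rw [← map_mul, ← hzt]; exact tr h.kk
  · rw [← map_mul, ← hzt]; exact tr h.ll
  · rw [← hzt, ← map_mul, ← map_mul, ← map_mul]; exact tr h.ji
  · rw [← hzt, ← map_mul, ← map_mul, ← map_mul]; exact tr h.lk
  · rw [← map_mul, ← map_mul]; exact tr h.ki
  · rw [← map_mul, ← map_mul]; exact tr h.li
  · rw [← map_mul, ← map_mul]; exact tr h.kj
  · rw [← map_mul, ← map_mul]; exact tr h.lj
  · rw [← map_pow, ← map_one φ]; exact tr h.v3
  · have := act hv hj (mul_mem hi hj) hl (mul_mem hk hl) h.v_act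
    rw [← map_mul, ← map_mul]
    exact this
  · have := act hy (mul_mem hj hz) (mul_mem hi hz) (mul_mem hl hz) (mul_mem hk hz) h.y_act
    rw [← hzt, ← map_mul, ← map_mul, ← map_mul, ← map_mul]
    rw [← hzt] at this
    exact this
  · rw [← map_mul, ← map_inv, ← map_mul, ← map_inv]; exact tr h.vy
  · rcases h.y2 with h1 | h1
    · left; rw [← map_mul, ← map_one φ]; exact tr h1
    · right; rw [← map_mul, ← hzt]; exact tr h1
  · rw [← h.card_cent]; exact Nat.card_congr e.toEquiv

end Cfsg.Agent.H330.CaseTrans
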