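import Cfsg.Agent.H330.ClassLaced

/-!
# Sets of nodes as bit masks (helper330)

The hypothesis `hcomb` of `ClassLaced.notA_sys` by computation.
-/

set_option autoImplicit false

namespace Cfsg.Agent.H330.ClassBits

open Cfsg.Agent.H330.ClassLaced

/-- the set of the bits -/
def toSet (n m : ℕ) : Finset (Fin n) := Finset.univ.filter fun i => m.testBit i = true

theorem mem_toSet {n m : ℕ} {i : Fin n} : i ∈ toSet n m ↔ m.testBit i = true := by
  simp [toSet]

/-- the end of the component of `a` in `K ∪ {a}` -/
def walk (adj : ℕ → ℕ) : ℕ → ℕ → ℕ → Option ℕ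
  | 0, _, _ => none
  | f + 1, a, K =>
    if Nat.land (adj a) K = 0 then some a
    else if Nat.land (adj a) K = 2 ^ (Nat.log2 (Nat.land (adj a) K)) then
      walk adj f (Nat.log2 (Nat.land (adj a) K)) (Nat.xor K (2 ^ (Nat.log2 (Nat.land (adj a) K))))
    else none

/-- a move -/
def move (adj : ℕ → ℕ) (n d K : ℕ) : Option ℕ :=
  if K.testBit d = true then none
  else if n ≤ d then none
  else match walk adj n d K with
    | none => none
    | some e => if K.testBit e = true then some (Nat.xor (Nat.lor K (2 ^ d)) (2 ^ e)) else none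

/-- following the pointers of the table -/
def go (adj : ℕ → ℕ) (n i : ℕ) (tbl : ℕ → ℕ) : ℕ → ℕ → Bool
  | 0, K => K.testBit i
  | f + 1, K => K.testBit i || match move adj n (tbl K) K with
    | none => false
    | some K' => go adj n i tbl f K'

section Sound

variable {n : ℕ} {M : CoxeterMatrix (Fin n)} {adj : ℕ → ℕ}
  (h3 : ∀ i j : Fin n, (adj i).testBit j = true → M i j = 3)
  (h2 : ∀ i j : Fin n, i ≠ j → (adj i).testBit j = false → M j i = 2)

theorem testBit_two_pow' (b j : ℕ) : (2 ^ b).testBit j = decide (b = j) := Nat.testBit_two_pow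

theorem lt_of_testBit {K j : ℕ} (hK : K < 2 ^ n) (h : K.testBit j = true) : j < n := by
  by_contra hn
  rw [Nat.testBit_lt_two_pow (lt_of_lt_of_le hK (Nat.pow_le_pow_right (by omega) (by omega)))] at h
  exact Bool.false_ne_true h

include h3 h2 in
theorem walk_sound {f : ℕ} : ∀ {a K e : ℕ} (ha : a < n), K < 2 ^ n → K.testBit a = false →
    walk adj f a K = some e → ∃ (l : List (Fin n)) (he : e < n), Walk M ⟨a, ha⟩ (toSet n K) l ∧
      l.getLastD ⟨a, ha⟩ = ⟨e, he⟩ := by
  induction f with
  | zero => intro a K e _ _ _ h; simp [walk] at h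
  | succ f ih =>
    intro a K e ha hK hKa h
    rw [walk] at h
    set N := Nat.land (adj a) K with hN
    have hbit : ∀ j, N.testBit j = ((adj a).testBit j && K.testBit j) := fun j => Nat.testBit_and _ _ _
    by_cases h0 : N = 0
    · rw [if_pos h0, Option.some.injEq] at h
      subst h
      refine ⟨[], ha, Walk.nil fun j hj => ?_, rfl⟩
      rw [mem_toSet] at hj
      have h1 := hbit j
      rw [h0, Nat.zero_testBit, hj, Bool.and_true] at h1
      refine h2 ⟨a, ha⟩ j ?_ h1.symm
      rintro rfl
      rw [hKa] at hj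
      exact Bool.false_ne_true hj
    · rw [if_neg h0] at h
      by_cases h1 : N = 2 ^ N.log2
      · rw [if_pos h1] at h
        set b := N.log2 with hb
        have hb1 := hbit b
        rw [h1, testBit_two_pow', decide_eq_true rfl] at hb1
        rw [eq_comm, Bool.and_eq_true] at hb1
        obtain ⟨hb1, hb2⟩ := hb1
        have hbn : b < n := lt_of_testBit hK hb2
        have hx : ∀ j, (Nat.xor K (2 ^ b)).testBit j = (K.testBit j ^^ decide (b = j)) := by
          intro j
          rw [← testBit_two_pow']
          exact Nat.testBit_xor _ _ _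
        have hK' : Nat.xor K (2 ^ b) < 2 ^ n :=
          Nat.xor_lt_two_pow hK (Nat.pow_lt_pow_right (by omega) hbn)
        have hKb : (Nat.xor K (2 ^ b)).testBit b = false := by
          rw [hx, hb2]; simp
        obtain ⟨l, he, hl1, hl2⟩ := ih hbn hK' hKb h
        refine ⟨⟨b, hbn⟩ :: l, he, ?_, ?_⟩
        · refine Walk.cons (mem_toSet.2 hb2) (h3 ⟨a, ha⟩ ⟨b, hbn⟩ hb1) ?_ ?_
          · intro j hj hjb
            rw [mem_toSet] at hj
            have h4 := hbit j
            rw [h1, testBit_two_pow', hj, Bool.and_true] at h4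
            have h5 : decide (b = (j : ℕ)) = false := by
              rw [decide_eq_false_iff_not]
              rintro h6
              exact hjb (Fin.ext h6.symm)
            rw [h5] at h4
            refine h2 ⟨a, ha⟩ j ?_ h4.symm
            rintro rfl
            rw [hKa] at hj
            exact Bool.false_ne_true hj
          · convert hl1 using 1
            ext j
            rw [Finset.mem_erase, mem_toSet, mem_toSet, hx]
            by_cases h6 : b = (j : ℕ)
            · have : j = ⟨b, hbn⟩ := Fin.ext h6.symm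
              subst this
              simp [hb2]
            · have h7 : j ≠ ⟨b, hbn⟩ := fun h => h6 (by rw [h])
              simp [h6, h7]
        · rw [List.getLastD_cons]; exact hl2
      · rw [if_neg h1] at h
        exact absurd h (by simp)

include h3 h2 in
theorem move_sound {d K K' : ℕ} (hK : K < 2 ^ n) (h : move adj n d K = some K') :
    Step M (toSet n K) (toSet n K') ∧ K' < 2 ^ n := by
  rw [move] at h
  by_cases h1 : K.testBit d = true
  · rw [if_pos h1] at h; exact absurd h (by simp)
  rw [if_neg h1] at h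
  rw [Bool.not_eq_true] at h1
  by_cases h4 : n ≤ d
  · rw [if_pos h4] at h; exact absurd h (by simp)
  rw [if_neg h4] at h
  have hd : d < n := by omega
  cases hw : walk adj n d K with
  | none => rw [hw] at h; exact absurd h (by simp)
  | some e =>
    rw [hw] at h
    simp only at h
    by_cases h5 : K.testBit e = true
    · rw [if_pos h5, Option.some.injEq] at h
      subst h
      obtain ⟨l, he, hl1, hl2⟩ := walk_sound h3 h2 hd hK h1 hw
      have hb : ∀ j, (Nat.xor (Nat.lor K (2 ^ d)) (2 ^ e)).testBit j =
          ((K.testBit j || decide (d = j)) ^^ decide (e = j)) := by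
        intro j
        have e1 : (Nat.xor (Nat.lor K (2 ^ d)) (2 ^ e)).testBit j =
            ((Nat.lor K (2 ^ d)).testBit j ^^ (2 ^ e).testBit j) := Nat.testBit_xor _ _ _
        have e2 : (Nat.lor K (2 ^ d)).testBit j = (K.testBit j || (2 ^ d).testBit j) := Nat.testBit_or _ _ _
        rw [e1, e2, testBit_two_pow', testBit_two_pow']
      have hlt : Nat.xor (Nat.lor K (2 ^ d)) (2 ^ e) < 2 ^ n :=
        Nat.xor_lt_two_pow (Nat.or_lt_two_pow hK (Nat.pow_lt_pow_right (by omega) hd))
          (Nat.pow_lt_pow_right (by omega) he)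
      have hde : d ≠ e := by
        rintro rfl
        rw [h1] at h5
        exact Bool.false_ne_true h5
      refine ⟨⟨⟨d, hd⟩, l, ?_, hl1, ?_, ?_⟩, hlt⟩
      · rw [mem_toSet, Bool.not_eq_true]; exact h1
      · rintro rfl
        simp only [List.getLastD_nil, Fin.mk.injEq] at hl2
        exact hde hl2
      · rw [hl2]
        ext j
        rw [Finset.mem_insert, Finset.mem_erase, mem_toSet, mem_toSet, hb]
        by_cases hjd : d = (j : ℕ)
        · have h6 : j = ⟨d, hd⟩ := Fin.ext hjd.symm
          subst h6
          simp [Ne.symm hde]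
        · have h6 : j ≠ ⟨d, hd⟩ := fun h => hjd (by rw [h])
          by_cases hje : e = (j : ℕ)
          · have h7 : j = ⟨e, he⟩ := Fin.ext hje.symm
            subst h7
            simp [h5, hde, Ne.symm hde]
          · have h7 : j ≠ ⟨e, he⟩ := fun h => hje (by rw [h])
            simp [hjd, h6, hje, h7]
    · rw [if_neg h5] at h; exact absurd h (by simp)

include h3 h2 in
theorem go_sound {i : ℕ} (hi : i < n) {tbl : ℕ → ℕ} {f : ℕ} : ∀ {K : ℕ}, K < 2 ^ n → go adj n i tbl f K = true →
    Hit M (toSet n K) ⟨i, hi⟩ := by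
  induction f with
  | zero => intro K _ h; rw [go] at h; exact Hit.of_mem (mem_toSet.2 h)
  | succ f ih =>
    intro K hK h
    rw [go, Bool.or_eq_true] at h
    rcases h with h | h
    · exact Hit.of_mem (mem_toSet.2 h)
    · cases hm : move adj n (tbl K) K with
      | none => rw [hm] at h; exact absurd h (by simp)
      | some K' =>
        rw [hm] at h
        obtain ⟨h4, h5⟩ := move_sound h3 h2 hK hm
        exact Hit.head h4 (ih h5 h)

theorem exists_toSet (K : Finset (Fin n)) : ∃ m < 2 ^ n, toSet n m = K := by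
  induction K using Finset.induction_on with
  | empty =>
    refine ⟨0, by positivity, ?_⟩
    ext i
    rw [mem_toSet]
    simp
  | insert a s ha ih =>
    obtain ⟨m, hm, rfl⟩ := ih
    refine ⟨m ||| 2 ^ (a : ℕ), Nat.or_lt_two_pow hm (Nat.pow_lt_pow_right (by omega) a.2), ?_⟩
    ext i
    rw [Finset.mem_insert, mem_toSet, mem_toSet, Nat.testBit_or, testBit_two_pow', Bool.or_eq_true, decide_eq_true_iff,
      Fin.ext_iff, or_comm, eq_comm]

/-- the check -/
def check (adj : ℕ → ℕ) (n : ℕ) (tbl : ℕ → ℕ → ℕ) (f : ℕ) (ms : List ℕ) : Bool :=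
  (ms.all fun a => ms.all fun b => (List.range n).any fun i => a.testBit i && b.testBit i) &&
  (List.range (2 ^ n)).all fun K => K == 0 || ms.any fun m =>
    (List.range n).all fun i => !m.testBit i || go adj n i (tbl i) f K

include h3 h2 in
theorem comb {tbl : ℕ → ℕ → ℕ} {f : ℕ} {ms : List ℕ} (h : check adj n tbl f ms = true) (K L : Finset (Fin n))
    (hK : K.Nonempty) (hL : L.Nonempty) : ∃ i, Hit M K i ∧ Hit M L i := by
  rw [check, Bool.and_eq_true, List.all_eq_true, List.all_eq_true] at h
  obtain ⟨h4, h5⟩ := h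
  have key : ∀ K : Finset (Fin n), K.Nonempty → ∃ m ∈ ms, ∀ i : Fin n, m.testBit i = true → Hit M K i := by
    intro K hK
    obtain ⟨k, hk, rfl⟩ := exists_toSet K
    have h6 := h5 k (List.mem_range.2 hk)
    rw [Bool.or_eq_true] at h6
    rcases h6 with h6 | h6
    · exfalso
      obtain ⟨i, hi⟩ := hK
      rw [beq_iff_eq] at h6
      rw [mem_toSet, h6, Nat.zero_testBit] at hi
      exact Bool.false_ne_true hi
    · rw [List.any_eq_true] at h6
      obtain ⟨m, hm, h7⟩ := h6
      rw [List.all_eq_true] at h7
      refine ⟨m, hm, fun i hi => ?_⟩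
      have h8 := h7 i (List.mem_range.2 i.2)
      rw [hi, Bool.not_true, Bool.false_or] at h8
      exact go_sound h3 h2 i.2 hk h8
  obtain ⟨a, ha, h6⟩ := key K hK
  obtain ⟨b, hb, h7⟩ := key L hL
  have h8 := h4 a ha
  rw [List.all_eq_true] at h8
  have h9 := h8 b hb
  rw [List.any_eq_true] at h9
  obtain ⟨i, hi, h10⟩ := h9
  rw [Bool.and_eq_true] at h10
  rw [List.mem_range] at hi
  exact ⟨⟨i, hi⟩, h6 ⟨i, hi⟩ h10.1, h7 ⟨i, hi⟩ h10.2⟩

end Sound

end Cfsg.Agent.H330.ClassBits
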