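import Cfsg.Agent.H330.ClassModule
import Cfsg.Agent.Nodes.RGDChev
import Cfsg.Agent.Nodes.CardSup

/-!
# Integral commutator relations and the orders of the root groups: Chevalley groups (helper330)

`intC`, `card_X`.
-/

set_option autoImplicit false
set_option linter.unusedSectionVars false

namespace Cfsg.Agent.H330.ClassInt

open CoxeterSystem Cfsg.Agent.ChevalleyStructure.CoxeterGeom Cfsg.Agent.Tits.Roots Cfsg.Agent.Tits.Core
  Cfsg.Agent.Tits.RootComb Cfsg.Agent.Nodes.Comb Cfsg.Agent.Nodes.Reps Cfsg.Agent.Nodes.BNOf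
open Cfsg.Lie Cfsg.Agent.ChevalleyStructure Cfsg.Agent.ChevalleyStructure.Elts
  Cfsg.Agent.ChevalleyStructure.RootVec Cfsg.Agent.ChevalleyStructure.RootVecTab
  Cfsg.Agent.ChevalleyStructure.NPerm Cfsg.Agent.ChevalleyStructure.CoxeterGeomTypes
  Cfsg.Agent.Nodes.RGDChev Cfsg.Agent.H330.ClassModule
open scoped commutatorElement

universe u

theorem _root_.Cfsg.Agent.H330.ClassModule.IntC.restrict {I W Y : Type*} [Fintype I] [DecidableEq I] [Group W] [Group Y]
    {M : CoxeterMatrix I} {cs : CoxeterSystem M W} {A : I → I → ℤ} {h : IsCartan M A} {X : (I → ℤ) → Subgroup Y}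
    (hI : IntC cs h X) (K : Subgroup Y) (hX : ∀ x, X x ≤ K) : IntC cs h (fun x => (X x).subgroupOf K) := by
  intro x y hx hy hxy hxy' a ha b hb
  have h1 := hI x y hx hy hxy hxy' a ha b hb
  have h2 : ⁅a, b⁆ ∈ (⨆ z : {z | IsRoot cs h z ∧ ∃ c d : ℤ, 0 < c ∧ 0 < d ∧ z = c • x + d • y}, X z.1).subgroupOf K :=
    h1
  have e := Nodes.RGDLib.iSup_subgroupOf (K := K)
    (fun z : {z | IsRoot cs h z ∧ ∃ c d : ℤ, 0 < c ∧ 0 < d ∧ z = c • x + d • y} => X z.1) (fun z => hX z.1)
  rw [e] at h2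
  exact h2

variable {D : ChevalleyDatum} {l : ℕ} {M : CoxeterMatrix (Fin l)} (hp : IsType D l M) {K : Type u} [Field K]
  {W : Type*} [Group W] (cs : CoxeterSystem M W)

theorem intC_GL : IntC cs hp.isCartan (XV D l K) := by
  intro x y hx hy hxy hxy' a ha b hb
  obtain ⟨s, hs, rfl⟩ := (isRoot_iff hp cs x).1 hx
  obtain ⟨r, hr, rfl⟩ := (isRoot_iff hp cs y).1 hy
  rw [XV_vec hp K hs, mem_rootSubgroup_iff hp.inList] at ha
  rw [XV_vec hp K hr, mem_rootSubgroup_iff hp.inList] at hb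
  obtain ⟨u, rfl⟩ := ha
  obtain ⟨t, rfl⟩ := hb
  have hne : s ≠ r := fun h => hxy (by rw [h])
  have hne' : s ≠ D.neg r := fun h => hxy' (by rw [h, vec_neg hp hr])
  have e : ⁅xG hp.inList s u, xG hp.inList r t⁆ = wordG hp.inList (D.commWord K r s (-t) (-u)) := by
    rw [← comm_xG hp hr hs hne hne', xG_inv, xG_inv, _root_.neg_neg, _root_.neg_neg]
  rw [e]
  refine wordG_mem hp _ _ ?_
  intro c hc
  have hc' : c ∈ (D.commTerms r s).map fun c => (c.1, (c.2.1 : K) * (- -t) ^ c.2.2.1 * (-u) ^ c.2.2.2) := hc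
  rw [List.mem_map] at hc'
  obtain ⟨⟨v, C, i, j⟩, hv, rfl⟩ := hc'
  obtain ⟨hv1, -, -, hi, hj, hvec⟩ := commTerms_rt hp.checked hv
  have hz : vec D l v ∈ {z | IsRoot cs hp.isCartan z ∧ ∃ c d : ℤ, 0 < c ∧ 0 < d ∧ z = c • vec D l s + d • vec D l r} := by
    refine ⟨isRoot_vec hp cs hv1, (j : ℤ), (i : ℤ), by exact_mod_cast hj, by exact_mod_cast hi, ?_⟩
    funext k
    rw [vec_apply, hvec, Pi.add_apply, Pi.smul_apply, Pi.smul_apply, smul_eq_mul, smul_eq_mul, vec_apply, vec_apply,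
      add_comm]
  refine RGD.le_Sup (X := XV D l K) hz ?_
  rw [XV_vec hp K hv1]
  exact xG_mem_rootSubgroup hp.inList v _

/-- **Integral commutator relations.** -/
theorem intC : IntC cs hp.isCartan (fun x => (XV D l K x).subgroupOf (D.group K)) :=
  (intC_GL hp cs).restrict _ fun x => XV_le_group hp x

include hp cs in
/-- the order of the root groups -/
theorem card_X (x : Fin l → ℤ) (hx : IsRoot cs hp.isCartan x) :
    Nat.card ↥((XV D l K x).subgroupOf (D.group K)) = Nat.card K := by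
  obtain ⟨r, hr, rfl⟩ := (isRoot_iff hp cs x).1 hx
  rw [Nat.card_congr (Subgroup.subgroupOfEquivOfLe (XV_le_group hp _)).toEquiv, XV_vec hp K hr]
  have hbij : Function.Bijective (fun t : K => (⟨xG hp.inList r t, xG_mem_rootSubgroup hp.inList r t⟩ :
      ↥(D.rootSubgroup K r))) := by
    constructor
    · intro a b hab
      exact xG_injective hp.inList hr (congrArg Subtype.val hab)
    · rintro ⟨g, hg⟩
      obtain ⟨t, rfl⟩ := (mem_rootSubgroup_iff hp.inList r g).1 hg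
      exact ⟨t, rfl⟩
  exact (Nat.card_congr (Equiv.ofBijective _ hbij)).symm

end Cfsg.Agent.H330.ClassInt
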