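import Cfsg.Agent.H330.ClassTorus
import Cfsg.Agent.OddHalf.Table.AutRGD

/-!
# Root group data: elements fixing three chambers of a panel (helper330)

`free_of_rgd` : if each element of the torus which centralises a nontrivial element of `X (α_i)` centralises `X (α_i)`
then an element fixing three chambers of an `i`-panel fixes all chambers of the panel.
-/

set_option autoImplicit false
set_option linter.unusedSectionVars false

namespace Cfsg.Agent.H330.ClassRGD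

open CoxeterSystem Cfsg.Agent.ChevalleyStructure.CoxeterGeom Cfsg.Agent.Tits.Roots Cfsg.Agent.Tits.Core
  Cfsg.Agent.Tits.RootComb Cfsg.Agent.Nodes.Comb Cfsg.Agent.Nodes.Reps Cfsg.Agent.Nodes.BNOf Cfsg.Agent.Nodes.BNOf.RGD
  Cfsg.Agent.FixBN Cfsg.Agent.Tits.OfBN Cfsg.Agent.Tits.OppRes Cfsg.Agent.LieExceptional.BNPairCore
  Cfsg.Agent.OddHalf.Table.AutBldg Cfsg.Agent.OddHalf.Table.AutRGD

variable {I W Y : Type*} [Fintype I] [DecidableEq I] [Group W] [Group Y] {M : CoxeterMatrix I}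
  {cs : CoxeterSystem M W} {A : I → I → ℤ} {h : IsCartan M A} {p : ℕ} {T : Subgroup Y} {n : I → Y}
  {X : (I → ℤ) → Subgroup Y} [Finite W]

variable (R : RGD cs h p T n X) (hgen : B cs h T X ⊔ NN cs R.nsys = ⊤)

include R in
theorem X_conj_T {x : I → ℤ} (hx : IsRoot cs h x) {t u : Y} (ht : t ∈ T) (hu : u ∈ X x) : t * u * t⁻¹ ∈ X x := by
  have h1 := R.tor x hx t ht
  have h2 : t * u * t⁻¹ ∈ cj t (X x) := conj_mem_cj.2 hu
  rwa [h1] at h2

include R in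
theorem T_conj_n (i : I) {t : Y} (ht : t ∈ T) : (n i)⁻¹ * t * n i ∈ T := by
  have h7 := mem_normalizer_iff_cj.1 (R.nsys.norm i)
  have h8 : t ∈ cj (n i) T := by rw [h7]; exact ht
  exact mem_cj.1 h8

include R in
/-- `X (α_i) ∩ n_i B n_i⁻¹ = 1` -/
theorem eq_one_of_conj_mem (i : I) {u : Y} (hu : u ∈ X (sr i)) (h1 : (n i)⁻¹ * u * n i ∈ B cs h T X) : u = 1 := by
  have hx' : (n i)⁻¹ * u * n i ∈ X (-sr i) := by
    have := R.conj_mem' (rp_simple cs R.nsys i) (isRoot_sr cs h i) hu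
    rwa [inv_simple, rep_simple_sr] at this
  have h4 : (n i)⁻¹ * u * n i = 1 := by
    by_contra hne
    exact NodeRGD.not_mem_B_of_neg R i hx' hne h1
  have : u = n i * ((n i)⁻¹ * u * n i) * (n i)⁻¹ := by group
  rw [this, h4]; group

/-- The elements fixing the base chamber and the chamber `n_i B`. -/
theorem exists_torus {i : I} {x : Y} (hx : x ∈ B cs h T X) (hx' : (n i)⁻¹ * x * n i ∈ B cs h T X) :
    ∃ t ∈ T, ∀ v ∈ X (sr i), (QuotientGroup.mk (x * (v * n i)) : Y ⧸ (R.bnPair hgen).B) =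
      QuotientGroup.mk (t * v * t⁻¹ * n i) := by
  obtain ⟨u, hu, t0, ht0, e⟩ : ∃ u ∈ Sup X (Pos cs h), ∃ t ∈ T, x = u * t := by
    obtain ⟨u, hu, h1⟩ := NodeRGD.cover R hx
    exact ⟨u, hu, u⁻¹ * x, h1, by group⟩
  have huV : u ∈ Sup X (PosNe cs h i) := by
    refine (NodeRGD.node R hgen i).stab u hu ?_
    change (n i)⁻¹ * u * n i ∈ B cs h T X
    have h1 : (n i)⁻¹ * u * n i = ((n i)⁻¹ * x * n i) * ((n i)⁻¹ * t0 * n i)⁻¹ := by rw [e]; group
    rw [h1]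
    exact mul_mem hx' (inv_mem (T_le_B (T_conj_n R i ht0)))
  refine ⟨t0, ht0, fun v hv => ?_⟩
  rw [FixBN.OfBN.mk_eq]
  have hw : t0 * v * t0⁻¹ ∈ X (sr i) := X_conj_T R (isRoot_sr cs h i) ht0 hv
  have h2 : (t0 * v * t0⁻¹)⁻¹ * u⁻¹ * (t0 * v * t0⁻¹) ∈ Sup X (PosNe cs h i) := by
    have := (Subgroup.mem_normalizer_iff.1 (R.X_le_normalizer_V i (inv_mem hw)) u⁻¹).1 (inv_mem huV)
    rwa [inv_inv] at this
  have h3 : (n i)⁻¹ * ((t0 * v * t0⁻¹)⁻¹ * u⁻¹ * (t0 * v * t0⁻¹)) * n i ∈ B cs h T X :=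
    U_le_B (Sup_mono (S := PosNe cs h i) (S' := Pos cs h) (fun z hz => ⟨hz.1, hz.2.1⟩) (NodeRGD.conj_V_mem R i h2))
  have h4 : (x * (v * n i))⁻¹ * (t0 * v * t0⁻¹ * n i) =
      ((n i)⁻¹ * t0 * n i)⁻¹ * ((n i)⁻¹ * ((t0 * v * t0⁻¹)⁻¹ * u⁻¹ * (t0 * v * t0⁻¹)) * n i) := by
    rw [e]; group
  change (x * (v * n i))⁻¹ * (t0 * v * t0⁻¹ * n i) ∈ B cs h T X
  rw [h4]
  exact mul_mem (inv_mem (T_le_B (T_conj_n R i ht0))) h3

variable [hN : (((R.bnPair hgen).B ⊓ (R.bnPair hgen).N).subgroupOf (R.bnPair hgen).N).Normal]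
  (cs' : CoxeterSystem M (WP (R.bnPair hgen)))
  (hcs : ∀ i, cs'.simple i = QuotientGroup.mk
    (⟨(eS R hgen i : Y), (R.bnPair hgen).subset (eS R hgen i).2⟩ : (R.bnPair hgen).N))

/-- **Elements fixing three chambers of a panel.** -/
theorem free_of_rgd (i : I)
    (hT : ∀ t ∈ T, ∀ u ∈ X (sr i), u ≠ 1 → t * u * t⁻¹ = u → ∀ v ∈ X (sr i), t * v * t⁻¹ = v)
    {x : Y} {c y z : Y ⧸ (R.bnPair hgen).B} (hc : x • c = c)
    (hy : y ∈ (bldg (R.bnPair hgen) (eS R hgen) cs' hcs).Pan i c)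
    (hz : z ∈ (bldg (R.bnPair hgen) (eS R hgen) cs' hcs).Pan i c) (hyc : y ≠ c) (hzc : z ≠ c) (hyz : y ≠ z)
    (hxy : x • y = y) (hxz : x • z = z) :
    ∀ w ∈ (bldg (R.bnPair hgen) (eS R hgen) cs' hcs).Pan i c, x • w = w := by
  set Δ := bldg (R.bnPair hgen) (eS R hgen) cs' hcs with hΔ
  have hiso : ∀ (g : Y) (a b : Y ⧸ (R.bnPair hgen).B), Δ.δ (g • a) (g • b) = Δ.δ a b :=
    fun g a b => dist_smul (R.bnPair hgen) g a b
  obtain ⟨g, rfl⟩ := QuotientGroup.mk_surjective c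
  have hg1 : (QuotientGroup.mk g : Y ⧸ (R.bnPair hgen).B) = g • QuotientGroup.mk 1 := by
    rw [FixBN.OfBN.smul_mk, mul_one]
  -- the chambers of the panel
  have hpan : ∀ w ∈ Δ.Pan i (QuotientGroup.mk g), w ≠ QuotientGroup.mk g → ∃ v ∈ X (sr i),
      w = g • (QuotientGroup.mk (v * n i) : Y ⧸ (R.bnPair hgen).B) := by
    intro w hw hne
    have h1 : Δ.δ (QuotientGroup.mk 1) (g⁻¹ • w) = cs'.simple i := by
      rw [← hiso g, smul_inv_smul, ← hg1]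
      rcases hw with hw | hw
      · exact absurd hw hne
      · exact hw
    obtain ⟨v, hv, e⟩ := pan_eq R hgen cs' hcs i h1
    exact ⟨v, hv, by rw [← e, smul_inv_smul]⟩
  obtain ⟨a, ha, rfl⟩ := hpan y hy hyc
  obtain ⟨b, hb, rfl⟩ := hpan z hz hzc
  -- conjugate
  set x' := a⁻¹ * (g⁻¹ * x * g) * a with hx'
  have hax : x = g * a * x' * (g * a)⁻¹ := by rw [hx']; group
  have haB : a ∈ B cs h T X := X_le_B (isRoot_sr cs h i) (sr_nonneg i) ha
  have hx'B : x' ∈ B cs h T X := by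
    have h1 : g⁻¹ * x * g ∈ (R.bnPair hgen).B := by
      have h2 : (QuotientGroup.mk (x * g) : Y ⧸ (R.bnPair hgen).B) = QuotientGroup.mk g := by
        rw [← FixBN.OfBN.smul_mk]; exact hc
      have h3 := (FixBN.OfBN.mk_eq.1 h2)
      have h4 : g⁻¹ * x * g = ((x * g)⁻¹ * g)⁻¹ := by group
      rw [h4]
      exact inv_mem h3
    exact mul_mem (mul_mem (inv_mem haB) h1) haB
  have key : ∀ v ∈ X (sr i), x • g • (QuotientGroup.mk (v * n i) : Y ⧸ (R.bnPair hgen).B) =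
      (g * a) • QuotientGroup.mk (x' * (a⁻¹ * v * n i)) := by
    intro v _
    rw [FixBN.OfBN.smul_mk, FixBN.OfBN.smul_mk, FixBN.OfBN.smul_mk, hax]
    congr 1
    group
  have key' : ∀ v : Y, g • (QuotientGroup.mk (v * n i) : Y ⧸ (R.bnPair hgen).B) =
      (g * a) • QuotientGroup.mk (a⁻¹ * v * n i) := by
    intro v
    rw [FixBN.OfBN.smul_mk, FixBN.OfBN.smul_mk]
    congr 1
    group
  have hx'n : (n i)⁻¹ * x' * n i ∈ B cs h T X := by
    have h1 := key a ha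
    rw [hxy, key' a] at h1
    have h2 := smul_left_cancel _ h1
    rw [FixBN.OfBN.mk_eq] at h2
    have h3 : (n i)⁻¹ * x' * n i = (a⁻¹ * a * n i)⁻¹ * (x' * (a⁻¹ * a * n i)) := by group
    rw [h3]
    exact h2
  obtain ⟨t, ht, hkey⟩ := exists_torus R hgen hx'B hx'n
  have hcomm : ∀ v ∈ X (sr i), t * v * t⁻¹ = v := by
    have hab : a⁻¹ * b ∈ X (sr i) := mul_mem (inv_mem ha) hb
    refine hT t ht (a⁻¹ * b) hab (fun h1 => hyz ?_) ?_
    · rw [inv_mul_eq_one] at h1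
      rw [h1]
    · have h1 := key b hb
      rw [hxz, key' b] at h1
      have h2 := smul_left_cancel _ h1
      rw [hkey _ hab, FixBN.OfBN.mk_eq] at h2
      have h3 : (a⁻¹ * b)⁻¹ * (t * (a⁻¹ * b) * t⁻¹) = 1 := by
        refine eq_one_of_conj_mem R i (mul_mem (inv_mem hab) (X_conj_T R (isRoot_sr cs h i) ht hab)) ?_
        have h4 : (n i)⁻¹ * ((a⁻¹ * b)⁻¹ * (t * (a⁻¹ * b) * t⁻¹)) * n i =
            (a⁻¹ * b * n i)⁻¹ * (t * (a⁻¹ * b) * t⁻¹ * n i) := by group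
        rw [h4]
        exact h2
      rw [inv_mul_eq_one] at h3
      exact h3.symm
  intro w hw
  by_cases hwc : w = QuotientGroup.mk g
  · rw [hwc]; exact hc
  obtain ⟨v, hv, rfl⟩ := hpan w hw hwc
  rw [key v hv, key' v]
  congr 1
  have hav : a⁻¹ * v ∈ X (sr i) := mul_mem (inv_mem ha) hv
  rw [hkey _ hav, hcomm _ hav]

end Cfsg.Agent.H330.ClassRGD
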