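import Cfsg.Agent.H330.ClassModC
import Cfsg.Agent.H330.ClassRGD
import Cfsg.Agent.H293.TwChamber

/-!
# Residues and parabolic subgroups of a root group datum (helper330)

* `res_iff` : `a` stabilises the `J`-residue of `mk g` if and only if `g⁻¹ a g ∈ P_J`;
* `UR_le` : `u` in the unipotent radical of the `J`-residue of `mk g`, then `g⁻¹ u g ∈ V_J`;
* `dt_of_module` : the panel type `i ∉ J` is trivial, if the elements of `V_J` which commute with `g⁻¹ a g` are trivial on it;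
* `torus_conj` : a `p`-regular element which fixes `mk g` is conjugate by an element of `g B` to an element of the torus;
* `nt_of_pair` : transfer from a long node to a short node.
-/

set_option autoImplicit false
set_option linter.unusedSectionVars false

namespace Cfsg.Agent.H330.ClassLevi

open CoxeterSystem Cfsg.Agent.ChevalleyStructure.CoxeterGeom Cfsg.Agent.Tits.Roots Cfsg.Agent.Tits.Core
  Cfsg.Agent.Tits.Exchange Cfsg.Agent.Nodes.Comb Cfsg.Agent.Nodes.Reps Cfsg.Agent.Nodes.BNOf Cfsg.Agent.Nodes.StabComb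
  Cfsg.Agent.Nodes.Bruhat Cfsg.Agent.Nodes.OppDec Cfsg.Agent.Nodes.LeviDec Cfsg.Agent.Tits.RootComb
  Cfsg.Agent.Tits Cfsg.Agent.FixBN Cfsg.Agent.Tits.OfBN Cfsg.Agent.Tits.OppRes
  Cfsg.Agent.LieExceptional.BNPairCore Cfsg.Agent.OddHalf.Table.AutBldg Cfsg.Agent.OddHalf.Table.AutRGD
  Cfsg.Agent.H293.TwFix Cfsg.Agent.H330.ClassRes Cfsg.Agent.H330.ClassTorus Cfsg.Agent.H330.ClassModule
  Cfsg.Agent.H330.ClassRGD Cfsg.Agent.Tits.Core.Bldg

variable {I W Y : Type*} [Fintype I] [DecidableEq I] [Group W] [Group Y] {M : CoxeterMatrix I}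
  {cs : CoxeterSystem M W} {A : I → I → ℤ} {h : IsCartan M A} {p : ℕ} {T : Subgroup Y} {n : I → Y}
  {X : (I → ℤ) → Subgroup Y} [Finite W]

variable (R : RGD cs h p T n X) (hgen : RGD.B cs h T X ⊔ NN cs R.nsys = ⊤)

include R hgen in
theorem GG_eq_top : GG cs h T X = ⊤ := by
  rw [eq_top_iff, ← hgen]
  exact sup_le B_le_GG (NN_le_GG R)

variable [hN : (((R.bnPair hgen).B ⊓ (R.bnPair hgen).N).subgroupOf (R.bnPair hgen).N).Normal]
  (cs' : CoxeterSystem M (WP (R.bnPair hgen)))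
  (hcs : ∀ i, cs'.simple i = QuotientGroup.mk
    (⟨(eS R hgen i : Y), (R.bnPair hgen).subset (eS R hgen i).2⟩ : (R.bnPair hgen).N))

include hcs in
theorem wt_mem_iff {J : Set I} {b : Y} : wt (R.bnPair hgen) b ∈ WJ cs' J ↔ b ∈ PJ cs h T X J := by
  have hb : b ∈ GG cs h T X := by rw [GG_eq_top R hgen]; exact Subgroup.mem_top b
  obtain ⟨w, hw⟩ := (mem_GG R).1 hb
  rw [(wt_eq_iff_cell R hgen cs' hcs w b).2 hw, cell_mem_PJ_iff R hw]
  constructor
  · intro h1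
    have h2 := isoW_mem_WJ cs' cs h1
    rwa [← isoW_symm, MulEquiv.symm_apply_apply] at h2
  · exact isoW_mem_WJ cs cs'

/-- **Residues and parabolic subgroups.** -/
theorem res_iff {J : Set I} {g a : Y} :
    (bldg (R.bnPair hgen) (eS R hgen) cs' hcs).δ (QuotientGroup.mk g) (a • QuotientGroup.mk g) ∈ WJ cs' J ↔
      g⁻¹ * a * g ∈ PJ cs h T X J := by
  rw [FixBN.OfBN.smul_mk, bldg_δ_mk, ← mul_assoc]
  exact wt_mem_iff R hgen cs' hcs

include hcs in
theorem δ_n (g : Y) (i : I) : (bldg (R.bnPair hgen) (eS R hgen) cs' hcs).δ (QuotientGroup.mk g)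
    (QuotientGroup.mk (g * n i)) = cs'.simple i := by
  rw [bldg_δ_mk, inv_mul_cancel_left, ← isoW_simple cs cs']
  exact (wt_eq_iff_cell R hgen cs' hcs (cs.simple i) (n i)).2 (cell_of_rp (rp_simple cs R.nsys i))

variable [Finite Y] [Fact p.Prime] (S : Split (R.bnPair hgen) p (RGD.Sup X (RGD.Pos cs h)))

/-- **The unipotent radical of a residue.** -/
theorem UR_le {J : Set I} {g u : Y} (hu : u ∈ (FixBN.OfBN.sys (eS R hgen) cs' hcs S).UR
    ((bldg (R.bnPair hgen) (eS R hgen) cs' hcs).Res J (QuotientGroup.mk g))) : g⁻¹ * u * g ∈ VJ cs h X J := by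
  have h1 : ∀ k : Y, wt (R.bnPair hgen) k ∈ WJ cs' J → (g * k)⁻¹ * u * (g * k) ∈ RGD.Sup X (RGD.Pos cs h) := by
    intro k hk
    refine (FixBN.OfBN.mem_UU S).1 (hu (QuotientGroup.mk (g * k)) ?_)
    rw [mem_Res, bldg_δ_mk, inv_mul_cancel_left]
    exact hk
  have h2 : g⁻¹ * u * g ∈ RGD.Sup X (RGD.Pos cs h) := by
    have := h1 1 ((wt_mem_iff R hgen cs' hcs).2 (one_mem _))
    rwa [mul_one] at this
  obtain ⟨u1, hu1, v, hv, e⟩ := (mem_U_iff R (J := J)).1 h2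
  obtain ⟨k, hk⟩ := exists_rp cs R.nsys (wJ cs J)⁻¹
  have hL := isLongest_wJ cs J
  have hkL : k⁻¹ ∈ LJ cs h T X J := by
    have := rp_mem_LJ R (inv_mem hL.1) hk
    exact inv_mem this
  have h3 := h1 k⁻¹ ((wt_mem_iff R hgen cs' hcs).2 (LJ_le_PJ hkL))
  have h4 : (g * k⁻¹)⁻¹ * u * (g * k⁻¹) = (k * u1 * k⁻¹) * (k * v * k⁻¹) := by
    calc _ = k * (g⁻¹ * u * g) * k⁻¹ := by group
      _ = _ := by rw [e]; group
  have h5 : k * v * k⁻¹ ∈ VJ cs h X J :=
    (Subgroup.mem_normalizer_iff.1 (LJ_le_normalizer_VJ R J ((inv_mem_iff).1 hkL)) v).1 hv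
  rw [h4] at h3
  have h6 : k * u1 * k⁻¹ ∈ RGD.Sup X (RGD.Pos cs h) := by
    have := mul_mem h3 (inv_mem (VJ_le_U J h5))
    rwa [mul_inv_cancel_right] at this
  have h7 : k * u1 * k⁻¹ ∈ UN cs h X := by
    refine conj_mem_Sup R hk (S := PosJ cs h J) (S' := Neg cs h) (fun x hx => hx.1) (fun x hx => ⟨hx.1.act _, ?_⟩) hu1
    have F : OppRes.Cox cs := inferInstance
    have hw : (wJ cs J)⁻¹ = wJ cs J := F.wJ_inv J
    rw [hw]
    exact rep_longest_nonpos hL hx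
  have h8 := eq_one_of_mem_UN_of_mem_B R h7 (RGD.U_le_B h6)
  have h9 : u1 = 1 := by
    have e2 : u1 = k⁻¹ * (k * u1 * k⁻¹) * k := by group
    rw [e2, h8]; group
  rw [e, h9, one_mul]
  exact hv

section Dt

variable [Finite (WP (R.bnPair hgen))] [Fintype (Y ⧸ (R.bnPair hgen).B)]

/-- **The panel type `i` is trivial for `a`.** -/
theorem dt_of_module {a : Y} (hp : ¬ p ∣ orderOf a) {K : Finset I} {g : Y}
    (hK : MinRes (bldg (R.bnPair hgen) (eS R hgen) cs' hcs) a K (QuotientGroup.mk g)) {i : I}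
    (hmod : ∀ u ∈ VJ cs h X (K : Set I), (g⁻¹ * a * g) * u = u * (g⁻¹ * a * g) → u ∈ RGD.Sup X (RGD.PosNe cs h i)) :
    DT (FixBN.OfBN.sys (eS R hgen) cs' hcs S) a i := by
  have F : OppRes.Cox cs' := inferInstance
  have hth := Tits.OfBN.thick (R.bnPair hgen) (eS R hgen) cs' hcs
  have ht : ∀ x y : Y ⧸ (R.bnPair hgen).B, ∃ g : Y, g • x = y := fun x y => MulAction.exists_smul_eq Y x y
  refine ⟨QuotientGroup.mk g, _, hK.isSyl _ hth ht hp, fun u hu => hu.1 _ (Bldg.self_mem_Res _ _ _), ?_⟩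
  rintro u ⟨hu, hua⟩ y hy
  have hcomm := Subgroup.mem_centralizer_singleton_iff.1 hua
  have hv := UR_le R hgen cs' hcs S hu
  have hN' := hmod _ hv (by
    calc g⁻¹ * a * g * (g⁻¹ * u * g) = g⁻¹ * (a * u) * g := by group
      _ = g⁻¹ * (u * a) * g := by rw [hcomm]
      _ = _ := by group)
  have hfix : u • (QuotientGroup.mk (g * n i) : Y ⧸ (R.bnPair hgen).B) = QuotientGroup.mk (g * n i) := by
    rw [FixBN.OfBN.smul_mk_eq]
    have h1 := NodeRGD.conj_V_mem R i hN'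
    have e : (g * n i)⁻¹ * u * (g * n i) = (n i)⁻¹ * (g⁻¹ * u * g) * n i := by group
    rw [e]
    exact RGD.U_le_B (RGD.Sup_mono (S := RGD.PosNe cs h i) (S' := RGD.Pos cs h) (fun z hz => ⟨hz.1, hz.2.1⟩) h1)
  exact (FixBN.OfBN.sys (eS R hgen) cs' hcs S).pan _ _ i (δ_n R hgen cs' hcs g i) u
    (hu _ (Bldg.self_mem_Res _ _ _)) hfix y hy

/-- minimality -/
theorem not_mem_of_min {a : Y} {K : Finset I} {g : Y}
    (hK : MinRes (bldg (R.bnPair hgen) (eS R hgen) cs' hcs) a K (QuotientGroup.mk g)) {L : Finset I}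
    (hL : L.card < K.card) (l : Y) : l * (g⁻¹ * a * g) * l⁻¹ ∉ PJ cs h T X (L : Set I) := by
  intro h1
  have h2 := hK.min (QuotientGroup.mk (g * l⁻¹)) L (by
    rw [res_iff R hgen cs' hcs]
    have e : (g * l⁻¹)⁻¹ * a * (g * l⁻¹) = l * (g⁻¹ * a * g) * l⁻¹ := by group
    rw [e]
    exact h1)
  omega

variable (hI : IntC cs h X)

include hI in
/-- **`K = {j}`.** -/
theorem dt_one {i j : I} (hij : i ≠ j) (hact : rep cs h (cs.simple j) (sr i) = sr i + sr j)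
    (hcard : Nat.card (X (sr j)) = Nat.card (X (sr i + sr j))) {a : Y} (hp : ¬ p ∣ orderOf a)
    {c : Y ⧸ (R.bnPair hgen).B}
    (hK : MinRes (bldg (R.bnPair hgen) (eS R hgen) cs' hcs) a {j} c) :
    DT (FixBN.OfBN.sys (eS R hgen) cs' hcs S) a i := by
  obtain ⟨g, rfl⟩ := QuotientGroup.mk_surjective c
  refine dt_of_module R hgen cs' hcs S hp hK fun u hu hau => ?_
  have hmem := (res_iff R hgen cs' hcs).1 hK.mem
  rw [Finset.coe_singleton] at hu hmem
  refine NN'_le_PosNe (mem_N_one hI R hij hact hcard hmem hu hau fun l _ h1 => ?_)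
  refine not_mem_of_min R hgen cs' hcs hK (L := ∅) (by simp) l ?_
  exact B_le_PJ h1

include hI in
/-- **`K = {j, k}`.** -/
theorem dt_two {i j k : I} (hij : i ≠ j) (hik : i ≠ k) (hjk : j ≠ k)
    (a1 : rep cs h (cs.simple j) (sr i) = sr i + sr j) (a2 : rep cs h (cs.simple k) (sr i) = sr i)
    (a3 : rep cs h (cs.simple k) (sr j) = sr j + sr k) (a4 : rep cs h (cs.simple j) (sr k) = sr k + sr j)
    (hcard : Nat.card (X (sr j)) = Nat.card (X (sr i + sr j)))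
    (hcard' : Nat.card (X (sr k)) = Nat.card (X (sr i + sr j + sr k))) {a : Y} (hp : ¬ p ∣ orderOf a)
    {c : Y ⧸ (R.bnPair hgen).B}
    (hK : MinRes (bldg (R.bnPair hgen) (eS R hgen) cs' hcs) a {j, k} c) :
    DT (FixBN.OfBN.sys (eS R hgen) cs' hcs S) a i := by
  obtain ⟨g, rfl⟩ := QuotientGroup.mk_surjective c
  refine dt_of_module R hgen cs' hcs S hp hK fun u hu hau => ?_
  have hmem := (res_iff R hgen cs' hcs).1 hK.mem
  rw [Finset.coe_pair] at hu hmem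
  refine NN'_le_PosNe (mem_N_two hI R hij hik hjk a1 a2 a3 a4 hcard hcard' hmem hu hau fun l _ h1 => ?_)
  refine not_mem_of_min R hgen cs' hcs hK (L := {j}) (by rw [Finset.card_singleton, Finset.card_pair hjk]; omega) l ?_
  rw [Finset.coe_singleton]
  exact h1

end Dt

/-! ### The torus -/

include S hcs in
/-- A `p`-regular element fixing `mk g` is conjugate to an element of the torus. -/
theorem torus_conj [Finite (WP (R.bnPair hgen))] {b g : Y} (hb : b • (QuotientGroup.mk g : Y ⧸ (R.bnPair hgen).B) =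
    QuotientGroup.mk g) (hp : ¬ p ∣ orderOf b) : ∃ k ∈ RGD.B cs h T X, (g * k)⁻¹ * b * (g * k) ∈ T := by
  have F : OppRes.Cox cs' := inferInstance
  have hth := Tits.OfBN.thick (R.bnPair hgen) (eS R hgen) cs' hcs
  have ht : ∀ x y : Y ⧸ (R.bnPair hgen).B, ∃ g : Y, g • x = y := fun x y => MulAction.exists_smul_eq Y x y
  obtain ⟨d, hd, hbd⟩ := exists_fixed_at (FixBN.OfBN.sys (eS R hgen) cs' hcs S) hth ht hb hp (w0 cs')
  obtain ⟨e0, rfl⟩ := QuotientGroup.mk_surjective d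
  rw [bldg_δ_mk, w0, ← isoW_wJ cs cs' Set.univ, wt_eq_iff_cell R hgen cs' hcs] at hd
  obtain ⟨k, hk, m, hm, b₂, hb₂, e⟩ := hd
  refine ⟨k, hk, ?_⟩
  rw [← B_inf_BN R, Subgroup.mem_inf]
  refine ⟨?_, ?_⟩
  · rw [FixBN.OfBN.smul_mk_eq] at hb
    have e2 : (g * k)⁻¹ * b * (g * k) = k⁻¹ * (g⁻¹ * b * g) * k := by group
    rw [e2]
    exact mul_mem (mul_mem (inv_mem hk) hb) hk
  · have h1 : m⁻¹ * ((g * k)⁻¹ * b * (g * k)) * m ∈ RGD.B cs h T X := by
      have e3 : e0 = g * k * m * b₂ := by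
        have : g * (g⁻¹ * e0) = g * (k * m * b₂) := by rw [e]
        rw [mul_inv_cancel_left] at this
        rw [this]; group
      rw [FixBN.OfBN.smul_mk_eq] at hbd
      have e4 : m⁻¹ * ((g * k)⁻¹ * b * (g * k)) * m = b₂ * (e0⁻¹ * b * e0) * b₂⁻¹ := by rw [e3]; group
      rw [e4]
      exact mul_mem (mul_mem hb₂ hbd) (inv_mem hb₂)
    have hm' : Rp cs R.nsys (w0 cs) m⁻¹ := by
      have := hm.inv
      have F : OppRes.Cox cs := inferInstance
      rwa [show (wJ cs Set.univ)⁻¹ = w0 cs from F.w0_inv] at this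
    have h2 : (g * k)⁻¹ * b * (g * k) ∈ BN cs h T X := by
      have h3 : m⁻¹ * ((g * k)⁻¹ * b * (g * k)) * m⁻¹⁻¹ ∈ cj m⁻¹ (BN cs h T X) := by
        rw [cj_BN R hm', inv_inv]
        exact h1
      rw [conj_mem_cj] at h3
      exact h3
    exact h2

section Root

variable {t b g : Y} (ht : t ∈ T) (e : g⁻¹ * b * g = t) {i : I}

include ht e

theorem exists_root_of_nt (hnt : NT (bldg (R.bnPair hgen) (eS R hgen) cs' hcs) b (QuotientGroup.mk g) i) :
    ∃ y ∈ X (sr i), t * y * t⁻¹ ≠ y := by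
  by_contra hcon
  push Not at hcon
  obtain ⟨y', hy', hne⟩ := hnt
  have eb : b * g = g * t := by rw [← e]; group
  have hfix : b • (QuotientGroup.mk g : Y ⧸ (R.bnPair hgen).B) = QuotientGroup.mk g := by
    rw [FixBN.OfBN.smul_mk_eq, e]
    exact RGD.T_le_B ht
  rcases hy' with rfl | hy'
  · exact hne hfix
  have hiso : ∀ (g : Y) (a b : Y ⧸ (R.bnPair hgen).B), (bldg (R.bnPair hgen) (eS R hgen) cs' hcs).δ (g • a) (g • b) =
      (bldg (R.bnPair hgen) (eS R hgen) cs' hcs).δ a b :=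
    fun g a b => dist_smul (R.bnPair hgen) g a b
  have h1 : (bldg (R.bnPair hgen) (eS R hgen) cs' hcs).δ (QuotientGroup.mk 1) (g⁻¹ • y') = cs'.simple i := by
    rw [← hiso g, smul_inv_smul, FixBN.OfBN.smul_mk, mul_one]
    exact hy'
  obtain ⟨x, hx, e1⟩ := pan_eq R hgen cs' hcs i h1
  have e2 : y' = QuotientGroup.mk (g * (x * n i)) := by
    rw [← FixBN.OfBN.smul_mk, ← e1, smul_inv_smul]
  apply hne
  rw [e2, FixBN.OfBN.smul_mk_eq]
  have h2 := hcon x hx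
  have e3 : (g * (x * n i))⁻¹ * b * (g * (x * n i)) = (n i)⁻¹ * (x⁻¹ * (g⁻¹ * b * g) * x) * n i := by group
  have e4 : x⁻¹ * t * x = t := by
    have h3 : t * x = x * t := by
      have := congrArg (· * t) h2
      simpa using this
    rw [mul_assoc, h3, inv_mul_cancel_left]
  rw [e3, e, e4]
  exact RGD.T_le_B (T_conj_n R i ht)

theorem nt_of_root {y : Y} (hy : y ∈ X (sr i)) (hne : t * y * t⁻¹ ≠ y) :
    NT (bldg (R.bnPair hgen) (eS R hgen) cs' hcs) b (QuotientGroup.mk g) i := by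
  refine ⟨QuotientGroup.mk (g * (y * n i)), Or.inr ?_, fun h1 => hne ?_⟩
  · have hyB : y ∈ RGD.B cs h T X := RGD.X_le_B (isRoot_sr cs h i) (sr_nonneg i) hy
    have h2 : (QuotientGroup.mk g : Y ⧸ (R.bnPair hgen).B) = QuotientGroup.mk (g * y) := by
      rw [FixBN.OfBN.mk_eq, inv_mul_cancel_left]
      exact hyB
    rw [h2, ← mul_assoc]
    exact δ_n R hgen cs' hcs (g * y) i
  · rw [FixBN.OfBN.smul_mk_eq] at h1
    have e3 : (g * (y * n i))⁻¹ * b * (g * (y * n i)) = (n i)⁻¹ * (y⁻¹ * (g⁻¹ * b * g) * y) * n i := by group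
    rw [e3, e] at h1
    have h2 : (n i)⁻¹ * (y⁻¹ * (t * y * t⁻¹)) * n i ∈ RGD.B cs h T X := by
      have e4 : (n i)⁻¹ * (y⁻¹ * (t * y * t⁻¹)) * n i = ((n i)⁻¹ * (y⁻¹ * t * y) * n i) * ((n i)⁻¹ * t * n i)⁻¹ := by
        group
      rw [e4]
      exact mul_mem h1 (inv_mem (RGD.T_le_B (T_conj_n R i ht)))
    have h3 := eq_one_of_conj_mem R i (mul_mem (inv_mem hy) (X_conj_T R (isRoot_sr cs h i) ht hy)) h2
    rw [inv_mul_eq_one] at h3
    exact h3.symm

end Root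

variable (hI : IntC cs h X)

omit hN [Finite Y] [Fact p.Prime] in
include hI R in
/-- an element of the torus which does not centralise `X α_j` does not centralise `X z` or `X (z + α_j)`. -/
theorem exists_of_pair {J : Set I} {i j : I} {z : I → ℤ} (hi : i ∉ J) (P : Pair cs h X J i j z) {t : Y}
    (ht : t ∈ T) {x : Y} (hx : x ∈ X (sr j)) (hne : t * x * t⁻¹ ≠ x) {y : Y} (hy : y ∈ X z) (hy1 : y ≠ 1) :
    t * y * t⁻¹ ≠ y ∨ ∃ c ∈ X (z + sr j), t * c * t⁻¹ ≠ c := by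
  by_contra hcon
  push Not at hcon
  obtain ⟨h1, h2⟩ := hcon
  obtain ⟨c, hc, h3⟩ := P.exists_comm hI R hi hx hy
  have htP : t ∈ PJ cs h T X J := LJ_le_PJ (T_le_LJ ht)
  have h4 := Cg.conj hI R hi htP h3
  have e1 : t * (x * y * x⁻¹) * t⁻¹ = (t * x * t⁻¹) * (t * y * t⁻¹) * (t * x * t⁻¹)⁻¹ := by group
  have e2 : t * (y * c) * t⁻¹ = (t * y * t⁻¹) * (t * c * t⁻¹) := by group
  rw [e1, e2, h1, h2 c hc] at h4
  have h5 := h4.trans h3.symm
  have hxP : x ∈ PJ cs h T X J := LJ_le_PJ (X_le_LJ (PosJ_subset J (sr_mem_PosJ P.jJ)) hx)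
  have h6 := Cg.conj hI R hi (inv_mem hxP) h5
  have e3 : x⁻¹ * ((t * x * t⁻¹) * y * (t * x * t⁻¹)⁻¹) * x⁻¹⁻¹ =
      (x⁻¹ * (t * x * t⁻¹)) * y * (x⁻¹ * (t * x * t⁻¹))⁻¹ := by group
  have e4 : x⁻¹ * (x * y * x⁻¹) * x⁻¹⁻¹ = y := by group
  rw [e3, e4] at h6
  have h7 := P.inj hI R hi (mul_mem (inv_mem hx) (X_conj_T R (isRoot_sr cs h j) ht hx)) hy hy1 h6
  rw [inv_mul_eq_one] at h7
  exact hne h7.symm

include hI S in
/-- **Transfer of a nontrivial action from the node `j` to the node `i`.** -/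
theorem nt_pair [Finite (WP (R.bnPair hgen))] {i j : I} (hij : i ≠ j)
    (hact : rep cs h (cs.simple j) (sr i) = sr i + sr j) {b : Y} {c : Y ⧸ (R.bnPair hgen).B} (hb : b • c = c)
    (hp : ¬ p ∣ orderOf b) (hnt : NT (bldg (R.bnPair hgen) (eS R hgen) cs' hcs) b c j) :
    ∃ d, b • d = d ∧ NT (bldg (R.bnPair hgen) (eS R hgen) cs' hcs) b d i := by
  obtain ⟨g0, rfl⟩ := QuotientGroup.mk_surjective c
  obtain ⟨k, hk, ht⟩ := torus_conj R hgen cs' hcs S hb hp
  have e0 : (QuotientGroup.mk g0 : Y ⧸ (R.bnPair hgen).B) = QuotientGroup.mk (g0 * k) := by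
    rw [FixBN.OfBN.mk_eq, inv_mul_cancel_left]
    exact hk
  rw [e0] at hnt
  set g := g0 * k with hg
  set t := g⁻¹ * b * g with htdef
  have hfixT : ∀ {g' : Y}, g'⁻¹ * b * g' ∈ T → b • (QuotientGroup.mk g' : Y ⧸ (R.bnPair hgen).B) =
      QuotientGroup.mk g' := fun h1 => by
    rw [FixBN.OfBN.smul_mk_eq]
    exact RGD.T_le_B h1
  obtain ⟨x, hx, hne⟩ := exists_root_of_nt R hgen cs' hcs ht htdef.symm hnt
  have hi : i ∉ ({j} : Set I) := hij
  have hjJ : j ∈ ({j} : Set I) := rfl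
  have hz0 := sr_mem_Lam (cs := cs) (h := h) hi
  have hz1 : sr i + sr j ∈ Lam cs h {j} i := by
    rw [← hact]
    exact Lam.act hi (simple_mem_WJ cs hjJ) hz0
  have hne' : sr i + sr j ≠ sr i := by
    intro h1
    have := congrFun h1 j
    rw [Pi.add_apply, sr_self, sr_ne (Ne.symm hij)] at this
    omega
  have P : Pair cs h X {j} i j (sr i) := ⟨hjJ, hz0, sr_ne (Ne.symm hij), hact, fun y hy h1 =>
    disj_of hI R hi (one_mem _) hz1 (by rw [map_one]; exact hne') (by rw [map_one]; exact hy) h1⟩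
  obtain ⟨y, hy, hy1⟩ := exists_ne_one R i
  rcases exists_of_pair R hI hi P ht hx hne hy hy1 with h1 | ⟨c, hc, h1⟩
  · exact ⟨_, hfixT ht, nt_of_root R hgen cs' hcs ht htdef.symm hy h1⟩
  · -- the chamber `g n_j`
    have ht' : (n j)⁻¹ * t * n j ∈ T := T_conj_n R j ht
    have e1 : (g * n j)⁻¹ * b * (g * n j) = (n j)⁻¹ * t * n j := by rw [htdef]; group
    have hc' : (n j)⁻¹ * c * n j ∈ X (sr i) := by
      rw [← hact] at hc
      have := R.conj_mem' (rp_simple cs R.nsys j) ((isRoot_sr cs h i).act _) hc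
      rwa [rep_inv_apply] at this
    refine ⟨_, hfixT (g' := g * n j) (by rw [e1]; exact ht'), nt_of_root R hgen cs' hcs ht' e1 hc' fun h2 => h1 ?_⟩
    have e2 : (n j)⁻¹ * t * n j * ((n j)⁻¹ * c * n j) * ((n j)⁻¹ * t * n j)⁻¹ = (n j)⁻¹ * (t * c * t⁻¹) * n j := by
      group
    rw [e2] at h2
    have e3 : t * c * t⁻¹ = n j * ((n j)⁻¹ * (t * c * t⁻¹) * n j) * (n j)⁻¹ := by group
    rw [e3, h2]
    group

end Cfsg.Agent.H330.ClassLevi
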