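import Cfsg.Agent.H330.ClassModule
import Cfsg.Agent.Tits.OppRes

/-!
# The level one part of `V_J`: elements commuting with an element of `P_J` (helper330)

* `dec` : the product decomposition of `V_J` modulo `N`;
* `stab_max` : the stabiliser in `W_J` of a highest vector of level one;
* `cell_of_comm` : if `u ∈ X z' N`, `u ∉ N` commutes with `a ∈ P_J`, then `a ∈ B n_w B` with `w z' = z'`;
* `mem_N_one` : `J = {j}`, two roots of level one;
* `mem_N_two` : `J = {j, k}`, three roots of level one.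
-/

set_option autoImplicit false
set_option linter.unusedSectionVars false

namespace Cfsg.Agent.H330.ClassModule

open CoxeterSystem Cfsg.Agent.ChevalleyStructure.CoxeterGeom Cfsg.Agent.Tits.Roots Cfsg.Agent.Tits.Core
  Cfsg.Agent.Tits.Exchange Cfsg.Agent.Nodes.Comb Cfsg.Agent.Nodes.Reps Cfsg.Agent.Nodes.BNOf Cfsg.Agent.Nodes.StabComb
  Cfsg.Agent.Nodes.Bruhat Cfsg.Agent.Nodes.OppDec Cfsg.Agent.Nodes.LeviDec Cfsg.Agent.Tits.RootComb
  Cfsg.Agent.Tits
open scoped commutatorElement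

variable {I W Y : Type*} [Fintype I] [DecidableEq I] [Group W] [Group Y] {M : CoxeterMatrix I}
  {cs : CoxeterSystem M W} {A : I → I → ℤ} {h : IsCartan M A} {p : ℕ} {T : Subgroup Y} {n : I → Y}
  {X : (I → ℤ) → Subgroup Y}

section Stab

/-- **The stabiliser of a highest vector of level one.** -/
theorem stab_max [Finite W] {J J' : Set I} {i : I} (hi : i ∉ J) {z : I → ℤ} (hz : z ∈ Lam cs h J i)
    (hmax : ∀ y ∈ Lam cs h J i, y ≤ z) (hJ' : ∀ j ∈ J, rep cs h (cs.simple j) z = z → j ∈ J') :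
    ∀ (m : ℕ) {w : W}, cs.length w ≤ m → w ∈ WJ cs J → rep cs h w z = z → w ∈ WJ cs J' := by
  have F : OppRes.Cox cs := inferInstance
  intro m
  induction m with
  | zero =>
    intro w hm _ _
    rw [cs.length_eq_zero_iff.1 (Nat.le_zero.1 hm)]
    exact one_mem _
  | succ m ih =>
    intro w hm hw hwz
    by_cases h1 : w = 1
    · rw [h1]; exact one_mem _
    obtain ⟨j, hj, hlt⟩ := F.exists_descent hw h1
    have hjw := simple_mem_WJ cs hj
    have hneg : rep cs h w (sr j) ≤ 0 := nonpos_of_lt cs h w j hlt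
    have h2 : rep cs h (cs.simple j) z = z - pairing A j z • sr j := rep_simple_eq cs h j z
    have h3 : rep cs h (cs.simple j) z ≤ z := hmax _ (Lam.act hi hjw hz)
    have hc : 0 ≤ pairing A j z := by
      have h4 := h3 j
      rw [h2, Pi.sub_apply, Pi.smul_apply, sr_self, smul_eq_mul, mul_one] at h4
      linarith
    have h4 : rep cs h w (rep cs h (cs.simple j) z) ≤ z := hmax _ (Lam.act hi hw (Lam.act hi hjw hz))
    rw [h2, map_sub, map_smul, hwz] at h4
    have h5 : pairing A j z = 0 := by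
      by_contra hne
      have h6 : 0 < pairing A j z := lt_of_le_of_ne hc (Ne.symm hne)
      have h7 : rep cs h w (sr j) = 0 := by
        apply le_antisymm hneg
        intro k
        have h8 := h4 k
        rw [Pi.sub_apply, Pi.smul_apply, smul_eq_mul] at h8
        rw [Pi.zero_apply]
        have h9 : 0 ≤ pairing A j z * (rep cs h w (sr j)) k := by linarith
        exact nonneg_of_mul_nonneg_right h9 h6
      exact ((isRoot_sr cs h j).act w).ne_zero h7
    rw [h5, zero_smul, sub_zero] at h2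
    have h6 := ih (w := w * cs.simple j) (by omega) (mul_mem hw hjw) (by rw [rep_mul_apply, h2, hwz])
    have h7 : w = w * cs.simple j * cs.simple j := by rw [mul_assoc, simple_mul_simple_self, mul_one]
    rw [h7]
    exact mul_mem h6 (simple_mem_WJ cs (hJ' j hj h2))

end Stab

section Int

variable (hI : IntC cs h X)

include hI in
/-- `V_J / N` is abelian. -/
theorem VJ_le_normalizer {J : Set I} {i : I} (hi : i ∉ J) {S : Set (I → ℤ)} (h1 : NS cs h J i ⊆ S)
    (h2 : S ⊆ NotJ cs h J) : VJ cs h X J ≤ Subgroup.normalizer (RGD.Sup X S : Set Y) := by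
  refine RGD.Sup_le fun x hx => int_normalizer hI hx.1 fun y hy => ⟨(h2 hy).1, ?_⟩
  by_cases hxy : x = y
  · exact Or.inl hxy
  refine Or.inr ⟨?_, fun c d hc hd hz => h1 ?_⟩
  · intro he
    have h3 := hx.2.1
    rw [he] at h3
    exact (h2 hy).1.neg.not_pos_neg h3 (neg_nonpos.2 (h2 hy).2.1)
  · rcases mem_Lam_or_NS (i := i) (h2 hy) with h4 | h4
    · rcases mem_Lam_or_NS (i := i) hx with h5 | h5
      · exact Lam_add hi h5 h4 hc hd hz
      · rw [add_comm] at hz ⊢
        exact NS_add_V hi (h2 hy) h5 hd hc hz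
    · exact NS_add_V hi hx h4 hc hd hz

include hI in
/-- **Decomposition.** -/
theorem dec {J : Set I} {i : I} (hi : i ∉ J) {z : I → ℤ} (hz : z ∈ NotJ cs h J) {S S' : Set (I → ℤ)}
    (h1 : NS cs h J i ⊆ S') (h2 : S' ⊆ NotJ cs h J) (hS : S ⊆ insert z S') {u : Y} (hu : u ∈ RGD.Sup X S) :
    ∃ y ∈ X z, ∃ v ∈ RGD.Sup X S', u = y * v := by
  have h3 : u ∈ ((X z ⊔ RGD.Sup X S' : Subgroup Y) : Set Y) := by
    refine RGD.Sup_le (fun x hx => ?_) hu
    rcases hS hx with rfl | h4
    · exact le_sup_left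
    · exact (RGD.le_Sup h4).trans le_sup_right
  rw [Subgroup.coe_mul_of_left_le_normalizer_right _ _
    ((RGD.le_Sup (X := X) hz).trans (VJ_le_normalizer hI hi h1 h2)), Set.mem_mul] at h3
  obtain ⟨y, hy, v, hv, e⟩ := h3
  exact ⟨y, hy, v, hv, e.symm⟩

variable (R : RGD cs h p T n X)

/-- `u ∈ X z N` -/
def At (cs : CoxeterSystem M W) (h : IsCartan M A) (X : (I → ℤ) → Subgroup Y) (J : Set I) (i : I) (z : I → ℤ)
    (u : Y) : Prop := ∃ y ∈ X z, Cg cs h X J i y u

include R hI in
theorem At.rp {J : Set I} {i : I} (hi : i ∉ J) {z : I → ℤ} (hz : z ∈ Lam cs h J i) {u : Y}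
    (hu : At cs h X J i z u) {w : W} (hw : w ∈ WJ cs J) {g : Y} (hg : Rp cs R.nsys w g) :
    At cs h X J i (rep cs h w z) (g * u * g⁻¹) := by
  obtain ⟨y, hy, h1⟩ := hu
  exact ⟨_, R.conj_mem hg hz.1.1 hy, Cg.conj hI R hi (LJ_le_PJ (rp_mem_LJ R hw hg)) h1⟩

include R hI in
/-- `B` normalises `X z' N` for the highest `z'`. -/
theorem At.mem_B {J : Set I} {i : I} (hi : i ∉ J) {z : I → ℤ} (hz : z ∈ Lam cs h J i)
    (hmax : ∀ y ∈ Lam cs h J i, y ≤ z) {u : Y} (hu : At cs h X J i z u) {b : Y} (hb : b ∈ RGD.B cs h T X) :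
    At cs h X J i z (b * u * b⁻¹) := by
  have hS : RGD.B cs h T X ≤ Subgroup.normalizer (RGD.Sup X (insert z (NS cs h J i)) : Set Y) := by
    refine sup_le (R.T_le_normalizer fun x hx => ?_) (RGD.Sup_le fun x hx => ?_)
    · rcases hx with rfl | hx
      · exact hz.1.1
      · exact hx.1.1
    · refine int_normalizer hI hx.1 fun y hy => ?_
      have hyN : y ∈ NotJ cs h J := by
        rcases hy with rfl | hy
        · exact hz.1
        · exact hy.1
      refine ⟨hyN.1, ?_⟩
      by_cases hxy : x = y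
      · exact Or.inl hxy
      refine Or.inr ⟨?_, fun c d hc hd hcd => Or.inr ?_⟩
      · intro he
        have h3 := hx.2
        rw [he] at h3
        exact hyN.1.neg.not_pos_neg h3 (neg_nonpos.2 hyN.2.1)
      · rcases mem_PosJ_or_NotJ J hx.1 hx.2 with h4 | h4
        · rcases hy with rfl | hy
          · -- `x ∈ PosJ`, `y = z`
            have e : (c • x + d • y) i = d := by
              rw [Pi.add_apply, Pi.smul_apply, Pi.smul_apply, h4.2.2 i hi, hz.2.1, smul_zero, zero_add,
                smul_eq_mul, mul_one]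
            have hpos : 0 < (c • x + d • y) i := by rw [e]; exact hd
            refine ⟨⟨hcd, nonneg_of_pos_apply hcd hpos, i, hi, hpos⟩, Or.inl ?_⟩
            rw [e]
            by_contra h5
            have h6 : d = 1 := by omega
            subst h6
            have h7 : c • x + (1 : ℤ) • y ∈ Lam cs h J i := by
              refine ⟨⟨hcd, nonneg_of_pos_apply hcd hpos, i, hi, hpos⟩, e, fun k hk hki => ?_⟩
              rw [Pi.add_apply, Pi.smul_apply, Pi.smul_apply, h4.2.2 k hk, hz.2.2 k hk hki, smul_zero, smul_zero,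
                add_zero]
            have h8 := hmax _ h7
            rw [one_smul] at h8
            apply h4.1.ne_zero
            apply le_antisymm _ h4.2.1
            intro k
            have h9 := h8 k
            rw [Pi.add_apply, Pi.smul_apply, smul_eq_mul] at h9
            rw [Pi.zero_apply]
            have h10 : c * x k ≤ 0 := by linarith
            exact nonpos_of_mul_nonpos_right h10 hc
          · exact NS_add_J hi (PosJ_subset J h4) hy hc hd hcd
        · rcases mem_Lam_or_NS (i := i) hyN with h5 | h5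
          · rcases mem_Lam_or_NS (i := i) h4 with h6 | h6
            · exact Lam_add hi h6 h5 hc hd hcd
            · rw [add_comm] at hcd ⊢
              exact NS_add_V hi hyN h6 hd hc hcd
          · exact NS_add_V hi h4 h5 hc hd hcd
  obtain ⟨y, hy, h1⟩ := hu
  have h2 : u ∈ RGD.Sup X (insert z (NS cs h J i)) := by
    have e : u = y * (y⁻¹ * u) := by group
    rw [e]
    exact mul_mem (RGD.le_Sup (Set.mem_insert _ _) hy) (RGD.Sup_mono (Set.subset_insert _ _) h1)
  have h3 := (Subgroup.mem_normalizer_iff.1 (hS hb) u).1 h2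
  obtain ⟨y', hy', v, hv, e⟩ := dec hI hi hz.1 (S' := NS cs h J i) (le_refl _) (fun _ hx => hx.1) (le_refl _) h3
  refine ⟨y', hy', ?_⟩
  rw [e]
  unfold Cg
  rw [inv_mul_cancel_left]
  exact hv

include R hI in
/-- `X z N ∩ X z' N = N` -/
theorem At.mem_N [Finite W] {J : Set I} {i : I} (hi : i ∉ J) {w : W} (hw : w ∈ WJ cs J) {z' : I → ℤ}
    (hz' : z' ∈ Lam cs h J i) (hne : z' ≠ rep cs h w (sr i)) {u : Y} (h1 : At cs h X J i (rep cs h w (sr i)) u)
    (h2 : At cs h X J i z' u) : u ∈ NN' cs h X J i := by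
  obtain ⟨y, hy, h3⟩ := h1
  obtain ⟨y', hy', h4⟩ := h2
  have h5 : y = 1 := by
    refine disj_of hI R hi hw hz' hne hy ?_
    have h6 : Cg cs h X J i y' y := h4.trans h3.symm
    have e : y = y' * (y'⁻¹ * y) := by group
    rw [e]
    exact mul_mem (Subgroup.mem_sup_left hy') (Subgroup.mem_sup_right h6)
  rw [h5] at h3
  unfold Cg at h3
  rwa [inv_one, one_mul] at h3

theorem sr_mem_Lam {J : Set I} {i : I} (hi : i ∉ J) : sr i ∈ Lam cs h J i :=
  ⟨sr_mem_NotJ hi, sr_self i, fun _ _ hki => sr_ne hki⟩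

include R hI in
/-- **An element of `P_J` commuting with an element of `X z' N` outside `N`.** -/
theorem cell_of_comm [Finite W] {J : Set I} {i : I} (hi : i ∉ J) {w0 : W} (hw0 : w0 ∈ WJ cs J)
    (hmax : ∀ y ∈ Lam cs h J i, y ≤ rep cs h w0 (sr i)) {u : Y} (hu : At cs h X J i (rep cs h w0 (sr i)) u)
    (huN : u ∉ NN' cs h X J i) {a : Y} (ha : a ∈ PJ cs h T X J) (hau : a * u = u * a) :
    ∃ w ∈ WJ cs J, Cell R.nsys cs h X w a ∧ rep cs h w (rep cs h w0 (sr i)) = rep cs h w0 (sr i) := by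
  obtain ⟨w, hw, hc⟩ := (mem_PJ_iff_cell R).1 ha
  refine ⟨w, hw, hc, ?_⟩
  by_contra hne
  have hz0 := Lam.act hi hw0 (sr_mem_Lam (cs := cs) (h := h) hi)
  obtain ⟨b₁, hb₁, k, hk, b₂, hb₂, rfl⟩ := hc
  have h1 := At.mem_B hI R hi hz0 hmax hu hb₂
  have h2 := At.rp hI R hi hz0 h1 hw hk
  have h3 := At.mem_B hI R hi hz0 hmax hu (inv_mem hb₁)
  have e : k * (b₂ * u * b₂⁻¹) * k⁻¹ = b₁⁻¹ * u * b₁⁻¹⁻¹ := by
    have h4 : b₁ * k * b₂ * u * (b₁ * k * b₂)⁻¹ = u := by rw [hau]; group
    calc _ = b₁⁻¹ * (b₁ * k * b₂ * u * (b₁ * k * b₂)⁻¹) * b₁⁻¹⁻¹ := by group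
      _ = _ := by rw [h4]
  rw [e, ← rep_mul_apply] at h2
  have h4 := At.mem_N hI R hi (mul_mem hw hw0) hz0 (by
    rw [rep_mul_apply]
    exact Ne.symm hne) h2 h3
  apply huN
  have h5 := conj_N hI R hi (B_le_PJ hb₁) h4
  have e2 : b₁ * (b₁⁻¹ * u * b₁⁻¹⁻¹) * b₁⁻¹ = u := by group
  rwa [e2] at h5

/-- an element commuting with `u` after conjugation -/
theorem comm_conj {a u g : Y} (h1 : a * u = u * a) :
    (g * a * g⁻¹) * (g * u * g⁻¹) = (g * u * g⁻¹) * (g * a * g⁻¹) := by
  calc _ = g * (a * u) * g⁻¹ := by group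
    _ = g * (u * a) * g⁻¹ := by rw [h1]
    _ = _ := by group

end Int

end Cfsg.Agent.H330.ClassModule
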