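import Cfsg.Agent.H330.ClassModB

/-!
# The level one part of `V_J`: `J` of type `A₁` and `A₂` (helper330)

* `mem_N_one` : `J = {j}`, two roots of level one;
* `mem_N_two` : `J = {j, k}`, three roots of level one.
-/

set_option autoImplicit false
set_option linter.unusedSectionVars false

namespace Cfsg.Agent.H330.ClassModule

open CoxeterSystem Cfsg.Agent.ChevalleyStructure.CoxeterGeom Cfsg.Agent.Tits.Roots Cfsg.Agent.Tits.Core
  Cfsg.Agent.Tits.Exchange Cfsg.Agent.Nodes.Comb Cfsg.Agent.Nodes.Reps Cfsg.Agent.Nodes.BNOf Cfsg.Agent.Nodes.StabComb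
  Cfsg.Agent.Nodes.Bruhat Cfsg.Agent.Nodes.OppDec Cfsg.Agent.Nodes.LeviDec Cfsg.Agent.Tits.RootComb
  Cfsg.Agent.Tits
open scoped commutatorElement

variable {I W Y : Type*} [Fintype I] [DecidableEq I] [Group W] [Group Y] {M : CoxeterMatrix I}
  {cs : CoxeterSystem M W} {A : I → I → ℤ} {h : IsCartan M A} {p : ℕ} {T : Subgroup Y} {n : I → Y}
  {X : (I → ℤ) → Subgroup Y}

theorem WJ_empty {w : W} (hw : w ∈ WJ cs (∅ : Set I)) : w = 1 := by
  unfold WJ at hw
  rwa [Set.image_empty, Subgroup.closure_empty, Subgroup.mem_bot] at hw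

variable (hI : IntC cs h X) (R : RGD cs h p T n X)

section One

variable {i j : I} (hij : i ≠ j) (hact : rep cs h (cs.simple j) (sr i) = sr i + sr j)

include hij hact

theorem rep_two : rep cs h (cs.simple j) (sr i + sr j) = sr i := by
  rw [map_add, rep_simple_sr, hact, add_neg_cancel_right]

theorem mem_Lam_one {z : I → ℤ} (hz : z ∈ Lam cs h {j} i) : z = sr i ∨ z = sr i + sr j := by
  have hi : i ∉ ({j} : Set I) := hij
  have e : z = sr i + z j • sr j := by
    funext k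
    rw [Pi.add_apply, Pi.smul_apply]
    by_cases hki : k = i
    · subst hki
      rw [sr_self, sr_ne hij, hz.2.1]; simp
    by_cases hkj : k = j
    · subst hkj
      rw [sr_self, sr_ne hki]; simp
    · rw [sr_ne hki, sr_ne hkj, hz.2.2 k hkj hki]; simp
  have h1 := Lam.act hi (simple_mem_WJ cs (Set.mem_singleton j)) hz
  have h2 := h1.1.2.1 j
  have h3 := hz.1.2.1 j
  rw [e, map_add, map_smul, hact, rep_simple_sr, Pi.add_apply, Pi.add_apply, Pi.smul_apply, Pi.neg_apply,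
    sr_self, sr_ne (Ne.symm hij), smul_eq_mul, mul_neg_one, zero_add] at h2
  have h4 : z j = 0 ∨ z j = 1 := by
    have h5 : (0 : ℤ) ≤ 1 + -z j := h2
    have h6 : (0 : ℤ) ≤ z j := h3
    omega
  rcases h4 with h4 | h4
  · left; rw [e, h4, zero_smul, add_zero]
  · right
    conv_lhs => rw [e, h4, one_smul]

include hI R in
/-- **`J = {j}`: the elements of `V_J` commuting with an element of `P_J` without conjugate in `B` are in `N`.** -/
theorem mem_N_one [Finite W] [Finite Y] (hcard : Nat.card (X (sr j)) = Nat.card (X (sr i + sr j))) {a u : Y}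
    (ha : a ∈ PJ cs h T X {j}) (hu : u ∈ VJ cs h X {j}) (hau : a * u = u * a)
    (ha' : ∀ l ∈ PJ cs h T X {j}, l * a * l⁻¹ ∉ RGD.B cs h T X) : u ∈ NN' cs h X {j} i := by
  have hi : i ∉ ({j} : Set I) := hij
  have hjJ : j ∈ ({j} : Set I) := rfl
  by_contra huN
  have hz0 := sr_mem_Lam (cs := cs) (h := h) hi
  have hz1 : sr i + sr j ∈ Lam cs h {j} i := by
    rw [← hact]
    exact Lam.act hi (simple_mem_WJ cs hjJ) hz0
  have hne : sr i + sr j ≠ sr i := by
    intro h1
    have := congrFun h1 j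
    rw [Pi.add_apply, sr_self, sr_ne (Ne.symm hij)] at this
    omega
  have hmax : ∀ y ∈ Lam cs h {j} i, y ≤ rep cs h (cs.simple j) (sr i) := by
    intro y hy
    rw [hact]
    rcases mem_Lam_one hij hact hy with rfl | rfl
    · exact le_add_of_nonneg_right (sr_nonneg j)
    · exact le_rfl
  -- decomposition
  have hS1 : NS cs h {j} i ⊆ insert (sr i + sr j) (NS cs h {j} i) := Set.subset_insert _ _
  have hS2 : insert (sr i + sr j) (NS cs h {j} i) ⊆ NotJ cs h {j} := by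
    rintro x (rfl | hx)
    · exact hz1.1
    · exact hx.1
  obtain ⟨y0, hy0, v, hv, e0⟩ := dec hI hi hz0.1 hS1 hS2 (S := NotJ cs h {j}) (fun x hx => by
    rcases mem_Lam_or_NS (i := i) hx with h1 | h1
    · rcases mem_Lam_one hij hact h1 with rfl | rfl
      · exact Set.mem_insert _ _
      · exact Set.mem_insert_of_mem _ (Set.mem_insert _ _)
    · exact Set.mem_insert_of_mem _ (Set.mem_insert_of_mem _ h1)) hu
  obtain ⟨y1, hy1, ν, hν, e1⟩ := dec hI hi hz1.1 (S' := NS cs h {j} i) (le_refl _) (fun _ hx => hx.1) (le_refl _) hv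
  have hcg : Cg cs h X {j} i (y0 * y1) u := by
    unfold Cg
    have e : (y0 * y1)⁻¹ * u = ν := by rw [e0, e1]; group
    rw [e]
    exact hν
  have key : ∃ g ∈ PJ cs h T X {j}, At cs h X {j} i (rep cs h (cs.simple j) (sr i)) (g * u * g⁻¹) := by
    by_cases hy : y0 = 1
    · refine ⟨1, one_mem _, ?_⟩
      rw [one_mul, inv_one, mul_one, hact]
      rw [hy, one_mul] at hcg
      exact ⟨y1, hy1, hcg⟩
    · have P : Pair cs h X {j} i j (sr i) := ⟨hjJ, hz0, sr_ne (Ne.symm hij), hact, fun y hy h1 =>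
        disj_of hI R hi (one_mem _) hz1 (by rw [map_one]; exact hne) (by rw [map_one]; exact hy) h1⟩
      obtain ⟨x, hx, h1⟩ := P.surj hI R hi hcard hy0 hy hy1
      have hxP : x ∈ PJ cs h T X {j} := LJ_le_PJ (X_le_LJ (PosJ_subset {j} (sr_mem_PosJ hjJ)) hx)
      have h2 : At cs h X {j} i (sr i) (x⁻¹ * u * x⁻¹⁻¹) := by
        refine ⟨y0, hy0, ?_⟩
        have h3 := Cg.conj hI R hi (inv_mem hxP) (h1.trans hcg)
        have e : x⁻¹ * (x * y0 * x⁻¹) * x⁻¹⁻¹ = y0 := by group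
        rwa [e] at h3
      have h4 := h2.rp hI R hi hz0 (simple_mem_WJ cs hjJ) (rp_simple cs R.nsys j)
      refine ⟨n j * x⁻¹, mul_mem (LJ_le_PJ (n_mem_LJ R hjJ)) (inv_mem hxP), ?_⟩
      have e : n j * x⁻¹ * u * (n j * x⁻¹)⁻¹ = n j * (x⁻¹ * u * x⁻¹⁻¹) * (n j)⁻¹ := by group
      rw [e]
      exact h4
  obtain ⟨g, hg, h1⟩ := key
  have huN' : g * u * g⁻¹ ∉ NN' cs h X {j} i := by
    intro h2
    apply huN
    have h3 := conj_N' hI R hi hg h2
    have e : g⁻¹ * (g * u * g⁻¹) * g = u := by group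
    rwa [e] at h3
  obtain ⟨w, hw, hc, hfix⟩ := cell_of_comm hI R hi (simple_mem_WJ cs hjJ) hmax h1 huN'
    (mul_mem (mul_mem hg ha) (inv_mem hg)) (comm_conj (g := g) hau)
  have hz1' : rep cs h (cs.simple j) (sr i) ∈ Lam cs h {j} i := by rw [hact]; exact hz1
  have h2 := stab_max (J' := ∅) hi hz1' hmax (by
    rintro j' hj' h3
    rw [Set.mem_singleton_iff] at hj'
    subst hj'
    rw [hact, rep_two hij hact] at h3
    exact absurd h3.symm hne) _ (le_refl _) hw hfix
  rw [WJ_empty h2] at hc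
  exact ha' g hg hc.mem_of_one

end One

section Two

variable {i j k : I} (hij : i ≠ j) (hik : i ≠ k) (hjk : j ≠ k)
  (a1 : rep cs h (cs.simple j) (sr i) = sr i + sr j) (a2 : rep cs h (cs.simple k) (sr i) = sr i)
  (a3 : rep cs h (cs.simple k) (sr j) = sr j + sr k) (a4 : rep cs h (cs.simple j) (sr k) = sr k + sr j)

include hij hik hjk a1 a2 a3 a4

theorem mem_Lam_two {z : I → ℤ} (hz : z ∈ Lam cs h {j, k} i) :
    z = sr i ∨ z = sr i + sr j ∨ z = sr i + sr j + sr k := by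
  have hi : i ∉ ({j, k} : Set I) := by rintro (h | h) <;> contradiction
  have e : z = sr i + z j • sr j + z k • sr k := by
    funext c
    rw [Pi.add_apply, Pi.add_apply, Pi.smul_apply, Pi.smul_apply]
    by_cases hci : c = i
    · subst hci
      rw [sr_self, sr_ne hij, sr_ne hik, hz.2.1]; simp
    by_cases hcj : c = j
    · subst hcj
      rw [sr_self, sr_ne hci, sr_ne hjk]; simp
    by_cases hck : c = k
    · subst hck
      rw [sr_self, sr_ne hci, sr_ne (Ne.symm hjk)]; simp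
    · rw [sr_ne hci, sr_ne hcj, sr_ne hck, hz.2.2 c (by rintro (h | h) <;> contradiction) hci]; simp
  have hwj : cs.simple j ∈ WJ cs ({j, k} : Set I) := simple_mem_WJ cs (Or.inl rfl)
  have hwk : cs.simple k ∈ WJ cs ({j, k} : Set I) := simple_mem_WJ cs (Or.inr rfl)
  set m := z j with hm
  set l := z k with hl
  have e1 : rep cs h (cs.simple k) z = sr i + m • (sr j + sr k) + l • (-sr k) := by
    rw [e, map_add, map_add, map_smul, map_smul, a2, a3, rep_simple_sr]
  have e2 : rep cs h (cs.simple j) z = (sr i + sr j) + m • (-sr j) + l • (sr k + sr j) := by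
    rw [e, map_add, map_add, map_smul, map_smul, a1, a4, rep_simple_sr]
  have e3 : rep cs h (cs.simple k) (rep cs h (cs.simple j) z) =
      (sr i + (sr j + sr k)) + m • (-(sr j + sr k)) + l • (-sr k + (sr j + sr k)) := by
    rw [e2, map_add, map_add, map_smul, map_smul, map_add, map_neg, map_add, a2, a3, rep_simple_sr]
  have h0 : (0 : ℤ) ≤ m := hz.1.2.1 j
  have h0' : (0 : ℤ) ≤ l := hz.1.2.1 k
  have h1 : (0 : ℤ) ≤ (rep cs h (cs.simple k) z) k := (Lam.act hi hwk hz).1.2.1 k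
  rw [e1] at h1
  have h3 : (0 : ℤ) ≤ (rep cs h (cs.simple k) (rep cs h (cs.simple j) z)) k :=
    (Lam.act hi hwk (Lam.act hi hwj hz)).1.2.1 k
  rw [e3] at h3
  simp only [Pi.add_apply, Pi.smul_apply, Pi.neg_apply, sr_self, sr_ne (Ne.symm hik), sr_ne (Ne.symm hjk),
    smul_eq_mul] at h1 h3
  have h5 : m = 0 ∧ l = 0 ∨ m = 1 ∧ l = 0 ∨ m = 1 ∧ l = 1 := by omega
  rcases h5 with ⟨h6, h7⟩ | ⟨h6, h7⟩ | ⟨h6, h7⟩
  · left; rw [e, h6, h7]; simp
  · right; left; rw [e, h6, h7]; simp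
  · right; right; rw [e, h6, h7]; simp

omit hij hik hjk a1 a2 a3 a4 in
include hI R in
/-- `X α_j` commutes with `X z` modulo `N` if `z j` is maximal. -/
theorem Cg_of_max {J : Set I} {i j : I} (hi : i ∉ J) (hj : j ∈ J) {z : I → ℤ} (hz : z ∈ Lam cs h J i)
    (hmax : ∀ y ∈ Lam cs h J i, y j ≤ z j) {x y : Y} (hx : x ∈ X (sr j)) (hy : y ∈ X z) :
    Cg cs h X J i (x * y * x⁻¹) y := by
  have hij : i ≠ j := fun h => hi (h ▸ hj)
  have h1 := hI (sr j) z (isRoot_sr cs h j) hz.1.1 (by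
    intro he
    have := congrFun he i
    rw [sr_ne hij, hz.2.1] at this
    omega) (by
    intro he
    have := congrFun he i
    rw [Pi.neg_apply, sr_ne hij, hz.2.1] at this
    omega) x hx y hy
  have h2 : ⁅x, y⁆ ∈ NN' cs h X J i := by
    refine RGD.Sup_le ?_ h1
    rintro w ⟨hw, c, d, hc, hd, rfl⟩
    refine RGD.le_Sup ?_
    have e : (c • sr j + d • z) i = d := by
      rw [Pi.add_apply, Pi.smul_apply, Pi.smul_apply, sr_ne hij, hz.2.1, smul_zero, zero_add, smul_eq_mul, mul_one]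
    have hpos : 0 < (c • sr j + d • z) i := by rw [e]; exact hd
    have hN : c • sr j + d • z ∈ NotJ cs h J := ⟨hw, nonneg_of_pos_apply hw hpos, i, hi, hpos⟩
    rcases mem_Lam_or_NS (i := i) hN with h3 | h3
    · exfalso
      have h4 := hmax _ h3
      have h5 := h3.2.1
      rw [e] at h5
      rw [h5, Pi.add_apply, Pi.smul_apply, Pi.smul_apply, sr_self, one_smul, smul_eq_mul, mul_one] at h4
      omega
    · exact h3
  unfold Cg
  have hyP := X_le_PJ (T := T) (X := X) hz.1 hy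
  have h3 : x * y * x⁻¹ = ⁅x, y⁆ * y := by rw [commutatorElement_def]; group
  rw [h3]
  have h4 := conj_N' hI R hi hyP (inv_mem h2)
  have e : (⁅x, y⁆ * y)⁻¹ * y = y⁻¹ * ⁅x, y⁆⁻¹ * y := by group
  rw [e]
  exact h4

include hI R in
/-- **`J = {j, k}` of type `A₂`: the elements of `V_J` commuting with an element of `P_J` without conjugate in `P_j` are
in `N`.** -/
theorem mem_N_two [Finite W] [Finite Y] (hcard : Nat.card (X (sr j)) = Nat.card (X (sr i + sr j)))
    (hcard' : Nat.card (X (sr k)) = Nat.card (X (sr i + sr j + sr k))) {a u : Y}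
    (ha : a ∈ PJ cs h T X {j, k}) (hu : u ∈ VJ cs h X {j, k}) (hau : a * u = u * a)
    (ha' : ∀ l ∈ PJ cs h T X {j, k}, l * a * l⁻¹ ∉ PJ cs h T X {j}) : u ∈ NN' cs h X {j, k} i := by
  have hi : i ∉ ({j, k} : Set I) := by rintro (h | h) <;> contradiction
  have hjJ : j ∈ ({j, k} : Set I) := Or.inl rfl
  have hkJ : k ∈ ({j, k} : Set I) := Or.inr rfl
  by_contra huN
  have hz0 := sr_mem_Lam (cs := cs) (h := h) hi
  have hz1 : sr i + sr j ∈ Lam cs h {j, k} i := by
    rw [← a1]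
    exact Lam.act hi (simple_mem_WJ cs hjJ) hz0
  have e12 : rep cs h (cs.simple k) (sr i + sr j) = sr i + sr j + sr k := by
    rw [map_add, a2, a3, add_assoc]
  have e21 : rep cs h (cs.simple k) (sr i + sr j + sr k) = sr i + sr j := by
    rw [map_add, e12, rep_simple_sr, add_neg_cancel_right]
  have e22 : rep cs h (cs.simple j) (sr i + sr j + sr k) = sr i + sr j + sr k := by
    rw [map_add, map_add, a1, a4, rep_simple_sr]; abel
  have hz2 : sr i + sr j + sr k ∈ Lam cs h {j, k} i := by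
    rw [← e12]
    exact Lam.act hi (simple_mem_WJ cs hkJ) hz1
  have hne01 : sr i + sr j ≠ sr i := by
    intro h1
    have := congrFun h1 j
    rw [Pi.add_apply, sr_self, sr_ne (Ne.symm hij)] at this
    omega
  have hne12 : sr i + sr j + sr k ≠ sr i + sr j := by
    intro h1
    have := congrFun h1 k
    rw [Pi.add_apply, Pi.add_apply, sr_self, sr_ne (Ne.symm hik), sr_ne (Ne.symm hjk)] at this
    omega
  have hcls := fun {y} hy => mem_Lam_two hij hik hjk a1 a2 a3 a4 (z := y) hy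
  have ew0 : rep cs h (cs.simple k * cs.simple j) (sr i) = sr i + sr j + sr k := by
    rw [rep_mul_apply, a1, e12]
  have hw0 : cs.simple k * cs.simple j ∈ WJ cs ({j, k} : Set I) :=
    mul_mem (simple_mem_WJ cs hkJ) (simple_mem_WJ cs hjJ)
  have hmax : ∀ y ∈ Lam cs h {j, k} i, y ≤ rep cs h (cs.simple k * cs.simple j) (sr i) := by
    intro y hy
    rw [ew0]
    rcases hcls hy with rfl | rfl | rfl
    · exact (le_add_of_nonneg_right (sr_nonneg j)).trans (le_add_of_nonneg_right (sr_nonneg k))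
    · exact le_add_of_nonneg_right (sr_nonneg k)
    · exact le_rfl
  -- decomposition
  have hNS : NS cs h {j, k} i ⊆ NotJ cs h {j, k} := fun _ hx => hx.1
  have hS2 : insert (sr i + sr j + sr k) (NS cs h {j, k} i) ⊆ NotJ cs h {j, k} :=
    Set.insert_subset hz2.1 hNS
  have hS1 : insert (sr i + sr j) (insert (sr i + sr j + sr k) (NS cs h {j, k} i)) ⊆ NotJ cs h {j, k} :=
    Set.insert_subset hz1.1 hS2
  obtain ⟨y0, hy0, v, hv, e0⟩ := dec hI hi hz0.1
    ((Set.subset_insert _ _).trans (Set.subset_insert _ _)) hS1 (S := NotJ cs h {j, k}) (fun x hx => by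
    rcases mem_Lam_or_NS (i := i) hx with h1 | h1
    · rcases hcls h1 with rfl | rfl | rfl
      · exact Set.mem_insert _ _
      · exact Set.mem_insert_of_mem _ (Set.mem_insert _ _)
      · exact Set.mem_insert_of_mem _ (Set.mem_insert_of_mem _ (Set.mem_insert _ _))
    · exact Set.mem_insert_of_mem _ (Set.mem_insert_of_mem _ (Set.mem_insert_of_mem _ h1))) hu
  obtain ⟨y1, hy1, v', hv', e1⟩ := dec hI hi hz1.1 (Set.subset_insert _ _) hS2 (le_refl _) hv
  obtain ⟨y2, hy2, ν, hν, e2⟩ := dec hI hi hz2.1 (S' := NS cs h {j, k} i) (le_refl _) hNS (le_refl _) hv'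
  have hcg : Cg cs h X {j, k} i (y0 * y1 * y2) u := by
    unfold Cg
    have e : (y0 * y1 * y2)⁻¹ * u = ν := by rw [e0, e1, e2]; group
    rw [e]
    exact hν
  have P1 : Pair cs h X {j, k} i j (sr i) := ⟨hjJ, hz0, sr_ne (Ne.symm hij), a1, fun y hy h1 =>
    disj_of hI R hi (one_mem _) hz1 (by rw [map_one]; exact hne01) (by rw [map_one]; exact hy) h1⟩
  have P2 : Pair cs h X {j, k} i k (sr i + sr j) := ⟨hkJ, hz1, by
    rw [Pi.add_apply, sr_ne (Ne.symm hik), sr_ne (Ne.symm hjk), add_zero], e12, fun y hy h1 =>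
    disj_of hI R hi (simple_mem_WJ cs hjJ) hz2 (by rw [a1]; exact hne12) (by rw [a1]; exact hy) h1⟩
  have hP : ∀ {z}, z ∈ Lam cs h {j, k} i → X z ≤ PJ cs h T X {j, k} := fun hz => X_le_PJ hz.1
  have key : ∃ g ∈ PJ cs h T X {j, k},
      At cs h X {j, k} i (rep cs h (cs.simple k * cs.simple j) (sr i)) (g * u * g⁻¹) := by
    by_cases hy : y0 = 1
    · rw [hy, one_mul] at hcg
      by_cases hy' : y1 = 1
      · rw [hy', one_mul] at hcg
        refine ⟨1, one_mem _, ?_⟩
        rw [one_mul, inv_one, mul_one, ew0]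
        exact ⟨y2, hy2, hcg⟩
      · obtain ⟨x, hx, h1⟩ := P2.surj hI R hi hcard' hy1 hy' hy2
        have hxP : x ∈ PJ cs h T X {j, k} := LJ_le_PJ (X_le_LJ (PosJ_subset _ (sr_mem_PosJ hkJ)) hx)
        have h2 : At cs h X {j, k} i (sr i + sr j) (x⁻¹ * u * x⁻¹⁻¹) := by
          refine ⟨y1, hy1, ?_⟩
          have h3 := Cg.conj hI R hi (inv_mem hxP) (h1.trans hcg)
          have e : x⁻¹ * (x * y1 * x⁻¹) * x⁻¹⁻¹ = y1 := by group
          rwa [e] at h3
        have h4 := h2.rp hI R hi hz1 (simple_mem_WJ cs hkJ) (rp_simple cs R.nsys k)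
        rw [e12] at h4
        refine ⟨n k * x⁻¹, mul_mem (LJ_le_PJ (n_mem_LJ R hkJ)) (inv_mem hxP), ?_⟩
        have e : n k * x⁻¹ * u * (n k * x⁻¹)⁻¹ = n k * (x⁻¹ * u * x⁻¹⁻¹) * (n k)⁻¹ := by group
        rw [e, ew0]
        exact h4
    · obtain ⟨x, hx, h1⟩ := P1.surj hI R hi hcard hy0 hy hy1
      have hxP : x ∈ PJ cs h T X {j, k} := LJ_le_PJ (X_le_LJ (PosJ_subset _ (sr_mem_PosJ hjJ)) hx)
      -- `x` commutes with `y2`
      have h2 : Cg cs h X {j, k} i (x * y2 * x⁻¹) y2 := by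
        refine Cg_of_max hI R hi hjJ hz2 (fun y hy => ?_) hx hy2
        have := hmax y hy
        rw [ew0] at this
        exact this j
      have h3 : Cg cs h X {j, k} i (x * (y0 * y2) * x⁻¹) u := by
        have e : x * (y0 * y2) * x⁻¹ = (x * y0 * x⁻¹) * (x * y2 * x⁻¹) := by group
        rw [e]
        refine (Cg.mul hI R hi ?_ h1 h2).trans hcg
        exact mul_mem (mul_mem hxP (hP hz2 hy2)) (inv_mem hxP)
      have h4 : Cg cs h X {j, k} i (y0 * y2) (x⁻¹ * u * x⁻¹⁻¹) := by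
        have h5 := Cg.conj hI R hi (inv_mem hxP) h3
        have e : x⁻¹ * (x * (y0 * y2) * x⁻¹) * x⁻¹⁻¹ = y0 * y2 := by group
        rwa [e] at h5
      -- apply `n k`
      have hnk : n k ∈ PJ cs h T X {j, k} := LJ_le_PJ (n_mem_LJ R hkJ)
      have hnj : n j ∈ PJ cs h T X {j, k} := LJ_le_PJ (n_mem_LJ R hjJ)
      have h5 := Cg.conj hI R hi hnk h4
      have hy0' : n k * y0 * (n k)⁻¹ ∈ X (sr i) := by
        have := R.conj_mem (rp_simple cs R.nsys k) hz0.1.1 hy0
        rwa [a2] at this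
      have hy2' : n k * y2 * (n k)⁻¹ ∈ X (sr i + sr j) := by
        have := R.conj_mem (rp_simple cs R.nsys k) hz2.1.1 hy2
        rwa [e21] at this
      have hne' : n k * y0 * (n k)⁻¹ ≠ 1 := by
        intro h6
        apply hy
        have e : y0 = (n k)⁻¹ * (n k * y0 * (n k)⁻¹) * n k := by group
        rw [e, h6]; group
      obtain ⟨x', hx', h6⟩ := P1.surj hI R hi hcard hy0' hne' hy2'
      have hxP' : x' ∈ PJ cs h T X {j, k} := LJ_le_PJ (X_le_LJ (PosJ_subset _ (sr_mem_PosJ hjJ)) hx')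
      have e3 : n k * (y0 * y2) * (n k)⁻¹ = n k * y0 * (n k)⁻¹ * (n k * y2 * (n k)⁻¹) := by group
      rw [e3] at h5
      have h7 : At cs h X {j, k} i (sr i) (x'⁻¹ * (n k * (x⁻¹ * u * x⁻¹⁻¹) * (n k)⁻¹) * x'⁻¹⁻¹) := by
        refine ⟨_, hy0', ?_⟩
        have h8 := Cg.conj hI R hi (inv_mem hxP') (h6.trans h5)
        have e : x'⁻¹ * (x' * (n k * y0 * (n k)⁻¹) * x'⁻¹) * x'⁻¹⁻¹ = n k * y0 * (n k)⁻¹ := by group
        rwa [e] at h8
      have h8 := h7.rp hI R hi hz0 hw0 ((rp_simple cs R.nsys k).mul (rp_simple cs R.nsys j))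
      refine ⟨n k * n j * x'⁻¹ * n k * x⁻¹, mul_mem (mul_mem (mul_mem (mul_mem hnk hnj) (inv_mem hxP')) hnk)
        (inv_mem hxP), ?_⟩
      have e : n k * n j * x'⁻¹ * n k * x⁻¹ * u * (n k * n j * x'⁻¹ * n k * x⁻¹)⁻¹ =
          n k * n j * (x'⁻¹ * (n k * (x⁻¹ * u * x⁻¹⁻¹) * (n k)⁻¹) * x'⁻¹⁻¹) * (n k * n j)⁻¹ := by group
      rw [e]
      exact h8
  obtain ⟨g, hg, h1⟩ := key
  have huN' : g * u * g⁻¹ ∉ NN' cs h X {j, k} i := by
    intro h2
    apply huN
    have h3 := conj_N' hI R hi hg h2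
    have e : g⁻¹ * (g * u * g⁻¹) * g = u := by group
    rwa [e] at h3
  obtain ⟨w, hw, hc, hfix⟩ := cell_of_comm hI R hi hw0 hmax h1 huN'
    (mul_mem (mul_mem hg ha) (inv_mem hg)) (comm_conj (g := g) hau)
  have hz2' : rep cs h (cs.simple k * cs.simple j) (sr i) ∈ Lam cs h {j, k} i := by rw [ew0]; exact hz2
  have h2 := stab_max (J' := {j}) hi hz2' hmax (by
    rintro j' hj' h3
    rcases hj' with rfl | hj'
    · rfl
    · rw [Set.mem_singleton_iff] at hj'
      subst hj'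
      rw [ew0, e21] at h3
      exact absurd h3.symm hne12) _ (le_refl _) hw hfix
  exact ha' g hg ((mem_PJ_iff_cell R).2 ⟨w, h2, hc⟩)

end Two

end Cfsg.Agent.H330.ClassModule
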