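import Cfsg.Agent.H330.ClassRes

/-!
# Moving a minimal stable residue along a path of the diagram (helper330)

* `par_path` : if `v 0 ∉ K`, `v 1, …, v k ∈ K`, `v` a path of simple bonds whose nodes commute with the other nodes of `K`,
  then `K` and `K ∪ {v 0} \ {v k}` are conjugate by the minimal representative `s (v 0) ⋯ s (v k)`.
-/

set_option autoImplicit false
set_option linter.unusedSectionVars false

namespace Cfsg.Agent.H330.ClassPath

open Cfsg.Agent.Tits.Core Cfsg.Agent.Tits.Exchange Cfsg.Agent.Tits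

variable {I : Type*} {M : CoxeterMatrix I} {W : Type*} [Group W] (cs : CoxeterSystem M W)

local prefix:100 "ℓ" => cs.length

/-- `s (v 0) ⋯ s (v (k - 1))` -/
def e (v : ℕ → I) : ℕ → W
  | 0 => 1
  | k + 1 => e v k * cs.simple (v k)

@[simp] theorem e_zero (v : ℕ → I) : e cs v 0 = 1 := rfl

theorem e_succ (v : ℕ → I) (k : ℕ) : e cs v (k + 1) = e cs v k * cs.simple (v k) := rfl

/-- a path of simple bonds -/
structure IsPath (M : CoxeterMatrix I) (v : ℕ → I) (k : ℕ) : Prop where
  three : ∀ t, t + 1 < k → M (v t) (v (t + 1)) = 3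
  two : ∀ s t, s + 1 < t → t < k → M (v s) (v t) = 2

variable {cs}

theorem comm_of_two {i j : I} (h : M i j = 2) : cs.simple i * cs.simple j = cs.simple j * cs.simple i := by
  have h1 := cs.simple_mul_simple_pow i j
  rw [h, pow_two] at h1
  have h2 : (cs.simple i * cs.simple j)⁻¹ = cs.simple i * cs.simple j := inv_eq_of_mul_eq_one_left h1
  rw [← h2, mul_inv_rev, cs.inv_simple, cs.inv_simple]

theorem braid_of_three {i j : I} (h : M i j = 3) :
    cs.simple i * cs.simple j * cs.simple i = cs.simple j * cs.simple i * cs.simple j := by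
  have h1 := cs.simple_mul_simple_pow i j
  rw [h, pow_succ, pow_two] at h1
  have hi := cs.simple_mul_simple_self i
  have hj := cs.simple_mul_simple_self j
  have h2 : cs.simple i * cs.simple j * cs.simple i * (cs.simple j * cs.simple i * cs.simple j) = 1 := by
    rw [← h1]; simp only [mul_assoc]
  have h3 : (cs.simple j * cs.simple i * cs.simple j) * (cs.simple j * cs.simple i * cs.simple j) = 1 := by
    calc _ = cs.simple j * (cs.simple i * (cs.simple j * cs.simple j) * cs.simple i) * cs.simple j := by
          simp only [mul_assoc]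
      _ = 1 := by rw [hj, mul_one, hi, mul_one, hj]
  exact mul_right_cancel (h2.trans h3.symm)

theorem not_comm_of_three [F : OppRes.Cox cs] {i j : I} (h : M i j = 3) :
    cs.simple i * cs.simple j ≠ cs.simple j * cs.simple i := by
  intro hc
  have h1 := braid_of_three (cs := cs) h
  rw [hc, mul_assoc, cs.simple_mul_simple_self, mul_assoc] at h1
  have h3 : cs.simple i * cs.simple j = 1 := (mul_left_cancel h1).symm
  have h4 : cs.simple i = cs.simple j := by
    rw [mul_eq_one_iff_eq_inv, cs.inv_simple] at h3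
    exact h3
  have h5 : i = j := F.inj h4
  rw [h5, M.diagonal] at h
  omega

variable {v : ℕ → I} {k : ℕ}

theorem comm_e {j : I} (h : ∀ t < k, cs.simple j * cs.simple (v t) = cs.simple (v t) * cs.simple j) :
    cs.simple j * e cs v k = e cs v k * cs.simple j := by
  induction k with
  | zero => simp
  | succ k ih =>
    rw [e_succ, ← mul_assoc, ih fun t ht => h t (by omega), mul_assoc, h k (by omega), mul_assoc]

theorem IsPath.mono (h : IsPath M v k) {l : ℕ} (hl : l ≤ k) : IsPath M v l :=
  ⟨fun t ht => h.three t (by omega), fun s t hs ht => h.two s t hs (by omega)⟩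

theorem shift (h : IsPath M v k) {t : ℕ} (ht : t + 1 < k) :
    e cs v k * cs.simple (v t) = cs.simple (v (t + 1)) * e cs v k := by
  induction k with
  | zero => omega
  | succ k ih =>
    rcases Nat.lt_or_ge (t + 1) k with h1 | h1
    · rw [e_succ, mul_assoc, ← comm_of_two (h.two t k h1 (by omega)), ← mul_assoc, ih (h.mono (by omega)) h1,
        mul_assoc]
    · obtain rfl : k = t + 1 := by omega
      have h2 : cs.simple (v (t + 1)) * e cs v t = e cs v t * cs.simple (v (t + 1)) := by
        refine comm_e fun s hs => ?_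
        exact (comm_of_two (h.two s (t + 1) (by omega) (by omega))).symm
      calc e cs v (t + 1 + 1) * cs.simple (v t)
          = e cs v t * (cs.simple (v t) * cs.simple (v (t + 1)) * cs.simple (v t)) := by
            rw [e_succ, e_succ]; simp only [mul_assoc]
        _ = e cs v t * (cs.simple (v (t + 1)) * cs.simple (v t) * cs.simple (v (t + 1))) := by
            rw [braid_of_three (h.three t (by omega))]
        _ = (e cs v t * cs.simple (v (t + 1))) * cs.simple (v t) * cs.simple (v (t + 1)) := by
            simp only [mul_assoc]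
        _ = _ := by rw [← h2, e_succ, e_succ]; simp only [mul_assoc]

theorem e_mem (v : ℕ → I) (k : ℕ) : e cs v k ∈ WJ cs {i | ∃ t < k, i = v t} := by
  induction k with
  | zero => exact one_mem _
  | succ k ih =>
    rw [e_succ]
    refine mul_mem (WJ_mono cs (fun i hi => ?_) ih) (simple_mem_WJ cs ⟨k, by omega, rfl⟩)
    obtain ⟨t, ht, rfl⟩ := hi
    exact ⟨t, by omega, rfl⟩

theorem IsPath.inj (h : IsPath M v k) {s t : ℕ} (hs : s < t) (ht : t < k) : v s ≠ v t := by
  intro he
  rcases Nat.lt_or_ge (s + 1) t with h1 | h1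
  · have := h.two s t h1 ht
    rw [he, M.diagonal] at this
    omega
  · obtain rfl : t = s + 1 := by omega
    have := h.three s ht
    rw [he, M.diagonal] at this
    omega

variable [F : OppRes.Cox cs]

theorem length_mul_of_not_mem {T : Set I} {w : W} (hw : w ∈ WJ cs T) {j : I} (hj : j ∉ T) :
    ℓ (w * cs.simple j) = ℓ w + 1 := by
  rcases cs.length_mul_simple w j with h | h
  · exact h
  · exfalso
    obtain ⟨ω, h1, hω, rfl⟩ := exists_reduced_of_mem_WJ cs hw
    obtain ⟨m, hm, h2⟩ := exchange_right cs (ω := ω) (i := j) (by omega)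
    apply hj
    apply FixBN.Cox.mem_of_simple_mem (cs := cs)
    have h3 : cs.simple j = (cs.wordProd ω)⁻¹ * (cs.wordProd (ω.eraseIdx m)) := by
      rw [← h2]; group
    rw [h3]
    exact mul_mem (inv_mem hw) (wordProd_mem_WJ cs fun i hi => h1 i (List.mem_of_mem_eraseIdx hi))

/-- the only left descent of `s (v 0) ⋯ s (v k)` is `v 0` -/
theorem length_simple_mul (h : IsPath M v (k + 1)) {i : I} (hi : i ≠ v 0) :
    ℓ (cs.simple i * e cs v (k + 1)) = ℓ (e cs v (k + 1)) + 1 := by
  induction k with
  | zero =>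
    rw [e_succ, e_zero, one_mul]
    have := length_mul_of_not_mem (cs := cs) (T := {i}) (simple_mem_WJ cs (Set.mem_singleton i)) (j := v 0)
      (fun h => hi h.symm)
    rw [this, cs.length_simple, cs.length_simple]
  | succ k ih =>
    have h0 := ih (h.mono (by omega))
    have hvk : v (k + 1) ∉ {i | ∃ t < k + 1, i = v t} := by
      rintro ⟨t, ht, e⟩
      exact h.inj (s := t) (t := k + 1) ht (by omega) e.symm
    have h1 := length_mul_of_not_mem (cs := cs) (e_mem v (k + 1)) hvk
    rw [e_succ (k := k + 1), h1]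
    rcases fold cs h0 h1 with h2 | h2
    · rw [mul_assoc] at h2
      exact h2
    · exfalso
      -- `i = v (k + 1)`
      have h3 : v (k + 1) = i := by
        by_contra hne
        have h4 : cs.simple (v (k + 1)) ∈ WJ cs ({j | ∃ t < k + 1, j = v t} ∪ {i}) := by
          have h5 : cs.simple (v (k + 1)) = (e cs v (k + 1))⁻¹ * (cs.simple i * e cs v (k + 1)) := by
            rw [h2]; group
          rw [h5]
          exact mul_mem (inv_mem (WJ_mono cs Set.subset_union_left (e_mem v (k + 1))))
            (mul_mem (simple_mem_WJ cs (Or.inr rfl)) (WJ_mono cs Set.subset_union_left (e_mem v (k + 1))))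
        rcases FixBN.Cox.mem_of_simple_mem (cs := cs) h4 with h5 | h5
        · exact hvk h5
        · exact hne h5
      rw [← h3] at h2
      rw [e_succ] at h2
      have h4 : cs.simple (v (k + 1)) * e cs v k = e cs v k * cs.simple (v (k + 1)) :=
        comm_e fun t ht => (comm_of_two (h.two t (k + 1) (by omega) (by omega))).symm
      rw [← mul_assoc, h4, mul_assoc, mul_assoc] at h2
      exact not_comm_of_three (cs := cs) (h.three k (by omega)) (mul_left_cancel h2).symm

/-- **Moving along a path.** -/
theorem par_path (h : IsPath M v (k + 1)) (hk : 0 < k) {K K' : Set I} (h0 : v 0 ∉ K)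
    (hK : ∀ t, t < k → v (t + 1) ∈ K)
    (hc : ∀ j ∈ K, (∀ t, t < k → j ≠ v (t + 1)) → ∀ t, t < k + 1 → M j (v t) = 2)
    (hK' : ∀ j, j ∈ K' ↔ j = v 0 ∨ j ∈ K ∧ j ≠ v k) :
    FixBN.Cox.Par cs K K' (e cs v (k + 1)) := by
  have hmin : IsMinL cs K (e cs v (k + 1)) := by
    rw [isMinL_iff]
    intro i hi
    rw [length_simple_mul h (by rintro rfl; exact h0 hi)]
    exact Nat.lt_succ_self _
  have hfwd : ∀ j ∈ K', ∃ i ∈ K, e cs v (k + 1) * cs.simple j = cs.simple i * e cs v (k + 1) := by
    intro j hj
    by_cases hp : ∃ t, t < k + 1 ∧ j = v t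
    · obtain ⟨t, ht, rfl⟩ := hp
      rcases Nat.lt_or_ge t k with h1 | h1
      · exact ⟨v (t + 1), hK t h1, shift h (by omega)⟩
      · exfalso
        obtain rfl : t = k := by omega
        rcases (hK' _).1 hj with h2 | ⟨-, h2⟩
        · exact h.inj (s := 0) (t := t) hk (by omega) h2.symm
        · exact h2 rfl
    · have hjK : j ∈ K := by
        rcases (hK' _).1 hj with h2 | ⟨h2, -⟩
        · exact absurd ⟨0, by omega, h2⟩ hp
        · exact h2
      refine ⟨j, hjK, (comm_e fun t ht => comm_of_two (hc j hjK (fun s hs e => hp ⟨s + 1, by omega, e⟩) t ht)).symm⟩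
  have hbwd : ∀ i ∈ K, ∃ j ∈ K', cs.simple i * e cs v (k + 1) = e cs v (k + 1) * cs.simple j := by
    intro i hi
    by_cases hp : ∃ t, t < k ∧ i = v (t + 1)
    · obtain ⟨t, ht, rfl⟩ := hp
      refine ⟨v t, (hK' _).2 ?_, (shift h (by omega)).symm⟩
      rcases Nat.eq_zero_or_pos t with rfl | h1
      · exact Or.inl rfl
      · refine Or.inr ⟨?_, h.inj ht (by omega)⟩
        obtain ⟨s, rfl⟩ : ∃ s, t = s + 1 := ⟨t - 1, by omega⟩
        exact hK s (by omega)
    · have hne : i ≠ v k := by
        rintro rfl
        exact hp ⟨k - 1, by omega, by rw [Nat.sub_add_cancel hk]⟩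
      refine ⟨i, (hK' _).2 (Or.inr ⟨hi, hne⟩), ?_⟩
      exact comm_e fun t ht => comm_of_two (hc i hi (fun s hs e => hp ⟨s, hs, e⟩) t ht)
  refine ⟨hfwd, hbwd, hmin, ?_⟩
  rw [isMinR_iff]
  intro j hj
  obtain ⟨i, hi, e1⟩ := hfwd j hj
  rw [e1]
  exact (isMinL_iff cs).1 hmin i hi

end Cfsg.Agent.H330.ClassPath
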