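import Cfsg.Agent.H330.GowSt
import Cfsg.Agent.Characters.ClassMul
import Cfsg.Agent.Lib.ProductSet
import Cfsg.Agent.Blocks.SylowIn
import Cfsg.Agent.S0165

/-!
# Products of two conjugacy classes which are a class, in a group with a Steinberg character (helper330)

Let `a`, `b`, `c` be elements of a finite group `G` such that all the products `a ^ u * b ^ v` are conjugate to `c`.

* `chi_mul` : `χ a * χ b = χ 1 * χ c` for all irreducible characters;
* `regular_iff` : (`G` with a split (B,N)-pair of characteristic `p`) `c` is `p`-regular iff `a` and `b` are;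
* `factorization_add` : `v_p |C(a)| + v_p |C(b)| = v_p |G| + v_p |C(c)|` if `a` and `b` are `p`-regular;
* `factor` : if `A`, `B` are Sylow `p`-subgroups of `C(a)`, `C(b)` contained in a `p`-subgroup `P` then `P = A B` and `P` is a
  Sylow subgroup of `G`;
* `dvd_card` : a subgroup containing `A` and `B` contains a Sylow `p`-subgroup of `G`;
* `card_inf_eq` : the centraliser of a `p`-regular element in the unipotent radical of a stable residue of minimal rank is
  a Sylow `p`-subgroup of the centraliser.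
-/

set_option autoImplicit false
set_option linter.unusedSectionVars false

namespace Cfsg.Agent.H330.ClassProd

open Cfsg Subgroup
open scoped Pointwise

/-- All the products of a conjugate of `a` and a conjugate of `b` are conjugate to `c`. -/
def AllConj {G : Type*} [Group G] (a b c : G) : Prop := ∀ u v : G, IsConj c (u * a * u⁻¹ * (v * b * v⁻¹))

section Basic

variable {G : Type*} [Group G] {a b c : G}

theorem AllConj.of_eq (h : {g : G | ∃ u v : G, g = (u * a * u⁻¹) * (v * b * v⁻¹)} = {g : G | IsConj c g}) :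
    AllConj a b c := fun u v => by
  have h1 : u * a * u⁻¹ * (v * b * v⁻¹) ∈ {g : G | IsConj c g} := by
    rw [← h]
    exact ⟨u, v, rfl⟩
  exact h1

theorem AllConj.conj (h : AllConj a b c) (x y : G) : AllConj (x * a * x⁻¹) (y * b * y⁻¹) c := fun u v => by
  have h1 := h (u * x) (v * y)
  have e : u * x * a * (u * x)⁻¹ * (v * y * b * (v * y)⁻¹) =
      u * (x * a * x⁻¹) * u⁻¹ * (v * (y * b * y⁻¹) * v⁻¹) := by group
  rwa [e] at h1

theorem AllConj.mul (h : AllConj a b c) : IsConj c (a * b) := by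
  have h1 := h 1 1
  simpa using h1

/-- The other order of the factors. -/
theorem AllConj.symm (h : AllConj a b c) : AllConj b a c := fun u v => by
  refine (h v u).trans ?_
  refine isConj_iff.2 ⟨(v * a * v⁻¹)⁻¹, ?_⟩
  group

theorem AllConj.inv (h : AllConj a b c) : AllConj b⁻¹ a⁻¹ c⁻¹ := fun u v => by
  obtain ⟨g, hg⟩ := isConj_iff.1 (h v u)
  refine isConj_iff.2 ⟨g, ?_⟩
  rw [← conj_inv, hg]
  group

/-- **The characters.** -/
theorem AllConj.chi_mul [Finite G] (h : AllConj a b c) {χ : G → ℂ} (hχ : IsIrrCharacter G χ) :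
    χ a * χ b = χ 1 * χ c := by
  classical
  have : Fintype G := Fintype.ofFinite G
  have h1 := Characters.Central.sum_char_conj_mul hχ a b
  have h2 : ∀ u : G, χ (u * a * u⁻¹ * b) = χ c := by
    intro u
    obtain ⟨g, hg⟩ := isConj_iff.1 (h u 1)
    have e : u * a * u⁻¹ * (1 * b * 1⁻¹) = u * a * u⁻¹ * b := by group
    rw [e] at hg
    rw [← hg]
    exact Characters.Core.isIrr_isClassFunction hχ c g
  rw [Finset.sum_congr rfl fun u _ => h2 u, Finset.sum_const, Finset.card_univ, nsmul_eq_mul,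
    ← Nat.card_eq_fintype_card] at h1
  have hc0 : (Nat.card G : ℂ) ≠ 0 := by exact_mod_cast Nat.card_pos.ne'
  have h10 : χ 1 ≠ 0 := Characters.Core.isIrr_apply_one_ne_zero hχ
  have h4 : χ c = χ a * χ b / χ 1 := by
    apply mul_left_cancel₀ hc0
    rw [h1]
    ring
  rw [h4]
  field_simp

end Basic

section St

variable {G : Type*} [Group G] [Finite G] {p : ℕ} [Fact p.Prime] {a b c : G}

/-- The exponent of the order of a Sylow `p`-subgroup of the centraliser. -/
noncomputable def cv (p : ℕ) (g : G) : ℕ := (Nat.card ↥(centralizer ({g} : Set G))).factorization p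

theorem cv_of_isConj {x y : G} (h : IsConj x y) : cv p y = cv p x := by
  unfold cv
  rw [Blocks.SylowIn.card_centralizer_of_isConj h]

theorem cv_conj (x g : G) : cv p (x * g * x⁻¹) = cv p g :=
  cv_of_isConj (isConj_iff.2 ⟨x, rfl⟩)

theorem exists_st (h : FixBN.HasSplit p G) :
    ∃ χ : G → ℂ, IsIrrCharacter G χ ∧ χ 1 = ((p ^ (Nat.card G).factorization p : ℕ) : ℂ) ∧
      (∀ g : G, ¬ p ∣ orderOf g → χ g = ((p ^ cv p g : ℕ) : ℂ) ∨ χ g = -((p ^ cv p g : ℕ) : ℂ)) ∧
      ∀ g : G, p ∣ orderOf g → χ g = 0 := by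
  have hp : p.Prime := Fact.out
  obtain ⟨χ, hχ, h1, h2⟩ := GowSt.exists_st_of_hasSplit h
  refine ⟨χ, hχ, h1, h2, fun g hg => ?_⟩
  obtain ⟨n, ρ, hρ, rfl⟩ := hχ
  refine S0165.result ρ p ((Nat.card G).factorization p) hp (Nat.ordProj_dvd _ _)
    (Nat.pow_succ_factorization_not_dvd Nat.card_pos.ne' hp) ?_ g hg
  rw [Representation.char_one] at h1
  have h3 : Module.finrank ℂ (Fin n → ℂ) = p ^ (Nat.card G).factorization p := by exact_mod_cast h1
  rw [h3]

theorem orderOf_of_isConj {x y : G} (h : IsConj x y) : orderOf y = orderOf x := by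
  obtain ⟨g, rfl⟩ := isConj_iff.1 h
  exact orderOf_injective (MulAut.conj g).toMonoidHom (MulAut.conj g).injective x

/-- **`c` is `p`-regular iff `a` and `b` are.** -/
theorem AllConj.regular_iff (h : AllConj a b c) (hS : FixBN.HasSplit p G) :
    ¬ p ∣ orderOf c ↔ ¬ p ∣ orderOf a ∧ ¬ p ∣ orderOf b := by
  have hp : p.Prime := Fact.out
  obtain ⟨χ, hχ, h1, h2, h3⟩ := exists_st hS
  have h4 := h.chi_mul hχ
  have hne : ∀ n : ℕ, ((p ^ n : ℕ) : ℂ) ≠ 0 := fun n => by exact_mod_cast pow_ne_zero n hp.ne_zero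
  have h5 : ∀ g : G, ¬ p ∣ orderOf g ↔ χ g ≠ 0 := by
    intro g
    constructor
    · intro hg
      rcases h2 g hg with h6 | h6 <;> rw [h6]
      · exact hne _
      · exact neg_ne_zero.2 (hne _)
    · intro hg hd
      exact hg (h3 g hd)
  rw [h5, h5, h5, ← mul_ne_zero_iff, h4, mul_ne_zero_iff]
  have h10 : χ 1 ≠ 0 := by rw [h1]; exact hne _
  exact ⟨fun h => ⟨h10, h⟩, fun h => h.2⟩

/-- **The orders of the Sylow subgroups of the centralisers.** -/
theorem AllConj.cv_add (h : AllConj a b c) (hS : FixBN.HasSplit p G) (ha : ¬ p ∣ orderOf a) (hb : ¬ p ∣ orderOf b) :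
    cv p a + cv p b = (Nat.card G).factorization p + cv p c := by
  have hp : p.Prime := Fact.out
  have hc := (h.regular_iff hS).2 ⟨ha, hb⟩
  obtain ⟨χ, hχ, h1, h2, -⟩ := exists_st hS
  have h4 := h.chi_mul hχ
  have key : ∀ ε : ℂ, ε = 1 ∨ ε = -1 →
      ((p ^ (cv p a + cv p b) : ℕ) : ℂ) = ε * ((p ^ ((Nat.card G).factorization p + cv p c) : ℕ) : ℂ) →
      cv p a + cv p b = (Nat.card G).factorization p + cv p c := by
    rintro ε (rfl | rfl) h5
    · rw [one_mul] at h5
      exact Nat.pow_right_injective hp.two_le (by exact_mod_cast h5)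
    · exfalso
      have h6 : (((p ^ (cv p a + cv p b) + p ^ ((Nat.card G).factorization p + cv p c) : ℕ)) : ℂ) = 0 := by
        rw [Nat.cast_add, h5]
        ring
      have h7 : p ^ (cv p a + cv p b) + p ^ ((Nat.card G).factorization p + cv p c) = 0 := by exact_mod_cast h6
      have h8 : 0 < p ^ (cv p a + cv p b) := pow_pos hp.pos _
      omega
  rw [h1] at h4
  rcases h2 a ha with ea | ea <;> rcases h2 b hb with eb | eb <;> rcases h2 c hc with ec | ec <;>
    rw [ea, eb, ec] at h4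
  · refine key 1 (Or.inl rfl) ?_
    rw [pow_add, pow_add, Nat.cast_mul, Nat.cast_mul, h4]; ring
  · refine key (-1) (Or.inr rfl) ?_
    rw [pow_add, pow_add, Nat.cast_mul, Nat.cast_mul, h4]; ring
  · refine key (-1) (Or.inr rfl) ?_
    rw [pow_add, pow_add, Nat.cast_mul, Nat.cast_mul]; linear_combination -h4
  · refine key 1 (Or.inl rfl) ?_
    rw [pow_add, pow_add, Nat.cast_mul, Nat.cast_mul]; linear_combination -h4
  · refine key (-1) (Or.inr rfl) ?_
    rw [pow_add, pow_add, Nat.cast_mul, Nat.cast_mul]; linear_combination -h4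
  · refine key 1 (Or.inl rfl) ?_
    rw [pow_add, pow_add, Nat.cast_mul, Nat.cast_mul]; linear_combination -h4
  · refine key 1 (Or.inl rfl) ?_
    rw [pow_add, pow_add, Nat.cast_mul, Nat.cast_mul]; linear_combination h4
  · refine key (-1) (Or.inr rfl) ?_
    rw [pow_add, pow_add, Nat.cast_mul, Nat.cast_mul]; linear_combination h4

/-- **The factorisation.** -/
theorem AllConj.factor (h : AllConj a b c) (hS : FixBN.HasSplit p G) (ha : ¬ p ∣ orderOf a) (hb : ¬ p ∣ orderOf b)
    {A B P : Subgroup G} (hP : IsPGroup p P) (hAP : A ≤ P) (hBP : B ≤ P) (hA : A ≤ centralizer ({a} : Set G))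
    (hB : B ≤ centralizer ({b} : Set G)) (hAc : Nat.card A = p ^ cv p a) (hBc : Nat.card B = p ^ cv p b) :
    Nat.card P = p ^ (Nat.card G).factorization p ∧ (∀ x ∈ P, ∃ y ∈ A, ∃ z ∈ B, x = y * z) ∧
      Nat.card ↥(A ⊓ B) = p ^ cv p (a * b) := by
  classical
  have hp : p.Prime := Fact.out
  have h1 := h.cv_add hS ha hb
  rw [← cv_of_isConj h.mul] at h1
  -- the intersection centralises the product
  have hinf : A ⊓ B ≤ centralizer ({a * b} : Set G) := by
    rintro x ⟨hx, hx'⟩
    have h2 := mem_centralizer_singleton_iff.1 (hA hx)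
    have h3 := mem_centralizer_singleton_iff.1 (hB hx')
    rw [mem_centralizer_singleton_iff, ← mul_assoc, h2, mul_assoc, h3, mul_assoc]
  obtain ⟨k, hk⟩ := (hP.to_le (inf_le_left.trans hAP : A ⊓ B ≤ P)).exists_card_eq
  have hk1 : k ≤ cv p (a * b) := by
    unfold cv
    rw [← hp.pow_dvd_iff_le_factorization Nat.card_pos.ne', ← hk]
    exact Subgroup.card_dvd_of_le hinf
  obtain ⟨n, hn⟩ := hP.exists_card_eq
  have hn1 : n ≤ (Nat.card G).factorization p := by
    rw [← hp.pow_dvd_iff_le_factorization Nat.card_pos.ne', ← hn]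
    exact Subgroup.card_subgroup_dvd_card P
  have h2 := Lib.ProductSet.card_mul_card_inf A B
  rw [hAc, hBc, hk, ← pow_add, h1] at h2
  have hsub : ((A : Set G) * (B : Set G) : Set G) ⊆ (P : Set G) := by
    rintro _ ⟨x, hx, y, hy, rfl⟩
    exact mul_mem (hAP hx) (hBP hy)
  have h3 : Nat.card ((A : Set G) * (B : Set G) : Set G) ≤ p ^ n := by
    rw [← hn]
    exact Nat.card_mono (Set.toFinite _) hsub
  have h4 : p ^ ((Nat.card G).factorization p + cv p (a * b)) ≤ p ^ (n + k) := by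
    rw [← h2, pow_add]
    exact Nat.mul_le_mul_right _ h3
  have h5 := (Nat.pow_le_pow_iff_right hp.one_lt).1 h4
  have h6 : n = (Nat.card G).factorization p := by omega
  have h7 : k = cv p (a * b) := by omega
  subst h7
  refine ⟨by rw [hn, h6], fun x hx => ?_, hk⟩
  have h8 : Nat.card ((A : Set G) * (B : Set G) : Set G) = p ^ n := by
    have h9 : 0 < p ^ cv p (a * b) := pow_pos hp.pos _
    apply Nat.eq_of_mul_eq_mul_right h9
    rw [h2, h6, pow_add]
  have h10 : ((A : Set G) * (B : Set G) : Set G) = (P : Set G) := by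
    apply Set.eq_of_subset_of_ncard_le hsub _ (Set.toFinite _)
    rw [← Nat.card_coe_set_eq, ← Nat.card_coe_set_eq, h8]
    exact hn.le
  have h11 : x ∈ ((A : Set G) * (B : Set G) : Set G) := by
    rw [h10]
    exact hx
  obtain ⟨y, hy, z, hz, rfl⟩ := h11
  exact ⟨y, hy, z, hz, rfl⟩

/-- **Conjugates of `A` and `B` are contained in no proper parabolic subgroup etc.** -/
theorem AllConj.dvd_card (h : AllConj a b c) (hS : FixBN.HasSplit p G) (ha : ¬ p ∣ orderOf a) (hb : ¬ p ∣ orderOf b)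
    {A B H : Subgroup G} (hAH : A ≤ H) (hBH : B ≤ H) (hA : A ≤ centralizer ({a} : Set G))
    (hB : B ≤ centralizer ({b} : Set G)) (hAc : Nat.card A = p ^ cv p a) (hBc : Nat.card B = p ^ cv p b) :
    p ^ (Nat.card G).factorization p ∣ Nat.card H := by
  classical
  have hAp : IsPGroup p A := IsPGroup.of_card hAc
  have hBp : IsPGroup p B := IsPGroup.of_card hBc
  obtain ⟨P, hP⟩ := (hAp.comap_subtype (K := H)).exists_le_sylow
  obtain ⟨Q, hQ⟩ := (hBp.comap_subtype (K := H)).exists_le_sylow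
  obtain ⟨g, hg⟩ := MulAction.exists_smul_eq H Q P
  set P' : Subgroup G := (P : Subgroup H).map H.subtype with hP'
  have hAP : A ≤ P' := by
    intro x hx
    exact ⟨⟨x, hAH hx⟩, hP (by exact hx), rfl⟩
  have hBP : B.map (MulAut.conj (g : G)).toMonoidHom ≤ P' := by
    rintro _ ⟨x, hx, rfl⟩
    have h1 : (⟨x, hBH hx⟩ : H) ∈ (Q : Subgroup H) := hQ (by exact hx)
    have h2 : g * ⟨x, hBH hx⟩ * g⁻¹ ∈ (P : Subgroup H) := by
      rw [← hg, Sylow.coe_subgroup_smul, Subgroup.mem_pointwise_smul_iff_inv_smul_mem]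
      have e : (MulAut.conj g)⁻¹ • (g * (⟨x, hBH hx⟩ : H) * g⁻¹) = ⟨x, hBH hx⟩ := by
        rw [MulAut.smul_def, MulAut.conj_inv_apply]
        group
      rw [e]
      exact h1
    exact ⟨_, h2, rfl⟩
  have hb' : ¬ p ∣ orderOf ((g : G) * b * (g : G)⁻¹) := by
    rwa [orderOf_of_isConj (isConj_iff.2 ⟨(g : G), rfl⟩)]
  have h' : AllConj a ((g : G) * b * (g : G)⁻¹) c := by
    have := h.conj 1 (g : G)
    simpa using this
  have h3 := (h'.factor hS ha hb' (P := P') (P.2.map _) hAP hBP hA ?_ hAc ?_).1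
  · rw [← h3]
    exact Subgroup.card_dvd_of_le (by rintro _ ⟨x, -, rfl⟩; exact x.2)
  · rintro _ ⟨x, hx, rfl⟩
    have h4 := mem_centralizer_singleton_iff.1 (hB hx)
    change (g : G) * x * (g : G)⁻¹ ∈ _
    rw [mem_centralizer_singleton_iff]
    calc (g : G) * x * (g : G)⁻¹ * ((g : G) * b * (g : G)⁻¹) = (g : G) * (x * b) * (g : G)⁻¹ := by group
      _ = (g : G) * (b * x) * (g : G)⁻¹ := by rw [h4]
      _ = _ := by group
  · rw [Subgroup.card_map_of_injective (MulAut.conj (g : G)).injective, hBc, cv_conj]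

end St

section Min

open Cfsg.Agent.Tits.Core Cfsg.Agent.Tits.Core.Bldg Cfsg.Agent.Tits.Exchange Cfsg.Agent.FixBN
  Cfsg.Agent.Tits Cfsg.Agent.H114.StValue Cfsg.Agent.H330.GowSt Cfsg.Agent.H167.SteinbergMod

variable {I : Type*} [Fintype I] [DecidableEq I] {M : CoxeterMatrix I} {W : Type*} [Group W] [Finite W]
  {cs : CoxeterSystem M W} {C : Type*} [Fintype C] {Δ : Bldg cs C} {G : Type*} [Group G] [MulAction G C] [Finite G]
  {p : ℕ} [Fact p.Prime] (S : Sys Δ G p)

/-- **The centraliser of a `p`-regular element in the unipotent radical of a stable residue of minimal rank is a Sylow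
`p`-subgroup of the centraliser.** -/
theorem card_UR_inf (hth : Δ.Thick) (ht : ∀ x y : C, ∃ g : G, g • x = y) (c : C) (K : Finset I) {g : G}
    (hg : Δ.δ c (g • c) ∈ WJ cs (K : Set I))
    (hmin : ∀ (x : C) (L : Finset I), Δ.δ x (g • x) ∈ WJ cs (L : Set I) → K.card ≤ L.card)
    (hp : ¬ p ∣ orderOf g) :
    Nat.card ↥(S.UR (Δ.Res (K : Set I) c) ⊓ centralizer ({g} : Set G)) = p ^ cv p g := by
  classical
  have F : OppRes.Cox cs := inferInstance
  obtain ⟨a0, ha0⟩ := Tits.Opp.exists_opp Δ c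
  have htr : ∀ x y x' y', Δ.δ x y = Δ.δ x' y' → ∃ g : G, g • x = x' ∧ g • y = y' := by
    intro x y x' y' h
    obtain ⟨g, rfl⟩ := ht x x'
    have h1 : Δ.δ (g • x) (g • y) = Δ.δ (g • x) y' := by rw [S.iso, h]
    obtain ⟨u, hu, huz⟩ := S.exists_move h1
    exact ⟨u * g, by rw [mul_smul, S.fix _ u hu], by rw [mul_smul, huz]⟩
  have hap : ∀ y, Δ.Opp c y → ∃ a : W → C, (∀ v w, Δ.δ (a v) (a w) = v⁻¹ * w) ∧ a 1 = c ∧ a (w0 cs) = y := by
    intro y hy
    obtain ⟨σ, h1, h2⟩ := Tits.Chart.exists_chart hy 1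
    rw [one_mul] at h2
    exact ⟨σ, σ.iso, h1, h2⟩
  have hirr := Cfsg.Agent.Characters.Core.isIrrCharacter_of_rep _ (irreducible Δ S.iso c hap ⟨a0, ha0⟩ htr)
  have hdeg : (stRep Δ S.iso).character 1 = ((p ^ (Nat.card G).factorization p : ℕ) : ℂ) := by
    rw [character_eq Δ S.iso c hap (one_smul G c), ← card_U_eq S ht c]
    congr 1
    refine (Nat.card_congr (Equiv.ofBijective
      (fun v : S.U c => (⟨(v : G) • a0, ?_, one_smul _ _⟩ : {y : C // Δ.Opp c y ∧ (1 : G) • y = y})) ⟨?_, ?_⟩)).symm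
    · have h1 := S.iso (v : G) c a0
      rw [S.fix c v v.2] at h1
      exact h1.trans ha0
    · intro v w hvw
      have h1 : (v : G) • a0 = (w : G) • a0 := congrArg Subtype.val hvw
      have h2 : ((w : G)⁻¹ * v) • a0 = a0 := by rw [mul_smul, h1, inv_smul_smul]
      have h3 := S.free c a0 ha0 _ (mul_mem (inv_mem w.2) v.2) h2
      exact Subtype.ext (inv_mul_eq_one.1 h3).symm
    · rintro ⟨e, he, -⟩
      obtain ⟨v, hv, rfl⟩ := S.trans c a0 e ha0 he
      exact ⟨⟨v, hv⟩, rfl⟩
  have hval := H114.StRegular.character_eq_card Δ S.iso (p := p) htr c a0 ha0 hap K (S.UR (Δ.Res (K : Set I) c))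
    (S.UR_isP ⟨c, Δ.self_mem_Res _ _⟩) ?_ ?_ ?_ ?_ hg hmin hp
  · exact H114.StRegular.eq_of_pow (p := p) hirr hdeg (g := g) (neg_one_pow_eq_or ℂ _)
      (S.UR (Δ.Res (K : Set I) c) ⊓ centralizer ({g} : Set G))
      (IsPGroup.to_le (S.UR_isP ⟨c, Δ.self_mem_Res _ _⟩) inf_le_left) inf_le_right hval
  · intro v hv
    rw [S.fix c v (hv c (Δ.self_mem_Res _ _))]
    exact Δ.self_mem_Res _ _
  · intro x hx v hv
    have h1 : x • Δ.Res (K : Set I) c = Δ.Res (K : Set I) c := by
      rw [S.smul_Res]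
      exact Δ.Res_eq_of_mem hx
    have h2 := (S.conj_mem_UR_iff (Q := Δ.Res (K : Set I) c) (u := v) (g := x)).2 hv
    rwa [h1] at h2
  · intro x hx
    obtain ⟨v, hv, h⟩ := exists_levi S hth ht ha0 hx
    refine ⟨v, hv, ?_⟩
    rw [H114.StRegular.mem_stabRes, coe_opK]
    exact h
  · intro v hv hv'
    rw [H114.StRegular.mem_stabRes, coe_opK] at hv'
    exact eq_one_of_stab S hth ha0 hv hv'

end Min

end Cfsg.Agent.H330.ClassProd
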