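import Cfsg.Agent.H330.ClassProd

/-!
# Products of two classes which are a class: the geometric part for `p`-regular elements (helper330)

* `IsSyl p a A` : `A` is a Sylow `p`-subgroup of `C(a)`;
* `trans_of_triv` : if `A` is trivial on the panel `Pan i x` and `A, B ≤ U x`, then `B` is transitive on the other chambers of
  the panel;
* `DT S a i`, `DP S a i`, `clash`;
* `exists_opp_res` : a `p`-regular element stabilising the `K`-residue of `c` stabilises a residue of `Res L c` opposite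
  to it.
-/

set_option autoImplicit false
set_option linter.unusedSectionVars false

open scoped Pointwise

namespace Cfsg.Agent.H330.ClassRes

open Cfsg Subgroup Cfsg.Agent.Tits.Core Cfsg.Agent.Tits.Core.Bldg Cfsg.Agent.Tits.Exchange Cfsg.Agent.FixBN
  Cfsg.Agent.Tits Cfsg.Agent.H330.ClassProd Cfsg.Agent.H330.GowSt

/-- `A` is a Sylow `p`-subgroup of the centraliser of `a`. -/
structure IsSyl {G : Type*} [Group G] (p : ℕ) (a : G) (A : Subgroup G) : Prop where
  le : A ≤ centralizer ({a} : Set G)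
  card : Nat.card A = p ^ cv p a

section Conj

variable {G : Type*} [Group G] {p : ℕ} [Fact p.Prime]

omit [Fact p.Prime] in
theorem mem_map_conj {A : Subgroup G} {g x : G} :
    x ∈ A.map (MulAut.conj g).toMonoidHom ↔ g⁻¹ * x * g ∈ A := by
  constructor
  · rintro ⟨y, hy, rfl⟩
    have e : g⁻¹ * (MulAut.conj g).toMonoidHom y * g = y := by
      change g⁻¹ * (g * y * g⁻¹) * g = y
      group
    rw [e]
    exact hy
  · intro h
    refine ⟨_, h, ?_⟩
    change g * (g⁻¹ * x * g) * g⁻¹ = x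
    group

theorem IsSyl.conj [Finite G] {a : G} {A : Subgroup G} (h : IsSyl p a A) (g : G) :
    IsSyl p (g * a * g⁻¹) (A.map (MulAut.conj g).toMonoidHom) where
  le := by
    rintro _ ⟨x, hx, rfl⟩
    have h4 := mem_centralizer_singleton_iff.1 (h.le hx)
    change g * x * g⁻¹ ∈ _
    rw [mem_centralizer_singleton_iff]
    calc g * x * g⁻¹ * (g * a * g⁻¹) = g * (x * a) * g⁻¹ := by group
      _ = g * (a * x) * g⁻¹ := by rw [h4]
      _ = _ := by group
  card := by
    rw [Subgroup.card_map_of_injective (MulAut.conj g).injective, h.card, cv_conj]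

end Conj

variable {I : Type*} {M : CoxeterMatrix I} {W : Type*} [Group W] {cs : CoxeterSystem M W} {C : Type*}

local prefix:100 "ℓ" => cs.length

variable {Δ : Bldg cs C} {G : Type*} [Group G] [MulAction G C] {p : ℕ} (S : Sys Δ G p)

section Clash

variable [Finite G] [Fact p.Prime] {a b c : G}

/-- **The factorisation of `U x`.** -/
theorem exists_mul (hS : FixBN.HasSplit p G) (h : AllConj a b c) (ha : ¬ p ∣ orderOf a) (hb : ¬ p ∣ orderOf b) {x : C}
    {A B : Subgroup G} (hA : IsSyl p a A) (hB : IsSyl p b B) (hAx : A ≤ S.U x) (hBx : B ≤ S.U x) {u : G}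
    (hu : u ∈ S.U x) : ∃ y ∈ A, ∃ z ∈ B, u = y * z :=
  (h.factor hS ha hb (S.isP x) hAx hBx hA.le hB.le hA.card hB.card).2.1 u hu

end Clash

/-- `a` has a Sylow subgroup of the centraliser in `U x` which is trivial on the `i`-panel of `x`. -/
def DT (a : G) (i : I) : Prop :=
  ∃ (x : C) (A : Subgroup G), IsSyl p a A ∧ A ≤ S.U x ∧ ∀ u ∈ A, ∀ y ∈ Δ.Pan i x, u • y = y

/-- `a` has a Sylow subgroup of the centraliser in `U x` which is not transitive on the `i`-panel of `x`. -/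
def DP (a : G) (i : I) : Prop :=
  ∃ (x : C) (A : Subgroup G), IsSyl p a A ∧ A ≤ S.U x ∧ ∃ y ∈ Δ.Pan i x, ∃ z ∈ Δ.Pan i x, y ≠ x ∧ z ≠ x ∧
    ∀ u ∈ A, u • y ≠ z

variable {S}

include S in
theorem smul_mem_Pan {i : I} {x y : C} (g : G) (h : y ∈ Δ.Pan i x) : g • y ∈ Δ.Pan i (g • x) := by
  rcases h with h | h
  · left
    rw [h]
  · right
    rw [S.iso]
    exact h

include S in
theorem inv_smul_mem_Pan {i : I} {x y : C} (g : G) (h : y ∈ Δ.Pan i (g • x)) : g⁻¹ • y ∈ Δ.Pan i x := by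
  have h1 := smul_mem_Pan (S := S) g⁻¹ h
  rwa [inv_smul_smul] at h1

theorem map_conj_le_U {A : Subgroup G} {x : C} (hA : A ≤ S.U x) (g : G) :
    A.map (MulAut.conj g).toMonoidHom ≤ S.U (g • x) := by
  rintro _ ⟨u, hu, rfl⟩
  exact S.conj_mem_U (hA hu) g

section Conj

variable [Finite G] [Fact p.Prime]

theorem DT.conj {a : G} {i : I} (h : DT S a i) (g : G) : DT S (g * a * g⁻¹) i := by
  obtain ⟨x, A, hA, hAx, h1⟩ := h
  refine ⟨g • x, _, hA.conj g, map_conj_le_U hAx g, ?_⟩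
  rintro _ ⟨u, hu, rfl⟩ y hy
  change (g * u * g⁻¹) • y = y
  rw [mul_smul, mul_smul, h1 u hu _ (inv_smul_mem_Pan (S := S) g hy), smul_inv_smul]

/-- **No panel type with `A` trivial and `B` not transitive.** -/
theorem clash [F : OppRes.Cox cs] (ht : ∀ x y : C, ∃ g : G, g • x = y) (hS : FixBN.HasSplit p G) {a b c : G} (h : AllConj a b c)
    (ha : ¬ p ∣ orderOf a) (hb : ¬ p ∣ orderOf b) {i : I} (hai : DT S a i) (hbi : DP S b i) : False := by
  obtain ⟨x', A, hA, hAx, h1⟩ := hai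
  obtain ⟨x, B, hB, hBx, y, hy, z, hz, hyx, hzx, h2⟩ := hbi
  obtain ⟨g, rfl⟩ := ht x' x
  have hA' := hA.conj g
  have h' : AllConj (g * a * g⁻¹) b c := by
    have := h.conj g 1
    simpa using this
  have ha' : ¬ p ∣ orderOf (g * a * g⁻¹) := by
    rwa [orderOf_of_isConj (isConj_iff.2 ⟨g, rfl⟩)]
  have hyz : Δ.δ (g • x') y = Δ.δ (g • x') z := by
    rcases hy with hy | hy
    · exact absurd hy hyx
    rcases hz with hz | hz
    · exact absurd hz hzx
    rw [hy, hz]
  obtain ⟨u, hu, huz⟩ := S.exists_move hyz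
  obtain ⟨k, hk, l, hl, rfl⟩ := exists_mul S hS h' ha' hb hA' hB (map_conj_le_U hAx g) hBx hu
  apply h2 l hl
  have hk' : k⁻¹ ∈ A.map (MulAut.conj g).toMonoidHom := inv_mem hk
  have h3 : l • y = k⁻¹ • z := by
    rw [← huz, mul_smul, inv_smul_smul]
  rw [h3]
  obtain ⟨k', hk'', hk3⟩ := hk'
  rw [← hk3]
  change (g * k' * g⁻¹) • z = z
  rw [mul_smul, mul_smul, h1 k' hk'' _ (inv_smul_mem_Pan (S := S) g hz), smul_inv_smul]

/-- a trivial action is not transitive -/
theorem DT.dp (hth : Δ.Thick) {a : G} {i : I} (h : DT S a i) : DP S a i := by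
  obtain ⟨x, A, hA, hAx, h1⟩ := h
  obtain ⟨y, z, hyz, hy, hz⟩ := hth x i
  have hne : ∀ y : C, Δ.δ x y = cs.simple i → y ≠ x := by
    rintro y hy rfl
    rw [(Δ.eq_one y y).2 rfl] at hy
    have h2 := cs.length_simple i
    rw [← hy, cs.length_one] at h2
    exact absurd h2 (by norm_num)
  refine ⟨x, A, hA, hAx, y, Or.inr hy, z, Or.inr hz, hne y hy, hne z hz, fun u hu h => hyz ?_⟩
  rw [← h, h1 u hu y (Or.inr hy)]

end Conj

section Move

variable [F : OppRes.Cox cs] [Finite G] [Finite C] [Fact p.Prime]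

/-- `U c = UR(R) (U c ∩ U d)` for `d` at distance a minimal representative. -/
theorem exists_factor_min (hth : Δ.Thick) (ht : ∀ x y : C, ∃ g : G, g • x = y) {K : Set I} {c d : C}
    (hd : IsMinL cs K (Δ.δ c d)) {u : G} (hu : u ∈ S.U c) :
    ∃ v ∈ S.UR (Δ.Res K c), ∃ l ∈ S.U c, l ∈ S.U d ∧ u = v * l := by
  set w := Δ.δ c d with hw
  have hl : ℓ (w * (w⁻¹ * OppRes.dJ cs K)) = ℓ w + ℓ (w⁻¹ * OppRes.dJ cs K) := by
    rw [mul_inv_cancel_left]
    have h1 := hd _ (F.wJ_mem K)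
    have h2 := F.len_mul_w0 (wJ cs K * w)⁻¹
    have h3 : (wJ cs K * w)⁻¹ * w0 cs = w⁻¹ * OppRes.dJ cs K := by
      rw [OppRes.dJ, mul_inv_rev, F.wJ_inv, mul_assoc]
    rw [h3, cs.length_inv, h1] at h2
    have h4 := F.len_dJ_add K
    omega
  obtain ⟨f, hf⟩ := Δ.exists_δ d (w⁻¹ * OppRes.dJ cs K)
  have hcf : Δ.δ c f = OppRes.dJ cs K := by
    have := Δ.δ_mul_of hw.symm hf hl
    rwa [mul_inv_cancel_left] at this
  obtain ⟨v, hv, l, hl1, hl2, rfl⟩ := exists_factor S hth ht hcf hu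
  refine ⟨v, hv, l, hl1, ?_, rfl⟩
  apply S.mem_U_of_fix hl1
  refine (Δ.between_unique hl (x := c) (z := f) hw.symm hf ?_ ?_).symm
  · rw [hw, ← S.iso l c d, S.fix c l hl1]
  · rw [← hf, ← S.iso l d f, S.fix f l hl2]

variable (S)

include S in
/-- **A `p`-regular element stabilising the `K`-residue of `c` stabilises a parallel residue at distance `w`.** -/
theorem exists_par (hth : Δ.Thick) (ht : ∀ x y : C, ∃ g : G, g • x = y) {K K' : Set I} {w : W}
    (hw : FixBN.Cox.Par cs K K' w) {c : C} {g : G} (hg : Δ.δ c (g • c) ∈ WJ cs K) (hp : ¬ p ∣ orderOf g) :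
    ∃ d, Δ.δ c d = w ∧ Δ.δ d (g • d) ∈ WJ cs K' := by
  obtain ⟨d0, hd0⟩ := Δ.exists_δ c w
  set V := S.UR (Δ.Res K c) with hV
  have hVp : IsPGroup p V := S.UR_isP ⟨c, Δ.self_mem_Res _ _⟩
  -- the powers of `g`
  have hz : ∀ k ∈ Subgroup.zpowers g, Δ.δ c (k • c) ∈ WJ cs K := by
    have h1 : ∀ k k' : G, Δ.δ c (k • c) ∈ WJ cs K → Δ.δ c (k' • c) ∈ WJ cs K →
        Δ.δ c ((k * k') • c) ∈ WJ cs K := by
      intro k k' h h'
      have h2 : Δ.δ (k • c) ((k * k') • c) ∈ WJ cs K := by rw [mul_smul, S.iso]; exact h'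
      exact Δ.mem_Res_trans h h2
    have h2 : ∀ k : G, Δ.δ c (k • c) ∈ WJ cs K → Δ.δ c (k⁻¹ • c) ∈ WJ cs K := by
      intro k h
      rw [← S.iso k, smul_inv_smul]
      exact Δ.mem_Res_symm h
    let T : Subgroup G :=
      { carrier := {k | Δ.δ c (k • c) ∈ WJ cs K}
        mul_mem' := fun {a b} ha hb => h1 a b ha hb
        one_mem' := by
          show Δ.δ c ((1 : G) • c) ∈ WJ cs K
          rw [one_smul]; exact Δ.self_mem_Res _ _
        inv_mem' := fun {a} ha => h2 a ha }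
    intro k hk
    have h3 : Subgroup.zpowers g ≤ T := by rw [Subgroup.zpowers_le]; exact hg
    exact h3 hk
  -- transitivity
  have key : ∀ k : G, Δ.δ c (k • c) ∈ WJ cs K → ∃ v ∈ V, k • Δ.Res K' d0 = v • Δ.Res K' d0 := by
    intro k hk
    have hk' : Δ.δ (k⁻¹ • c) c ∈ WJ cs K := by
      rw [← S.iso k, smul_inv_smul]
      exact hk
    obtain ⟨t, ht', h⟩ := Δ.exists_mul_of_mem_left d0 hk'
    rw [hd0] at h
    obtain ⟨b, hb, hb1, hb2⟩ := hw.mulL ht'
    rw [hb1] at h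
    obtain ⟨d', hd1, hd2⟩ := Δ.exists_between h (hw.minR b hb)
    have h2 : Δ.δ c (k • d') = Δ.δ c d0 := by
      rw [hd0, ← hd1, ← S.iso k (k⁻¹ • c), smul_inv_smul]
    obtain ⟨u, hu, hud⟩ := S.exists_move h2.symm
    obtain ⟨v, hv, l, hl, hl', rfl⟩ := exists_factor_min hth ht (K := K) (by rw [hd0]; exact hw.minL) hu
    refine ⟨v, hv, ?_⟩
    rw [mul_smul, S.fix d0 l hl'] at hud
    rw [S.smul_Res, S.smul_Res, hud]
    apply Δ.Res_eq_of_mem
    apply S.smul_mem_Res
    rw [mem_Res, hd2]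
    exact hb
  have hAK : Subgroup.zpowers g ≤ Subgroup.normalizer (V : Set G) := by
    intro k hk
    have hR : ∀ k ∈ Subgroup.zpowers g, k • Δ.Res K c = Δ.Res K c := by
      intro k hk
      rw [S.smul_Res]
      exact Δ.Res_eq_of_mem (hz k hk)
    rw [Subgroup.mem_normalizer_iff]
    intro v
    have h2 := S.conj_mem_UR_iff (Q := Δ.Res K c) (u := v) (g := k)
    rw [hR k hk] at h2
    exact h2.symm
  have hcop : (Nat.card (Subgroup.zpowers g)).Coprime (Nat.card V) := by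
    obtain ⟨k, hk⟩ := hVp.exists_card_eq
    rw [hk, Nat.card_zpowers]
    exact Nat.Coprime.pow_right _ ((Nat.Prime.coprime_iff_not_dvd Fact.out).2 hp).symm
  have hsolv : Group.IsSolvable (Subgroup.zpowers g) ∨ Group.IsSolvable V := by
    left
    infer_instance
  obtain ⟨v, hv, hfix⟩ := Solvable.Glauberman.exists_smul_fixed (Subgroup.zpowers g) V hAK hcop hsolv
    (X := Set C) (Δ.Res K' d0) fun k hk => key k (hz k hk)
  have hvc : v • c = c := S.fix c v (hv c (Δ.self_mem_Res _ _))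
  refine ⟨v • d0, ?_, ?_⟩
  · rw [← hd0, ← S.iso v c d0, hvc]
  · have h1 := hfix g (Subgroup.mem_zpowers g)
    rw [S.smul_Res, S.smul_Res] at h1
    have h2 : g • v • d0 ∈ Δ.Res K' (v • d0) := by
      rw [← h1]
      exact Δ.self_mem_Res _ _
    exact h2

end Move

section Min

variable [Fintype I] [DecidableEq I] [Finite W] [Finite G] [Fintype C] [Fact p.Prime]

/-- `g` stabilises the `K`-residue of `c`, and no residue of smaller rank. -/
structure MinRes (Δ : Bldg cs C) (g : G) (K : Finset I) (c : C) : Prop where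
  mem : Δ.δ c (g • c) ∈ WJ cs (K : Set I)
  min : ∀ (x : C) (L : Finset I), Δ.δ x (g • x) ∈ WJ cs (L : Set I) → K.card ≤ L.card

theorem exists_minRes (Δ : Bldg cs C) [Nonempty C] (g : G) : ∃ (K : Finset I) (c : C), MinRes Δ g K c := by
  classical
  obtain ⟨c0⟩ : Nonempty C := inferInstance
  have hex : ∃ n : ℕ, ∃ (x : C) (K : Finset I), Δ.δ x (g • x) ∈ WJ cs (K : Set I) ∧ K.card = n := by
    refine ⟨_, c0, Finset.univ, ?_, rfl⟩
    rw [Finset.coe_univ]
    exact mem_WJ_univ cs _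
  obtain ⟨x, K, hx, hK⟩ := Nat.find_spec hex
  refine ⟨K, x, hx, fun y L hy => ?_⟩
  rw [hK]
  exact Nat.find_min' hex ⟨y, L, hy, rfl⟩

variable (S)

/-- The Sylow `p`-subgroup of the centraliser. -/
theorem MinRes.isSyl (hth : Δ.Thick) (ht : ∀ x y : C, ∃ g : G, g • x = y) {g : G} {K : Finset I} {c : C}
    (h : MinRes Δ g K c) (hp : ¬ p ∣ orderOf g) :
    IsSyl p g (S.UR (Δ.Res (K : Set I) c) ⊓ centralizer ({g} : Set G)) :=
  ⟨inf_le_right, card_UR_inf S hth ht c K h.mem h.min hp⟩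

theorem MinRes.dt (hth : Δ.Thick) (ht : ∀ x y : C, ∃ g : G, g • x = y) {g : G} {K : Finset I} {c : C}
    (h : MinRes Δ g K c) (hp : ¬ p ∣ orderOf g) {i : I} (hi : i ∈ K) : DT S g i := by
  refine ⟨c, _, h.isSyl S hth ht hp, ?_, ?_⟩
  · rintro u ⟨hu, -⟩
    exact hu c (Δ.self_mem_Res _ _)
  · rintro u ⟨hu, -⟩ y hy
    exact S.fix y u (hu y (Δ.Pan_subset_Res (by exact_mod_cast hi) c hy))

theorem card_le_of_par {K K' : Finset I} {w : W} (hw : FixBN.Cox.Par cs (K : Set I) (K' : Set I) w) :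
    K'.card ≤ K.card := by
  have F : OppRes.Cox cs := inferInstance
  have h1 : ∀ j : {j // j ∈ K'}, ∃ k : {k // k ∈ K}, w * cs.simple j = cs.simple k * w := by
    intro j
    obtain ⟨k, hk, e⟩ := hw.fwd j (by exact_mod_cast j.2)
    exact ⟨⟨k, by exact_mod_cast hk⟩, e⟩
  choose f hf using h1
  have hinj : Function.Injective f := by
    intro a b hab
    have h2 : w * cs.simple a = w * cs.simple b := by rw [hf, hf, hab]
    exact Subtype.ext (F.inj (mul_left_cancel h2))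
  have := Finset.card_le_card_of_injective hinj
  simpa using this

include S in
/-- **Moving the minimal stable residue.** -/
theorem MinRes.par (hth : Δ.Thick) (ht : ∀ x y : C, ∃ g : G, g • x = y) {g : G} {K : Finset I} {c : C}
    (h : MinRes Δ g K c) (hp : ¬ p ∣ orderOf g) {K' : Finset I} {w : W}
    (hw : FixBN.Cox.Par cs (K : Set I) (K' : Set I) w) : ∃ d, Δ.δ c d = w ∧ MinRes Δ g K' d := by
  obtain ⟨d, hd, h1⟩ := exists_par S hth ht hw h.mem hp
  exact ⟨d, hd, h1, fun x L hL => (card_le_of_par hw).trans (h.min x L hL)⟩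

end Min

end Cfsg.Agent.H330.ClassRes
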