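import Cfsg.Agent.H330.ClassPath

/-!
# The `p`-regular elements which fix a chamber (helper330)

* `NT Δ x c i` : `x` acts nontrivially on the `i`-panel of `c`;
* `nt_transfer` : if `x` fixes `c` and is nontrivial on the `i`-panel of `c`, `Par cs {i} {j} w`, then there is a chamber `d`
  fixed by `x` with a nontrivial action on the `j`-panel;
* `dt_of_nt` : then `DT S x i`, if elements with three fixed chambers in a panel are trivial on it;
* `dt_of_fix` : simply laced diagrams.
-/

set_option autoImplicit false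
set_option linter.unusedSectionVars false

open scoped Pointwise

namespace Cfsg.Agent.H330.ClassTorus

open Cfsg Subgroup Cfsg.Agent.Tits.Core Cfsg.Agent.Tits.Core.Bldg Cfsg.Agent.Tits.Exchange Cfsg.Agent.FixBN
  Cfsg.Agent.Tits Cfsg.Agent.H330.ClassProd Cfsg.Agent.H330.ClassRes Cfsg.Agent.H330.GowSt

variable {I : Type*} {M : CoxeterMatrix I} {W : Type*} [Group W] {cs : CoxeterSystem M W} {C : Type*}

local prefix:100 "ℓ" => cs.length

variable {Δ : Bldg cs C} {G : Type*} [Group G] [MulAction G C] {p : ℕ}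

/-- `x` acts nontrivially on the `i`-panel of `c` -/
def NT (Δ : Bldg cs C) (x : G) (c : C) (i : I) : Prop := ∃ y ∈ Δ.Pan i c, x • y ≠ y

/-- elements fixing three chambers of an `i`-panel fix it pointwise (for `p`-regular elements) -/
def Free (Δ : Bldg cs C) (G : Type*) [Group G] [MulAction G C] (p : ℕ) (i : I) : Prop :=
  ∀ (x : G) (c y z : C), ¬ p ∣ orderOf x → x • c = c → y ∈ Δ.Pan i c → z ∈ Δ.Pan i c → y ≠ c → z ≠ c → y ≠ z →
    x • y = y → x • z = z → ∀ w ∈ Δ.Pan i c, x • w = w

theorem mem_WJ_empty {w : W} : w ∈ WJ cs (∅ : Set I) ↔ w = 1 := by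
  unfold WJ
  rw [Set.image_empty, Subgroup.closure_empty, Subgroup.mem_bot]

theorem par_empty (w : W) : FixBN.Cox.Par cs ∅ ∅ w where
  fwd := fun j hj => absurd hj (Set.notMem_empty j)
  bwd := fun j hj => absurd hj (Set.notMem_empty j)
  minL := fun u hu => by
    rw [mem_WJ_empty] at hu
    rw [hu, one_mul, cs.length_one, zero_add]
  minR := fun u hu => by
    rw [mem_WJ_empty] at hu
    rw [hu, mul_one, cs.length_one, add_zero]

/-- An element acting nontrivially fixes a chamber next to which it acts nontrivially. -/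
theorem exists_nt {x : G} {c : C} (hx : x • c = c) (hx1 : ∃ y : C, x • y ≠ y) :
    ∃ (d : C) (i : I), x • d = d ∧ NT Δ x d i := by
  by_contra hcon
  push Not at hcon
  have key : ∀ y ∈ Δ.Res Set.univ c, x • y = y := by
    intro y hy
    refine Δ.Res_induction (p := fun y => x • y = y) hx ?_ hy
    intro y _ z i _ hz hy
    by_contra hne
    exact hcon y i hy ⟨z, Or.inr hz, hne⟩
  obtain ⟨y, hy⟩ := hx1
  exact hy (key y (by rw [Res_univ]; trivial))

variable (S : Sys Δ G p)

include S in
theorem nt_proj {x : G} {c d : C} {i j : I} (hc : x • c = c) (hd : x • d = d)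
    (hw : FixBN.Cox.Par cs {i} {j} (Δ.δ c d)) (h : NT Δ x c i) : NT Δ x d j := by
  by_contra hcon
  have hcon' : ∀ z ∈ Δ.Pan j d, x • z = z := by
    intro z hz
    by_contra hne
    exact hcon ⟨z, hz, hne⟩
  obtain ⟨y, hy, hne⟩ := h
  set w := Δ.δ c d with hwdef
  have hyc : Δ.δ c y = cs.simple i := by
    rcases hy with rfl | hy
    · exact absurd hc hne
    · exact hy
  obtain ⟨j', hj', e⟩ := hw.bwd i rfl
  rw [Set.mem_singleton_iff] at hj'
  subst hj'
  have hl1 : ℓ (cs.simple i * w) = ℓ w + 1 := by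
    have := hw.minL (cs.simple i) (simple_mem_WJ cs rfl)
    rw [cs.length_simple] at this
    omega
  have hyd : Δ.δ y d = w * cs.simple j' := by
    rw [← e]
    refine Δ.δ_mul_of (Δ.δ_symm_simple hyc) hwdef.symm ?_
    rw [hl1, cs.length_simple]
    omega
  have hl2 : ℓ (w * cs.simple j') = ℓ w + ℓ (cs.simple j') := by
    rw [← e, hl1, cs.length_simple]
  obtain ⟨z, hz1, hz2⟩ := Δ.exists_between hyd hl2
  have hz3 : x • z = z := hcon' z (Or.inr (Δ.δ_symm_simple hz2))
  have hz4 : Δ.δ (x • y) z = w := by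
    conv_lhs => rw [← hz3]
    rw [S.iso, hz1]
  -- `y = x • y`
  apply hne
  by_contra hne'
  have hxy : Δ.δ y (x • y) = cs.simple i := by
    refine Δ.δ_eq_of_mem_Pan (i := i) (x := c) (Or.inr hyc) (Or.inr ?_) (fun h => hne' h.symm)
    have := S.iso x c y
    rw [hc] at this
    rw [this, hyc]
  have h1 : Δ.δ y z = cs.simple i * w := by
    refine Δ.δ_mul_of hxy hz4 ?_
    rw [hl1, cs.length_simple]
    omega
  rw [hz1] at h1
  have h2 : ℓ w = ℓ w + 1 := by
    conv_lhs => rw [h1]
    exact hl1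
  omega

section Finite

variable [F : OppRes.Cox cs] [Finite G] [Finite C] [Fact p.Prime]

include S in
/-- A `p`-regular element fixing `c` fixes a chamber at each distance from `c`. -/
theorem exists_fixed_at (hth : Δ.Thick) (ht : ∀ x y : C, ∃ g : G, g • x = y) {x : G} {c : C} (hx : x • c = c)
    (hp : ¬ p ∣ orderOf x) (w : W) : ∃ d, Δ.δ c d = w ∧ x • d = d := by
  obtain ⟨d, hd, h⟩ := exists_par S hth ht (par_empty w) (c := c) (g := x) (by
    rw [mem_WJ_empty, hx, Δ.δ_self]) hp
  rw [mem_WJ_empty] at h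
  exact ⟨d, hd, (Δ.eq_of_δ_eq_one h).symm⟩

include S in
theorem nt_transfer (hth : Δ.Thick) (ht : ∀ x y : C, ∃ g : G, g • x = y) {x : G} {c : C} (hx : x • c = c)
    (hp : ¬ p ∣ orderOf x) {i j : I} {w : W} (hw : FixBN.Cox.Par cs {i} {j} w) (h : NT Δ x c i) :
    ∃ d, x • d = d ∧ NT Δ x d j := by
  obtain ⟨d, hd, hxd⟩ := exists_fixed_at S hth ht hx hp w
  exact ⟨d, hxd, nt_proj S hx hxd (by rwa [hd]) h⟩

include S in
/-- transfer along a simple bond -/
theorem nt_three (hth : Δ.Thick) (ht : ∀ x y : C, ∃ g : G, g • x = y) {x : G} {c : C} (hx : x • c = c)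
    (hp : ¬ p ∣ orderOf x) {i j : I} (hij : M i j = 3) (h : NT Δ x c i) : ∃ d, x • d = d ∧ NT Δ x d j := by
  classical
  have hne : i ≠ j := by
    rintro rfl
    rw [M.diagonal] at hij
    omega
  have hpath : ClassPath.IsPath M (fun t => if t = 0 then j else i) (1 + 1) := by
    refine ⟨fun t ht => ?_, fun s t hs ht => by omega⟩
    obtain rfl : t = 0 := by omega
    simp only [zero_add, one_ne_zero, if_true, if_false]
    rw [M.symmetric]
    exact hij
  have hw : FixBN.Cox.Par cs ({i} : Set I) {j} (ClassPath.e cs (fun t => if t = 0 then j else i) (1 + 1)) := by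
    refine ClassPath.par_path hpath (by omega) ?_ ?_ ?_ ?_
    · simpa using hne.symm
    · intro t ht
      simp
    · intro k hk h1
      exact absurd hk (by simpa using h1 0 (by omega))
    · intro k
      simp
  exact nt_transfer S hth ht hx hp hw h

end Finite

section Dt

variable [Fintype I] [DecidableEq I] [Finite W] [Finite G] [Fintype C] [Fact p.Prime]

theorem minRes_of_fix {x : G} {c : C} (hx : x • c = c) : MinRes Δ x ∅ c where
  mem := by
    rw [Finset.coe_empty, mem_WJ_empty, hx, Δ.δ_self]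
  min := fun _ _ _ => by simp

/-- **Nontrivial action on a panel next to a fixed chamber.** -/
theorem dt_of_nt (hth : Δ.Thick) (ht : ∀ x y : C, ∃ g : G, g • x = y) {x : G} {c : C} (hx : x • c = c)
    (hp : ¬ p ∣ orderOf x) {i : I} (hF : Free Δ G p i) (h : NT Δ x c i) : DT S x i := by
  have F : OppRes.Cox cs := inferInstance
  have hsyl := (minRes_of_fix (Δ := Δ) hx).isSyl S hth ht hp
  rw [Finset.coe_empty] at hsyl
  refine ⟨c, _, hsyl, ?_, ?_⟩
  · rintro u ⟨hu, -⟩
    exact hu c (Δ.self_mem_Res _ _)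
  · rintro u ⟨hu, hux⟩ y hy
    have huc : u ∈ S.U c := hu c (Δ.self_mem_Res _ _)
    have huc' := S.fix c u huc
    obtain ⟨d, hd, hxd⟩ := exists_fixed_at S hth ht hx hp (cs.simple i)
    have hcomm := mem_centralizer_singleton_iff.1 hux
    have hne : ∀ z : C, Δ.δ c z = cs.simple i → z ≠ c := fun z hz h => Δ.ne_of_δ_simple hz h.symm
    have hud : Δ.δ c (u • d) = cs.simple i := by
      have := S.iso u c d
      rw [huc'] at this
      rw [this, hd]
    have hxud : x • u • d = u • d := by
      rw [← mul_smul, ← hcomm, mul_smul, hxd]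
    by_cases hdd : u • d = d
    · exact S.pan c d i hd u huc hdd y hy
    · exfalso
      obtain ⟨z, hz, hzx⟩ := h
      exact hzx (hF x c d (u • d) hp hx (Or.inr hd) (Or.inr hud) (hne d hd) (hne _ hud) (fun h => hdd h.symm) hxd
        hxud z hz)

/-- **Simply laced connected diagrams.** -/
theorem dt_of_fix (hth : Δ.Thick) (ht : ∀ x y : C, ∃ g : G, g • x = y)
    (hconn : ∀ i j : I, Relation.ReflTransGen (fun a b => M a b = 3) i j) (hF : ∀ i, Free Δ G p i) {x : G} {c : C}
    (hx : x • c = c) (hx1 : ∃ y : C, x • y ≠ y) (hp : ¬ p ∣ orderOf x) (i : I) : DT S x i := by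
  have F : OppRes.Cox cs := inferInstance
  obtain ⟨d, j, hd, hj⟩ := exists_nt (Δ := Δ) hx hx1
  have key : ∃ d, x • d = d ∧ NT Δ x d i := by
    have h1 := hconn j i
    induction h1 with
    | refl => exact ⟨d, hd, hj⟩
    | tail _ h2 ih =>
      obtain ⟨d', hd', h3⟩ := ih
      exact nt_three S hth ht hd' hp h2 h3
  obtain ⟨d, hd, h⟩ := key
  exact dt_of_nt S hth ht hd hp (hF i) h

end Dt

end Cfsg.Agent.H330.ClassTorus
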