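import Cfsg.Agent.H330.EightTrans
import Cfsg.Agent.Lib.Cores

/-!
# Core-free groups without subgroups of index two and with elementary abelian Sylow 2-subgroups of order eight
-/

set_option autoImplicit false

namespace Cfsg.Agent.H330.EightSimple

open Subgroup Cfsg Cfsg.Agent.H330.EightTrans Cfsg.Agent.Lib.Cores

variable {G : Type*} [Group G]

/-- **the simple normal subgroup** -/
theorem exists_simple [Finite G] (hG : ∀ N : Subgroup G, N.index ≠ 2) (P : Sylow 2 G)
    (h8 : Nat.card (P : Subgroup G) = 8) (hel : ∀ a ∈ (P : Subgroup G), a * a = 1)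
    (hodd : ∀ N : Subgroup G, N.Normal → Odd (Nat.card N) → N = ⊥) (hPn : ¬ (P : Subgroup G).Normal) :
    ∃ K : Subgroup G, K.Normal ∧ IsSimpleGroup K ∧ ¬ IsMulCommutative K ∧ (P : Subgroup G) ≤ K ∧
      centralizer (K : Set G) = ⊥ ∧ (∀ x : G, x * x = 1 → x ∈ K) ∧
      ∀ N : Subgroup G, N.Normal → N ≠ ⊥ → K ≤ N := by
  have : Fact (Nat.Prime 2) := ⟨Nat.prime_two⟩
  -- an involution
  have hPnt : ∃ J ∈ (P : Subgroup G), J ≠ 1 := by
    by_contra hcon
    push Not at hcon
    have : (P : Subgroup G) = ⊥ := by
      rw [eq_bot_iff]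
      intro x hx
      exact mem_bot.2 (hcon x hx)
    rw [this, card_bot] at h8
    exact absurd h8 (by norm_num)
  obtain ⟨J, hJP, hJ1⟩ := hPnt
  have hJJ := hel J hJP
  set K : Subgroup G := normalClosure {J} with hK
  have hKn : K.Normal := normalClosure_normal
  have hJK : J ∈ K := subset_normalClosure rfl
  have hmin : ∀ N : Subgroup G, N.Normal → N ≠ ⊥ → K ≤ N := by
    intro N hN hN1
    have h2 : 2 ∣ Nat.card N := by
      by_contra hcon
      exact hN1 (hodd N hN (Nat.not_even_iff_odd.1 (fun h => hcon (even_iff_two_dvd.1 h))))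
    obtain ⟨x, hx⟩ := exists_prime_orderOf_dvd_card' 2 h2
    have hxx : (x : G) * x = 1 := by
      have := pow_orderOf_eq_one x
      rw [hx, pow_two] at this
      exact congrArg Subtype.val this
    have hx1 : (x : G) ≠ 1 := by
      intro h
      have : x = 1 := Subtype.ext h
      rw [this, orderOf_one] at hx
      exact absurd hx (by norm_num)
    obtain ⟨n, hn⟩ := all_conj hG P h8 hel hxx hJJ hx1 hJ1
    have hJN : J ∈ N := by rw [← hn]; exact hN.conj_mem _ x.2 n
    exact normalClosure_le_normal (by simpa using hJN)
  have hinv : ∀ x : G, x * x = 1 → x ∈ K := by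
    intro x hx
    by_cases hx1 : x = 1
    · rw [hx1]; exact one_mem K
    · obtain ⟨n, hn⟩ := all_conj hG P h8 hel hJJ hx hJ1 hx1
      rw [← hn]
      exact hKn.conj_mem _ hJK n
  have hPK : (P : Subgroup G) ≤ K := fun x hx => hinv x (hel x hx)
  -- no subgroups of index two in `K`
  have hKidx : ∀ N : Subgroup K, N.index ≠ 2 := by
    intro N₀ hN₀
    set R : Subgroup K := sInf {N : Subgroup K | N.index = 2} with hR
    have hRle : ∀ N : Subgroup K, N.index = 2 → R ≤ N := fun N hN => sInf_le hN
    have hRchar : R.Characteristic := by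
      rw [characteristic_iff_map_le]
      intro e
      rw [hR]
      refine le_sInf ?_
      intro N hN
      rw [map_le_iff_le_comap]
      refine sInf_le ?_
      show (N.comap e.toMonoidHom).index = 2
      rw [index_comap_of_surjective N e.surjective]
      exact hN
    have hRn : (R.map K.subtype).Normal := inferInstance
    by_cases hRb : R.map K.subtype = ⊥
    · have hR1 : R = ⊥ := by
        rwa [map_eq_bot_iff_of_injective _ K.subtype_injective] at hRb
      have hsq : ∀ x : K, x * x = 1 := by
        intro x
        have : x * x ∈ R := by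
          rw [hR, mem_sInf]
          intro N hN
          exact mul_self_mem_of_index_two hN x
        rwa [hR1, mem_bot] at this
      have hKp : IsPGroup 2 K := by
        intro x
        exact ⟨1, by rw [pow_one, pow_two]; exact hsq x⟩
      have hKP : K ≤ (P : Subgroup G) := IsPGroup.le_sylow_of_normal hKp P
      apply hPn
      rw [le_antisymm hPK hKP]
      exact hKn
    · have h1 := hmin _ hRn hRb
      have h2 : R = ⊤ := by
        rw [eq_top_iff]
        intro x _
        obtain ⟨y, hy, hyx⟩ := h1 x.2
        have : y = x := Subtype.ext hyx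
        rwa [← this]
      have h3 : N₀ = ⊤ := by
        rw [eq_top_iff, ← h2]; exact hRle _ hN₀
      rw [h3, index_top] at hN₀
      exact absurd hN₀ (by norm_num)
  -- the Sylow 2-subgroup of `K`
  set S : Sylow 2 K := P.subtype hPK with hS
  have hSP : (S : Subgroup K) = (P : Subgroup G).subgroupOf K := rfl
  have h8S : Nat.card (S : Subgroup K) = 8 := by
    rw [hSP, ← h8]
    exact Nat.card_congr (subgroupOfEquivOfLe hPK).toEquiv
  have helS : ∀ a ∈ (S : Subgroup K), a * a = 1 := fun a ha => Subtype.ext (hel _ ha)
  -- the core of `K`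
  have hcoreK : pPrimeCore 2 K = ⊥ := by
    have : (pPrimeCore 2 K).Characteristic := pPrimeCore_characteristic 2
    have h1 : ((pPrimeCore 2 K).map K.subtype).Normal := inferInstance
    have h2 : Odd (Nat.card ((pPrimeCore 2 K).map K.subtype)) := by
      rw [card_map_of_injective K.subtype_injective]
      exact (Nat.coprime_two_right).1 (pPrimeCore_coprime 2)
    have h3 := hodd _ h1 h2
    rwa [map_eq_bot_iff_of_injective _ K.subtype_injective] at h3
  have hKne : Nontrivial K := ⟨⟨⟨J, hJK⟩, 1, fun h => hJ1 (congrArg Subtype.val h)⟩⟩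
  have hsimple : IsSimpleGroup K := by
    refine { exists_pair_ne := hKne.exists_pair_ne, eq_bot_or_eq_top_of_normal := ?_ }
    intro M hM
    by_cases hM2 : 2 ∣ Nat.card M
    · right
      obtain ⟨x, hx⟩ := exists_prime_orderOf_dvd_card' 2 hM2
      have hxx : (x : K) * x = 1 := by
        have := pow_orderOf_eq_one x
        rw [hx, pow_two] at this
        exact congrArg Subtype.val this
      have hx1 : (x : K) ≠ 1 := by
        intro h
        have : x = 1 := Subtype.ext h
        rw [this, orderOf_one] at hx
        exact absurd hx (by norm_num)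
      have hall : ∀ y : K, y * y = 1 → y ∈ M := by
        intro y hy
        by_cases hy1 : y = 1
        · rw [hy1]; exact one_mem M
        · obtain ⟨n, hn⟩ := all_conj hKidx S h8S helS hxx hy hx1 hy1
          rw [← hn]; exact hM.conj_mem _ x.2 n
      -- `M` contains all `G`-conjugates of `J`
      have hKM : K ≤ M.map K.subtype := by
        refine (closure_le _).2 ?_
        intro y hy
        obtain ⟨j, hj, hyj⟩ := Group.mem_conjugatesOfSet_iff.1 hy
        rw [Set.mem_singleton_iff] at hj
        subst hj
        obtain ⟨c, hc⟩ := isConj_iff.1 hyj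
        have hyy : y * y = 1 := by
          rw [← hc]
          calc c * j * c⁻¹ * (c * j * c⁻¹) = c * (j * j) * c⁻¹ := by group
            _ = 1 := by rw [hJJ]; group
        exact ⟨⟨y, hinv y hyy⟩, hall _ (Subtype.ext hyy), rfl⟩
      rw [eq_top_iff]
      intro z _
      obtain ⟨w, hw, hwz⟩ := hKM z.2
      have : w = z := Subtype.ext hwz
      rwa [← this]
    · left
      have h1 : M ≤ pPrimeCore 2 K := le_pPrimeCore hM ((Nat.coprime_comm).1
        ((Nat.Prime.coprime_iff_not_dvd Nat.prime_two).2 hM2))
      rw [hcoreK] at h1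
      exact le_bot_iff.1 h1
  have hnc : ¬ IsMulCommutative K := by
    intro hcom
    apply hPn
    -- `K` abelian simple contains `P` of order `8`
    have h1 : (S : Subgroup K).Normal := by
      constructor
      intro n hn g
      have : g * n * g⁻¹ = n := by
        rw [hcom.is_comm.comm g n, mul_inv_cancel_right]
      rwa [this]
    rcases h1.eq_bot_or_eq_top with h2 | h2
    · rw [h2, card_bot] at h8S; exact absurd h8S (by norm_num)
    · have hKP : K ≤ (P : Subgroup G) := by
        intro x hx
        have : (⟨x, hx⟩ : K) ∈ (S : Subgroup K) := by rw [h2]; exact mem_top _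
        exact this
      rw [le_antisymm hPK hKP]
      exact hKn
  refine ⟨K, hKn, hsimple, hnc, hPK, ?_, hinv, hmin⟩
  by_contra hcon
  have hcn : (centralizer (K : Set G)).Normal := inferInstance
  have h1 := hmin _ hcn hcon
  apply hnc
  exact ⟨⟨fun a b => Subtype.ext ((mem_centralizer_iff.1 (h1 a.2) b b.2).symm)⟩⟩

end Cfsg.Agent.H330.EightSimple
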