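import Cfsg.Agent.Cit.Nil.EEight
import Cfsg.Agent.ThreePrime.Transfer

/-!
# Elementary abelian Sylow 2-subgroups of order eight
-/

set_option autoImplicit false

namespace Cfsg.Agent.H330.EightTrans

open Subgroup MulAction

variable {Y : Type*} [Group Y]

/-- a hyperplane missing an element of an elementary abelian group -/
theorem exists_hyper [Finite Y] (P : Subgroup Y) (hel : ∀ a ∈ P, a * a = 1)
    {s : Y} (hs : s ∈ P) (hs1 : s ≠ 1) : ∃ Q : Subgroup Y, Q ≤ P ∧ Q.relIndex P = 2 ∧ s ∉ Q := by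
  have hcomm : ∀ a ∈ P, ∀ b ∈ P, a * b = b * a := by
    intro a ha b hb
    have h1 := hel (a * b) (mul_mem ha hb)
    have h2 := hel a ha
    have h3 := hel b hb
    calc a * b = a * (a * b * (a * b)) * b := by rw [h1, mul_one]
      _ = (a * a) * (b * a) * (b * b) := by group
      _ = b * a := by rw [h2, h3, one_mul, mul_one]
  have hfin : Set.Finite {Q : Subgroup Y | Q ≤ P ∧ s ∉ Q} := Set.toFinite _
  have hne : {Q : Subgroup Y | Q ≤ P ∧ s ∉ Q}.Nonempty := ⟨⊥, bot_le, fun h => hs1 (mem_bot.1 h)⟩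
  obtain ⟨Q, hQ⟩ := hfin.exists_maximal hne
  have hQP := hQ.prop.1
  have hsQ := hQ.prop.2
  have hmax : ∀ R : Subgroup Y, R ≤ P → s ∉ R → Q ≤ R → R = Q := fun R h1 h2 h3 =>
    le_antisymm (hQ.le_of_ge ⟨h1, h2⟩ h3) h3
  have key : ∀ x ∈ P, x ∉ Q → s * x ∈ Q := by
    intro x hx hxQ
    -- the subgroup `Q ∪ x Q`
    let R : Subgroup Y :=
      { carrier := {y | y ∈ P ∧ (y ∈ Q ∨ x * y ∈ Q)}
        one_mem' := ⟨one_mem P, Or.inl (one_mem Q)⟩
        mul_mem' := by
          rintro a b ⟨haP, ha⟩ ⟨hbP, hb⟩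
          refine ⟨mul_mem haP hbP, ?_⟩
          rcases ha with ha | ha <;> rcases hb with hb | hb
          · exact Or.inl (mul_mem ha hb)
          · right
            rw [← mul_assoc, hcomm x hx a haP, mul_assoc]
            exact mul_mem ha hb
          · right
            rw [← mul_assoc]
            exact mul_mem ha hb
          · left
            have h2 : a * b = (x * a) * (x * b) := by
              rw [hcomm x hx a haP]
              calc a * b = a * (1 * b) := by rw [one_mul]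
                _ = a * (x * x * b) := by rw [hel x hx]
                _ = a * x * (x * b) := by group
            rw [h2]
            exact mul_mem ha hb
        inv_mem' := by
          rintro a ⟨haP, ha⟩
          have h1 : a⁻¹ = a := inv_eq_of_mul_eq_one_left (hel a haP)
          show a⁻¹ ∈ P ∧ (a⁻¹ ∈ Q ∨ x * a⁻¹ ∈ Q)
          rw [h1]
          exact ⟨haP, ha⟩ }
    have hRP : R ≤ P := fun y hy => hy.1
    have hQR : Q ≤ R := fun y hy => ⟨hQP hy, Or.inl hy⟩
    by_contra hcon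
    have hsR : s ∉ R := by
      rintro ⟨-, h | h⟩
      · exact hsQ h
      · rw [hcomm x hx s hs] at h
        exact hcon h
    have h1 := hmax R hRP hsR hQR
    apply hxQ
    rw [← h1]
    exact ⟨hx, Or.inr (by rw [hel x hx]; exact one_mem Q)⟩
  refine ⟨Q, hQP, ?_, hsQ⟩
  rw [relIndex, index_eq_two_iff]
  refine ⟨⟨s, hs⟩, fun b => ?_⟩
  change Xor ((b : Y) * s ∈ Q) ((b : Y) ∈ Q)
  by_cases hb : (b : Y) ∈ Q
  · refine Or.inr ⟨hb, fun h => hsQ ?_⟩
    have : s = (b : Y)⁻¹ * ((b : Y) * s) := by group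
    rw [this]
    exact mul_mem (inv_mem hb) h
  · refine Or.inl ⟨?_, hb⟩
    rw [hcomm b b.2 s hs]
    exact key b b.2 hb

open Cfsg.Agent.Cit.Nil.EEight in
/-- In a group without subgroups of index two, the normalizer of an elementary abelian Sylow 2-subgroup of order eight
is transitive on its involutions. -/
theorem exists_conj [Finite Y] (hG : ∀ N : Subgroup Y, N.index ≠ 2) (S : Sylow 2 Y)
    (h8 : Nat.card (S : Subgroup Y) = 8)
    (hel : ∀ a ∈ (S : Subgroup Y), a * a = 1) {a b : Y} (ha : a ∈ (S : Subgroup Y)) (hb : b ∈ (S : Subgroup Y))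
    (ha1 : a ≠ 1) (hb1 : b ≠ 1) :
    ∃ n ∈ normalizer ((S : Subgroup Y) : Set Y), n * a * n⁻¹ = b := by
  have : Fact (Nat.Prime 2) := ⟨Nat.prime_two⟩
  have hcomm : ∀ a ∈ (S : Subgroup Y), ∀ b ∈ (S : Subgroup Y), a * b = b * a := by
    intro a ha b hb
    have h1 := hel (a * b) (mul_mem ha hb)
    have h2 := hel a ha
    have h3 := hel b hb
    calc a * b = a * (a * b * (a * b)) * b := by rw [h1, mul_one]
      _ = (a * a) * (b * a) * (b * b) := by group
      _ = b * a := by rw [h2, h3, one_mul, mul_one]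
  let _ := act (S : Subgroup Y)
  have hcard : Nat.card {s : Y // s ∈ (S : Subgroup Y) ∧ s ≠ 1} = 7 := by
    have h1 : ({s : Y | s ∈ (S : Subgroup Y) ∧ s ≠ 1}).ncard = 7 := by
      have h2 : {s : Y | s ∈ (S : Subgroup Y) ∧ s ≠ 1} = ((S : Subgroup Y) : Set Y) \ {1} := rfl
      rw [h2, Set.ncard_sdiff_singleton_of_mem (one_mem (S : Subgroup Y))]
      have h3 : ((S : Subgroup Y) : Set Y).ncard = 8 := h8
      rw [h3]
    exact h1
  have hmem : ∀ n : Y, (∀ c ∈ (S : Subgroup Y), n * c * n⁻¹ ∈ (S : Subgroup Y)) →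
      n ∈ normalizer ((S : Subgroup Y) : Set Y) := by
    intro n hn
    have heq : (S : Subgroup Y).map (MulAut.conj n).toMonoidHom = S := by
      apply eq_of_le_of_card_ge
      · rintro _ ⟨x, hx, rfl⟩; exact hn x hx
      · rw [card_map_of_injective (MulAut.conj n).injective]
    rw [mem_normalizer_iff]
    intro x
    constructor
    · intro hx; exact hn x hx
    · intro hx
      have hx' : n * x * n⁻¹ ∈ (S : Subgroup Y).map (MulAut.conj n).toMonoidHom := by rw [heq]; exact hx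
      obtain ⟨y, hy, hyx⟩ := hx'
      have : y = x := (MulAut.conj n).injective hyx
      rwa [← this]
  have hfix : ∀ x : {s : Y // s ∈ (S : Subgroup Y) ∧ s ≠ 1},
      (orbit (normalizer ((S : Subgroup Y) : Set Y)) x).ncard ≠ 1 := by
    intro x hx
    obtain ⟨Q, hQS, hQi, hxQ⟩ := exists_hyper (S : Subgroup Y) hel x.2.1 x.2.2
    obtain ⟨g, hg, hgc⟩ := ThreePrime.Transfer.exists_conj S hQS hQi hG x.2.1 hxQ (by
      intro t ht ht'
      have h0 : orderOf (x : Y) ∣ 2 := orderOf_dvd_of_pow_eq_one (by rw [pow_two]; exact hel _ x.2.1)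
      have h00 := Nat.le_of_dvd (by norm_num) h0
      have h1 : t ≠ 1 := by rintro rfl; exact ht' (one_mem _)
      have h2 : 0 < orderOf t := orderOf_pos t
      have h3 : orderOf t ≠ 1 := fun h => h1 (orderOf_eq_one_iff.1 h)
      omega)
    have hgn : g ∈ normalizer ((S : Subgroup Y) : Set Y) := hmem g (fun c hc => hgc c hc (hcomm c hc _ x.2.1))
    obtain ⟨y, hy⟩ := Set.ncard_eq_one.1 hx
    have h1 : x = y := by
      have := mem_orbit_self (M := normalizer ((S : Subgroup Y) : Set Y)) x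
      rw [hy] at this
      exact this
    have h2 : (⟨g, hgn⟩ : normalizer ((S : Subgroup Y) : Set Y)) • x = y := by
      have := mem_orbit x (⟨g, hgn⟩ : normalizer ((S : Subgroup Y) : Set Y))
      rw [hy] at this
      exact this
    rw [← h1] at h2
    have h3 : g * x * g⁻¹ = x := congrArg Subtype.val h2
    rw [h3] at hg
    exact hxQ hg
  have hodd : ∀ x : {s : Y // s ∈ (S : Subgroup Y) ∧ s ≠ 1},
      Odd (orbit (normalizer ((S : Subgroup Y) : Set Y)) x).ncard := by
    intro x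
    have h1 : (orbit (normalizer ((S : Subgroup Y) : Set Y)) x).ncard =
        (stabilizer (normalizer ((S : Subgroup Y) : Set Y)) x).index := by
      rw [index_stabilizer]
    rw [h1, ← Nat.not_even_iff_odd, even_iff_two_dvd]
    have h2 : (S : Subgroup Y).subgroupOf (normalizer ((S : Subgroup Y) : Set Y)) ≤
        stabilizer (normalizer ((S : Subgroup Y) : Set Y)) x := by
      intro n hn
      rw [mem_stabilizer_iff]
      apply Subtype.ext
      show (n : Y) * x * (n : Y)⁻¹ = x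
      rw [hcomm n hn x x.2.1, mul_inv_cancel_right]
    have h3 : ¬ 2 ∣ ((S : Subgroup Y).subgroupOf (normalizer ((S : Subgroup Y) : Set Y))).index := by
      intro h
      apply S.not_dvd_index
      exact h.trans (relIndex_dvd_index_of_le le_normalizer)
    exact fun h => h3 (h.trans (index_dvd_of_le h2))
  obtain ⟨n, hn⟩ := trans_seven hcard hodd hfix ⟨a, ha, ha1⟩ ⟨b, hb, hb1⟩
  exact ⟨n, n.2, congrArg Subtype.val hn⟩

/-- all involutions are conjugate -/
theorem all_conj [Finite Y] (hG : ∀ N : Subgroup Y, N.index ≠ 2) (S : Sylow 2 Y)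
    (h8 : Nat.card (S : Subgroup Y) = 8)
    (hel : ∀ a ∈ (S : Subgroup Y), a * a = 1) {x y : Y} (hx : x * x = 1) (hy : y * y = 1)
    (hx1 : x ≠ 1) (hy1 : y ≠ 1) : ∃ n : Y, n * x * n⁻¹ = y := by
  have : Fact (Nat.Prime 2) := ⟨Nat.prime_two⟩
  have key : ∀ x : Y, x * x = 1 → ∃ g : Y, g * x * g⁻¹ ∈ (S : Subgroup Y) := by
    intro x hx
    have h1 : IsPGroup 2 (zpowers x) := by
      intro z
      obtain ⟨k, hk⟩ := mem_zpowers_iff.1 z.2
      refine ⟨1, Subtype.ext ?_⟩
      show (z : Y) ^ (2 ^ 1) = 1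
      rw [← hk, pow_one, ← zpow_natCast, ← zpow_mul, mul_comm, zpow_mul, zpow_natCast, pow_two, hx, one_zpow]
    obtain ⟨R, hR⟩ := h1.exists_le_sylow
    obtain ⟨g, hg⟩ := MulAction.exists_smul_eq Y R S
    refine ⟨g, ?_⟩
    rw [← hg]
    exact Subgroup.smul_mem_pointwise_smul x (MulAut.conj g) R.1 (hR (mem_zpowers x))
  obtain ⟨g, hg⟩ := key x hx
  obtain ⟨h, hh⟩ := key y hy
  have n1 : ∀ (g x : Y), x ≠ 1 → g * x * g⁻¹ ≠ 1 := by
    intro g x hx h
    apply hx
    calc x = g⁻¹ * (g * x * g⁻¹) * g := by group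
      _ = 1 := by rw [h]; group
  obtain ⟨n, -, hn⟩ := exists_conj hG S h8 hel hg hh (n1 _ _ hx1) (n1 _ _ hy1)
  refine ⟨h⁻¹ * n * g, ?_⟩
  calc h⁻¹ * n * g * x * (h⁻¹ * n * g)⁻¹ = h⁻¹ * (n * (g * x * g⁻¹) * n⁻¹) * h := by group
    _ = h⁻¹ * (h * y * h⁻¹) * h := by rw [hn]
    _ = y := by group

/-- an involution without fixed points on a group of odd order inverts it -/
theorem inverts [Finite Y] {x : Y} (hx : x * x = 1) (N : Subgroup Y) (hN : ∀ n ∈ N, x * n * x⁻¹ ∈ N)
    (hfix : ∀ n ∈ N, n * x = x * n → n = 1) {n : Y} (hn : n ∈ N) : x * n * x⁻¹ = n⁻¹ := by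
  let f : N → N := fun m => ⟨(m : Y)⁻¹ * (x * m * x⁻¹), mul_mem (inv_mem m.2) (hN m m.2)⟩
  have hinj : Function.Injective f := by
    intro a b hab
    have h1 : (a : Y)⁻¹ * (x * a * x⁻¹) = (b : Y)⁻¹ * (x * b * x⁻¹) := congrArg Subtype.val hab
    have h2 : (b : Y) * (a : Y)⁻¹ = 1 := by
      apply hfix _ (mul_mem b.2 (inv_mem a.2))
      have h3 : (b : Y) * (a : Y)⁻¹ * x * a = x * b := by
        calc (b : Y) * (a : Y)⁻¹ * x * a = (b : Y) * ((a : Y)⁻¹ * (x * a * x⁻¹)) * x := by group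
          _ = (b : Y) * ((b : Y)⁻¹ * (x * b * x⁻¹)) * x := by rw [h1]
          _ = _ := by group
      calc (b : Y) * (a : Y)⁻¹ * x = ((b : Y) * (a : Y)⁻¹ * x * a) * (a : Y)⁻¹ := by group
        _ = x * b * (a : Y)⁻¹ := by rw [h3]
        _ = _ := by group
    exact Subtype.ext (mul_inv_eq_one.1 h2).symm
  obtain ⟨m, hm⟩ := (Finite.injective_iff_surjective.1 hinj) ⟨n, hn⟩
  have h1 : (m : Y)⁻¹ * (x * m * x⁻¹) = n := congrArg Subtype.val hm
  have h2 : x⁻¹ = x := inv_eq_of_mul_eq_one_left hx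
  rw [← h1, h2]
  calc x * ((m : Y)⁻¹ * (x * m * x)) * x = x * (m : Y)⁻¹ * x * m * (x * x) := by group
    _ = x * (m : Y)⁻¹ * x * m := by rw [hx, mul_one]
    _ = x⁻¹ * (m : Y)⁻¹ * x⁻¹ * m := by rw [h2]
    _ = _ := by group

/-- odd normal subgroups are trivial if one involution has no fixed points on them -/
theorem odd_normal [Finite Y] (hG : ∀ N : Subgroup Y, N.index ≠ 2) (S : Sylow 2 Y)
    (h8 : Nat.card (S : Subgroup Y) = 8)
    (hel : ∀ a ∈ (S : Subgroup Y), a * a = 1) {J : Y} (hJ : J ∈ (S : Subgroup Y)) (hJ1 : J ≠ 1)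
    {N : Subgroup Y} (hN : N.Normal) (hodd : Odd (Nat.card N)) (hfix : ∀ n ∈ N, n * J = J * n → n = 1) : N = ⊥ := by
  have hcomm : ∀ a ∈ (S : Subgroup Y), ∀ b ∈ (S : Subgroup Y), a * b = b * a := by
    intro a ha b hb
    have h1 := hel (a * b) (mul_mem ha hb)
    have h2 := hel a ha
    have h3 := hel b hb
    calc a * b = a * (a * b * (a * b)) * b := by rw [h1, mul_one]
      _ = (a * a) * (b * a) * (b * b) := by group
      _ = b * a := by rw [h2, h3, one_mul, mul_one]
  have hfix' : ∀ x ∈ (S : Subgroup Y), x ≠ 1 → ∀ n ∈ N, n * x = x * n → n = 1 := by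
    intro x hx hx1 n hn hnx
    obtain ⟨g, -, hg⟩ := exists_conj hG S h8 hel hx hJ hx1 hJ1
    have h1 := hfix (g * n * g⁻¹) (hN.conj_mem n hn g) (by
      rw [← hg]
      calc g * n * g⁻¹ * (g * x * g⁻¹) = g * (n * x) * g⁻¹ := by group
        _ = g * (x * n) * g⁻¹ := by rw [hnx]
        _ = _ := by group)
    calc n = g⁻¹ * (g * n * g⁻¹) * g := by group
      _ = 1 := by rw [h1]; group
  have hinv : ∀ x ∈ (S : Subgroup Y), x ≠ 1 → ∀ n ∈ N, x * n * x⁻¹ = n⁻¹ := fun x hx hx1 n hn =>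
    inverts (hel x hx) N (fun m hm => hN.conj_mem m hm x) (hfix' x hx hx1) hn
  -- another involution
  have hex : ∃ v ∈ (S : Subgroup Y), v ≠ 1 ∧ v ≠ J := by
    by_contra hcon
    push Not at hcon
    have h1 : ((S : Subgroup Y) : Set Y) ⊆ {1, J} := by
      intro x hx
      by_cases h : x = 1
      · exact Or.inl h
      · exact Or.inr (hcon x hx h)
    have h2 : ((S : Subgroup Y) : Set Y).ncard ≤ 2 := by
      refine (Set.ncard_le_ncard h1 (Set.toFinite _)).trans ?_
      refine (Set.ncard_insert_le 1 {J}).trans ?_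
      rw [Set.ncard_singleton]
    have h3 : ((S : Subgroup Y) : Set Y).ncard = 8 := h8
    omega
  obtain ⟨v, hv, hv1, hvJ⟩ := hex
  rw [eq_bot_iff]
  intro n hn
  rw [mem_bot]
  have h1 := hinv J hJ hJ1 n hn
  have h2 := hinv v hv hv1 n⁻¹ (inv_mem hn)
  have hvJ1 : v * J ≠ 1 := by
    intro h
    apply hvJ
    have : J⁻¹ = J := inv_eq_of_mul_eq_one_left (hel J hJ)
    rw [← this]
    exact eq_inv_of_mul_eq_one_left h
  have h3 := hinv (v * J) (mul_mem hv hJ) hvJ1 n hn
  have h4 : v * J * n * (v * J)⁻¹ = n := by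
    calc v * J * n * (v * J)⁻¹ = v * (J * n * J⁻¹) * v⁻¹ := by group
      _ = v * n⁻¹ * v⁻¹ := by rw [h1]
      _ = n⁻¹⁻¹ := h2
      _ = n := inv_inv n
  rw [h4] at h3
  have h5 : n ^ 2 = 1 := by
    rw [pow_two]
    nth_rewrite 1 [h3]
    exact inv_mul_cancel n
  have h6 : orderOf n ∣ 2 := orderOf_dvd_of_pow_eq_one h5
  have h7 : orderOf n ∣ Nat.card N := by
    rw [← Subgroup.orderOf_mk n hn]
    exact orderOf_dvd_natCard _
  have h8' : orderOf n ∣ 1 := by
    have hc : Nat.Coprime 2 (Nat.card N) := (Nat.coprime_two_left).2 hodd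
    have := Nat.dvd_gcd h6 h7
    rwa [hc] at this
  exact orderOf_eq_one_iff.1 (Nat.dvd_one.1 h8')

end Cfsg.Agent.H330.EightTrans
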