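import Cfsg.Agent.H114.StRegular
import Cfsg.Agent.FixBN.Disp
import Cfsg.Agent.FixBN.OfBN
import Cfsg.Agent.Tits.Chart
import Cfsg.Agent.Tits.Opp

/-!
# The Steinberg character of a finite group with a split (B,N)-pair of characteristic `p` (helper330)

* `card_U` : `|U x| = q_w |U x ∩ U y|`, `w = δ x y`;
* `card_sph_mul` : `q_{vw} = q_v q_w` if the lengths add;
* `exists_factor` : `U c = UR(R) (U c ∩ U d)` for a residue `R` of `c` and `d` the projection of `c` to a residue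
  opposite to `R`;
* `value` : the value of the Steinberg character at the `p`-regular elements is `± |C(g)|_p`.
-/

set_option autoImplicit false
set_option linter.unusedSectionVars false

open scoped Pointwise

namespace Cfsg.Agent.H330.GowSt

open Cfsg Cfsg.Agent.Tits.Core Cfsg.Agent.Tits.Core.Bldg Cfsg.Agent.Tits.Exchange Cfsg.Agent.FixBN
  Cfsg.Agent.Tits Cfsg.Agent.H114.StValue

variable {I : Type*} {M : CoxeterMatrix I} {W : Type*} [Group W] {cs : CoxeterSystem M W} {C : Type*}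

local prefix:100 "ℓ" => cs.length

section Count

variable (Δ : Bldg cs C)

/-- the number of chambers at distance `w` -/
noncomputable def sph (x : C) (w : W) : ℕ := Nat.card {z // Δ.δ x z = w}

theorem sph_pos [Finite C] (x : C) (w : W) : 0 < sph Δ x w := by
  obtain ⟨y, hy⟩ := Δ.exists_δ x w
  have : Nonempty {z // Δ.δ x z = w} := ⟨⟨y, hy⟩⟩
  exact Nat.card_pos

theorem sph_smul {G : Type*} [Group G] [MulAction G C] (hiso : ∀ (g : G) (x y : C), Δ.δ (g • x) (g • y) = Δ.δ x y)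
    (g : G) (x : C) (w : W) : sph Δ (g • x) w = sph Δ x w := by
  refine Nat.card_congr ⟨fun z => ⟨g⁻¹ • z.1, ?_⟩, fun z => ⟨g • z.1, ?_⟩, fun z => ?_, fun z => ?_⟩
  · rw [← hiso g, smul_inv_smul]; exact z.2
  · rw [hiso]; exact z.2
  · exact Subtype.ext (smul_inv_smul g z.1)
  · exact Subtype.ext (inv_smul_smul g z.1)

/-- **`q_{vw} = q_v q_w` if the lengths add.** -/
theorem sph_mul [Finite C] (x : C) {v w : W} (h : ℓ (v * w) = ℓ v + ℓ w) (hc : ∀ y y' : C, sph Δ y w = sph Δ y' w) :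
    sph Δ x (v * w) = sph Δ x v * sph Δ x w := by
  have e : {z // Δ.δ x z = v * w} ≃ Σ y : {y // Δ.δ x y = v}, {z // Δ.δ y.1 z = w} := by
    refine Equiv.ofBijective (fun z => ⟨⟨(Δ.exists_between z.2 h).choose, (Δ.exists_between z.2 h).choose_spec.1⟩,
      ⟨z.1, (Δ.exists_between z.2 h).choose_spec.2⟩⟩) ⟨?_, ?_⟩
    · intro a b hab
      have h1 : ∀ (k k' : Σ y : {y // Δ.δ x y = v}, {z // Δ.δ y.1 z = w}), k = k' → k.2.1 = k'.2.1 := by
        rintro _ _ rfl; rfl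
      exact Subtype.ext (h1 _ _ hab)
    · rintro ⟨⟨y, hy⟩, ⟨z, hz⟩⟩
      have hxz : Δ.δ x z = v * w := Δ.δ_mul_of hy hz h
      refine ⟨⟨z, hxz⟩, ?_⟩
      have h1 : (Δ.exists_between hxz h).choose = y :=
        Δ.between_unique h (Δ.exists_between hxz h).choose_spec.1 (Δ.exists_between hxz h).choose_spec.2 hy hz
      subst h1
      rfl
  have : Fintype {y // Δ.δ x y = v} := Fintype.ofFinite _
  unfold sph
  rw [Nat.card_congr e, Nat.card_sigma]
  have h2 : ∀ y : {y // Δ.δ x y = v}, Nat.card {z // Δ.δ y.1 z = w} = sph Δ x w := fun y => hc y.1 x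
  simp only [h2]
  rw [Finset.sum_const, Finset.card_univ, smul_eq_mul, ← Nat.card_eq_fintype_card]
  rfl

end Count

variable {Δ : Bldg cs C} {G : Type*} [Group G] [MulAction G C] {p : ℕ} (S : Sys Δ G p)

/-- Orbit and stabiliser. -/
theorem card_U [F : OppRes.Cox cs] [Finite G] (x y : C) :
    Nat.card (S.U x) = sph Δ x (Δ.δ x y) * Nat.card ↥(S.U x ⊓ S.U y) := by
  classical
  have := Fintype.ofFinite G
  have horb : (MulAction.orbit (S.U x) y : Set C) = {z | Δ.δ x z = Δ.δ x y} := by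
    ext z
    constructor
    · rintro ⟨u, rfl⟩
      change Δ.δ x ((u : G) • y) = _
      have h := S.iso (u : G) x y
      rwa [S.fix x u u.2] at h
    · intro hz
      obtain ⟨u, hu, huz⟩ := S.exists_move (x := x) (z := y) (z' := z) (Eq.symm hz)
      exact ⟨⟨u, hu⟩, huz⟩
  have h1 := Subgroup.card_eq_card_quotient_mul_card_subgroup (MulAction.stabilizer (S.U x) y)
  have h2 : Nat.card (S.U x ⧸ MulAction.stabilizer (S.U x) y) = sph Δ x (Δ.δ x y) := by
    rw [← Nat.card_congr (MulAction.orbitEquivQuotientStabilizer (S.U x) y)]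
    unfold sph
    rw [horb]
    rfl
  have h3 : Nat.card (MulAction.stabilizer (S.U x) y) = Nat.card ↥(S.U x ⊓ S.U y) := by
    refine Nat.card_congr ⟨fun u => ⟨u.1, u.1.2, S.mem_U_of_fix u.1.2 u.2⟩,
      fun u => ⟨⟨u.1, u.2.1⟩, S.fix y u.1 u.2.2⟩, fun u => rfl, fun u => rfl⟩
  rw [h1, h2, h3]

section Factor

variable [F : OppRes.Cox cs] [Finite G] [Finite C]

theorem U_inf_opp {x y : C} (h : Δ.Opp x y) : S.U x ⊓ S.U y = ⊥ := by
  rw [eq_bot_iff]
  rintro u ⟨hu, hu'⟩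
  exact Subgroup.mem_bot.2 (S.free x y h u hu (S.fix y u hu'))

/-- `U c = UR(R) (U c ∩ U d)`. -/
theorem exists_factor (hth : Δ.Thick) (ht : ∀ x y : C, ∃ g : G, g • x = y) {K : Set I} {c d : C}
    (hd : Δ.δ c d = OppRes.dJ cs K) {u : G} (hu : u ∈ S.U c) :
    ∃ v ∈ S.UR (Δ.Res K c), ∃ l ∈ S.U c, l ∈ S.U d ∧ u = v * l := by
  classical
  have hcard : ∀ (w : W) (y y' : C), sph Δ y w = sph Δ y' w := by
    intro w y y'
    obtain ⟨g, rfl⟩ := ht y y'
    exact (sph_smul Δ S.iso g y w).symm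
  obtain ⟨y, hy⟩ := Δ.exists_δ c (wJ cs K)
  have hyc : Δ.δ y c = wJ cs K := by rw [Δ.symm c y, hy, F.wJ_inv]
  have hyd : Δ.Opp y d := by
    have h1 := F.len_mul_dJ (F.wJ_mem K)
    have h2 := Δ.δ_mul_of hyc hd h1
    rw [F.wJ_mul_dJ] at h2
    exact h2
  have hUR : S.UR (Δ.Res K c) = S.U c ⊓ S.U y := by
    apply le_antisymm
    · intro v hv
      exact ⟨hv c (Δ.self_mem_Res _ _), hv y (by rw [mem_Res, hy]; exact F.wJ_mem K)⟩
    · rintro v ⟨hv, hv'⟩
      exact S.mem_UR_of_fix hth hv hy (S.fix y v hv')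
  have hdisj : ∀ v ∈ S.UR (Δ.Res K c), v ∈ S.U d → v = 1 := by
    intro v hv hv'
    rw [hUR] at hv
    exact S.free y d hyd v hv.2 (S.fix d v hv')
  -- the orders
  obtain ⟨f, hf⟩ := Δ.exists_δ c (w0 cs)
  have h0 := card_U S c f
  rw [U_inf_opp S (show Δ.Opp c f from hf), Subgroup.card_bot, mul_one, hf] at h0
  have h1 := card_U S c y
  have h2 := card_U S c d
  rw [hy, ← hUR] at h1
  rw [hd] at h2
  have h3 : sph Δ c (w0 cs) = sph Δ c (wJ cs K) * sph Δ c (OppRes.dJ cs K) := by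
    rw [← F.wJ_mul_dJ K]
    exact sph_mul Δ c (F.len_mul_dJ (F.wJ_mem K)) (hcard _)
  have h4 : Nat.card ↥(S.UR (Δ.Res K c)) * Nat.card ↥(S.U c ⊓ S.U d) = Nat.card (S.U c) := by
    have h5 := sph_pos Δ c (wJ cs K)
    have h6 := sph_pos Δ c (OppRes.dJ cs K)
    apply Nat.eq_of_mul_eq_mul_left (Nat.mul_pos h5 h6)
    calc sph Δ c (wJ cs K) * sph Δ c (OppRes.dJ cs K) *
          (Nat.card ↥(S.UR (Δ.Res K c)) * Nat.card ↥(S.U c ⊓ S.U d))
        = (sph Δ c (wJ cs K) * Nat.card ↥(S.UR (Δ.Res K c))) *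
          (sph Δ c (OppRes.dJ cs K) * Nat.card ↥(S.U c ⊓ S.U d)) := by ring
      _ = Nat.card (S.U c) * Nat.card (S.U c) := by rw [← h1, ← h2]
      _ = _ := by rw [← h3, ← h0]
  -- the product map is bijective
  let φ : ↥(S.UR (Δ.Res K c)) × ↥(S.U c ⊓ S.U d) → S.U c := fun z =>
    ⟨(z.1 : G) * z.2, mul_mem (z.1.2 c (Δ.self_mem_Res _ _)) z.2.2.1⟩
  have hinj : Function.Injective φ := by
    rintro ⟨a, b⟩ ⟨a', b'⟩ h
    have h5 : (a : G) * b = a' * b' := congrArg Subtype.val h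
    have h6 : (a' : G)⁻¹ * a = b' * (b : G)⁻¹ := by
      rw [inv_mul_eq_iff_eq_mul, ← mul_assoc, ← h5, mul_inv_cancel_right]
    have h7 : (a' : G)⁻¹ * a = 1 := by
      apply hdisj _ (mul_mem (inv_mem a'.2) a.2)
      rw [h6]
      exact mul_mem b'.2.2 (inv_mem b.2.2)
    have h8 : a = a' := Subtype.ext (inv_mul_eq_one.1 h7).symm
    subst h8
    have h9 : b = b' := Subtype.ext (mul_left_cancel h5)
    rw [h9]
  have hsurj : Function.Surjective φ := by
    have hb : Nat.card (↥(S.UR (Δ.Res K c)) × ↥(S.U c ⊓ S.U d)) = Nat.card (S.U c) := by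
      rw [Nat.card_prod, h4]
    exact ((Nat.bijective_iff_injective_and_card φ).2 ⟨hinj, hb⟩).2
  obtain ⟨⟨v, l⟩, h⟩ := hsurj ⟨u, hu⟩
  exact ⟨v, v.2, l, l.2.1, l.2.2, (congrArg Subtype.val h).symm⟩

end Factor

section Levi

variable [F : OppRes.Cox cs] [Finite G] [Finite C]

/-- The chamber of the opposite residue nearest to a chamber of `R`. -/
theorem exists_near {K : Set I} {c a0 : C} (ha0 : Δ.Opp c a0) {c' : C} (hc' : c' ∈ Δ.Res K c) :
    ∃ d ∈ Δ.Res (op cs '' K) a0, Δ.δ c' d = OppRes.dJ cs K := by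
  obtain ⟨t, ht, h⟩ := Δ.exists_mul_of_mem_left a0 (Δ.mem_Res_symm hc')
  have h1 : Δ.δ c a0 = w0 cs := ha0
  rw [h1] at h
  set b : W := (OppRes.dJ cs K)⁻¹ * t * OppRes.dJ cs K * wJ cs (op cs '' K) with hb
  have hbm : b ∈ WJ cs (op cs '' K) := mul_mem (F.dJ_inv_conj_mem ht) (F.wJ_mem _)
  have h2 : Δ.δ c' a0 = OppRes.dJ cs K * b := by
    have h3 : OppRes.dJ cs K * wJ cs (op cs '' K) = w0 cs := by
      rw [F.dJ_eq, mul_assoc, F.wJ_mul_self, mul_one]
    rw [h, hb, ← h3]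
    group
  obtain ⟨d, hd1, hd2⟩ := Δ.exists_between h2 (F.len_dJ_mul hbm)
  refine ⟨d, ?_, hd1⟩
  rw [Δ.mem_Res_comm, mem_Res, hd2]
  exact hbm

/-- The chamber of the opposite residue nearest to `c` is unique. -/
theorem near_unique {K : Set I} {c d d' : C} (hd : Δ.δ c d = OppRes.dJ cs K)
    (hd' : Δ.δ c d' = OppRes.dJ cs K) (h : Δ.δ d d' ∈ WJ cs (op cs '' K)) : d' = d := by
  obtain ⟨t, ht, h1⟩ := Δ.exists_mul_of_mem c h
  rw [hd, hd'] at h1
  have h2 : Δ.δ c d' = OppRes.dJ cs K * Δ.δ d d' := by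
    refine Δ.δ_mul_of hd rfl (F.len_dJ_mul h)
  rw [hd'] at h2
  have h3 : Δ.δ d d' = 1 := by
    have := congrArg (fun z => (OppRes.dJ cs K)⁻¹ * z) h2
    simpa using this.symm
  exact (Δ.eq_of_δ_eq_one h3).symm

theorem eq_one_of_near {K : Set I} {c d : C} (hd : Δ.δ c d = OppRes.dJ cs K) {v : G}
    (hv : v ∈ S.UR (Δ.Res K c)) (hvd : v • d = d) : v = 1 := by
  obtain ⟨y, hy⟩ := Δ.exists_δ c (wJ cs K)
  have hyc : Δ.δ y c = wJ cs K := by rw [Δ.symm c y, hy, F.wJ_inv]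
  have hyd : Δ.Opp y d := by
    have h1 := F.len_mul_dJ (F.wJ_mem K)
    have h2 := Δ.δ_mul_of hyc hd h1
    rw [F.wJ_mul_dJ] at h2
    exact h2
  exact S.free y d hyd v (hv y (by rw [mem_Res, hy]; exact F.wJ_mem K)) hvd

/-- **The unipotent radical is transitive on the opposite residues.** -/
theorem exists_levi (hth : Δ.Thick) (ht : ∀ x y : C, ∃ g : G, g • x = y) {K : Set I} {c a0 : C}
    (ha0 : Δ.Opp c a0) {x : G} (hx : Δ.δ c (x • c) ∈ WJ cs K) :
    ∃ v ∈ S.UR (Δ.Res K c), Δ.δ a0 ((v⁻¹ * x) • a0) ∈ WJ cs (op cs '' K) := by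
  obtain ⟨d, hd, hcd⟩ := exists_near (Δ := Δ) ha0 (Δ.self_mem_Res K c)
  have hc' : x⁻¹ • c ∈ Δ.Res K c := by
    rw [Δ.mem_Res_comm, mem_Res, ← S.iso x, smul_inv_smul]
    exact hx
  obtain ⟨d', hd', hcd'⟩ := exists_near (Δ := Δ) ha0 hc'
  have h1 : Δ.δ c (x • d') = OppRes.dJ cs K := by
    have h := S.iso x (x⁻¹ • c) d'
    rw [smul_inv_smul] at h
    rw [h, hcd']
  obtain ⟨u, hu, hud⟩ := S.exists_move (x := c) (z := d) (z' := x • d') (hcd.trans h1.symm)
  obtain ⟨v, hv, l, hl, hl', rfl⟩ := exists_factor S hth ht hcd hu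
  refine ⟨v, hv, ?_⟩
  rw [mul_smul, S.fix d l hl'] at hud
  -- `x • a0` is in the residue of `x • d' = v • d`
  have h2 : x • a0 ∈ Δ.Res (op cs '' K) (v • d) := by
    rw [hud]
    exact S.smul_mem_Res (Δ.mem_Res_symm hd')
  have h3 := S.smul_mem_Res (g := v⁻¹) h2
  rw [inv_smul_smul, ← mul_smul] at h3
  exact Δ.mem_Res_trans hd h3

theorem eq_one_of_stab (hth : Δ.Thick) {K : Set I} {c a0 : C} (ha0 : Δ.Opp c a0) {v : G}
    (hv : v ∈ S.UR (Δ.Res K c)) (hv' : Δ.δ a0 (v • a0) ∈ WJ cs (op cs '' K)) : v = 1 := by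
  obtain ⟨d, hd, hcd⟩ := exists_near (Δ := Δ) ha0 (Δ.self_mem_Res K c)
  have hvc : v • c = c := S.fix c v (hv c (Δ.self_mem_Res _ _))
  have h1 : Δ.δ c (v • d) = OppRes.dJ cs K := by
    have h := S.iso v c d
    rw [hvc] at h
    rw [h, hcd]
  have h2 : Δ.δ d (v • d) ∈ WJ cs (op cs '' K) := by
    have h3 : v • d ∈ Δ.Res (op cs '' K) a0 :=
      Δ.mem_Res_trans hv' (S.smul_mem_Res hd)
    exact Δ.δ_mem_of_mem_Res hd h3
  exact eq_one_of_near S hcd hv (near_unique hcd h1 h2)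

end Levi

section Value

variable [Fintype I] [DecidableEq I] [Finite W] [Fintype C] [Finite G] [Fact p.Prime]

open Cfsg.Agent.H167.SteinbergMod in
/-- **The Steinberg character at the `p`-regular elements.** -/
theorem value (hth : Δ.Thick) (ht : ∀ x y : C, ∃ g : G, g • x = y) (c : C)
    (hirr : IsIrrCharacter G (stRep Δ S.iso).character)
    (hdeg : (stRep Δ S.iso).character 1 = ((p ^ (Nat.card G).factorization p : ℕ) : ℂ)) (g : G)
    (hp : ¬ p ∣ orderOf g) :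
    (stRep Δ S.iso).character g =
        ((p ^ (Nat.card ↥(Subgroup.centralizer ({g} : Set G))).factorization p : ℕ) : ℂ) ∨
      (stRep Δ S.iso).character g =
        -((p ^ (Nat.card ↥(Subgroup.centralizer ({g} : Set G))).factorization p : ℕ) : ℂ) := by
  have F : OppRes.Cox cs := inferInstance
  obtain ⟨a0, ha0⟩ := Tits.Opp.exists_opp Δ c
  have htr : ∀ x y x' y', Δ.δ x y = Δ.δ x' y' → ∃ g : G, g • x = x' ∧ g • y = y' := by
    intro x y x' y' h
    obtain ⟨g, rfl⟩ := ht x x'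
    have h1 : Δ.δ (g • x) (g • y) = Δ.δ (g • x) y' := by rw [S.iso, h]
    obtain ⟨u, hu, huz⟩ := S.exists_move h1
    exact ⟨u * g, by rw [mul_smul, S.fix _ u hu], by rw [mul_smul, huz]⟩
  refine H114.StRegular.value Δ S.iso (p := p) htr c a0 ha0 ?_ (fun K => S.UR (Δ.Res (K : Set I) c)) ?_ ?_ ?_ ?_ ?_
    hirr hdeg g hp
  · intro y hy
    obtain ⟨σ, h1, h2⟩ := Tits.Chart.exists_chart hy 1
    rw [one_mul] at h2
    exact ⟨σ, σ.iso, h1, h2⟩
  · intro K
    exact S.UR_isP ⟨c, Δ.self_mem_Res _ _⟩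
  · intro K v hv
    rw [S.fix c v (hv c (Δ.self_mem_Res _ _))]
    exact Δ.self_mem_Res _ _
  · intro K x hx v hv
    have h1 : x • Δ.Res (K : Set I) c = Δ.Res (K : Set I) c := by
      rw [S.smul_Res]
      exact Δ.Res_eq_of_mem hx
    have h2 := (S.conj_mem_UR_iff (Q := Δ.Res (K : Set I) c) (u := v) (g := x)).2 hv
    rwa [h1] at h2
  · intro K x hx
    obtain ⟨v, hv, h⟩ := exists_levi S hth ht ha0 hx
    refine ⟨v, hv, ?_⟩
    rw [H114.StRegular.mem_stabRes, coe_opK]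
    exact h
  · intro K v hv hv'
    rw [H114.StRegular.mem_stabRes, coe_opK] at hv'
    exact eq_one_of_stab S hth ha0 hv hv'

/-- The order of `U c`. -/
theorem card_U_eq (ht : ∀ x y : C, ∃ g : G, g • x = y) (c : C) :
    Nat.card (S.U c) = p ^ (Nat.card G).factorization p := by
  obtain ⟨P⟩ : Nonempty (Sylow p G) := inferInstance
  obtain ⟨c', hc'⟩ := S.exists_fix P P.isPGroup'
  have h1 : (P : Subgroup G) ≤ S.U c' := S.max c' P P.isPGroup' hc'
  have h2 : (P : Subgroup G) = S.U c' := (P.is_maximal' (S.isP c') h1).symm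
  obtain ⟨g, rfl⟩ := ht c c'
  have h3 : Nat.card (S.U c) = Nat.card (S.U (g • c)) := by
    refine Nat.card_congr ⟨fun u => ⟨g * u * g⁻¹, S.conj_mem_U u.2 g⟩,
      fun u => ⟨g⁻¹ * u * g, ?_⟩, fun u => Subtype.ext ?_, fun u => Subtype.ext ?_⟩
    · rw [← S.conj_mem_U_iff (g := g)]
      have e : g * (g⁻¹ * (u : G) * g) * g⁻¹ = u := by group
      rw [e]
      exact u.2
    · change g⁻¹ * (g * (u : G) * g⁻¹) * g = u
      group
    · change g * (g⁻¹ * (u : G) * g) * g⁻¹ = u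
      group
  rw [h3, ← h2]
  exact P.card_eq_multiplicity

include S in
open Cfsg.Agent.H167.SteinbergMod in
/-- **The Steinberg character and its values at the `p`-regular elements.** -/
theorem exists_st (hth : Δ.Thick) (ht : ∀ x y : C, ∃ g : G, g • x = y) (c : C) :
    ∃ χ : G → ℂ, IsIrrCharacter G χ ∧ χ 1 = ((p ^ (Nat.card G).factorization p : ℕ) : ℂ) ∧
      ∀ g : G, ¬ p ∣ orderOf g →
        χ g = ((p ^ (Nat.card ↥(Subgroup.centralizer ({g} : Set G))).factorization p : ℕ) : ℂ) ∨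
        χ g = -((p ^ (Nat.card ↥(Subgroup.centralizer ({g} : Set G))).factorization p : ℕ) : ℂ) := by
  have F : OppRes.Cox cs := inferInstance
  obtain ⟨a0, ha0⟩ := Tits.Opp.exists_opp Δ c
  have htr : ∀ x y x' y', Δ.δ x y = Δ.δ x' y' → ∃ g : G, g • x = x' ∧ g • y = y' := by
    intro x y x' y' h
    obtain ⟨g, rfl⟩ := ht x x'
    have h1 : Δ.δ (g • x) (g • y) = Δ.δ (g • x) y' := by rw [S.iso, h]
    obtain ⟨u, hu, huz⟩ := S.exists_move h1
    exact ⟨u * g, by rw [mul_smul, S.fix _ u hu], by rw [mul_smul, huz]⟩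
  have hap : ∀ y, Δ.Opp c y → ∃ a : W → C, (∀ v w, Δ.δ (a v) (a w) = v⁻¹ * w) ∧ a 1 = c ∧ a (w0 cs) = y := by
    intro y hy
    obtain ⟨σ, h1, h2⟩ := Tits.Chart.exists_chart hy 1
    rw [one_mul] at h2
    exact ⟨σ, σ.iso, h1, h2⟩
  have hirr := Cfsg.Agent.Characters.Core.isIrrCharacter_of_rep _ (irreducible Δ S.iso c hap ⟨a0, ha0⟩ htr)
  have hdeg : (stRep Δ S.iso).character 1 = ((p ^ (Nat.card G).factorization p : ℕ) : ℂ) := by
    rw [character_eq Δ S.iso c hap (one_smul G c), ← card_U_eq S ht c]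
    congr 1
    refine (Nat.card_congr (Equiv.ofBijective
      (fun v : S.U c => (⟨(v : G) • a0, ?_, one_smul _ _⟩ : {y : C // Δ.Opp c y ∧ (1 : G) • y = y})) ⟨?_, ?_⟩)).symm
    · have h1 := S.iso (v : G) c a0
      rw [S.fix c v v.2] at h1
      exact h1.trans ha0
    · intro v w hvw
      have h1 : (v : G) • a0 = (w : G) • a0 := congrArg Subtype.val hvw
      have h2 : ((w : G)⁻¹ * v) • a0 = a0 := by rw [mul_smul, h1, inv_smul_smul]
      have h3 := S.free c a0 ha0 _ (mul_mem (inv_mem w.2) v.2) h2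
      exact Subtype.ext (inv_mul_eq_one.1 h3).symm
    · rintro ⟨e, he, -⟩
      obtain ⟨v, hv, rfl⟩ := S.trans c a0 e ha0 he
      exact ⟨⟨v, hv⟩, rfl⟩
  exact ⟨_, hirr, hdeg, fun g hg => value S hth ht c hirr hdeg g hg⟩

end Value

section Split

/-- **The Steinberg character of a finite group with a split (B,N)-pair of characteristic `p`.** -/
theorem exists_st_of_hasSplit {K : Type*} [Group K] [Finite K] {p : ℕ} [Fact p.Prime] (h : FixBN.HasSplit p K) :
    ∃ χ : K → ℂ, IsIrrCharacter K χ ∧ χ 1 = ((p ^ (Nat.card K).factorization p : ℕ) : ℂ) ∧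
      ∀ g : K, ¬ p ∣ orderOf g →
        χ g = ((p ^ (Nat.card ↥(Subgroup.centralizer ({g} : Set K))).factorization p : ℕ) : ℂ) ∨
        χ g = -((p ^ (Nat.card ↥(Subgroup.centralizer ({g} : Set K))).factorization p : ℕ) : ℂ) := by
  classical
  obtain ⟨P, U, -, hU⟩ := h
  have hN : ((P.B ⊓ P.N).subgroupOf P.N).Normal := Tits.OfBN.normal_subgroupOf P
  obtain ⟨M, cs, hcs⟩ := S0320.result P
  have S := FixBN.OfBN.sys (Equiv.refl P.S) cs hcs hU
  have : Fintype (K ⧸ P.B) := Fintype.ofFinite _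
  have : Finite P.S := inferInstance
  have : Fintype P.S := Fintype.ofFinite _
  exact exists_st S (Tits.OfBN.thick P (Equiv.refl P.S) cs hcs) (fun x y => MulAction.exists_smul_eq K x y)
    (QuotientGroup.mk 1)

end Split

end Cfsg.Agent.H330.GowSt
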