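import Cfsg.Agent.H996.DefectZero
import Cfsg.Agent.H330.GowSt

/-!
# The irreducible characters of `p`-defect zero of a group with a split (B,N)-pair of characteristic `p` (helper330)

`G` acts on a thick finite building, `S : Sys Δ G p`. An irreducible representation `V` of `p`-defect zero has a line
`ℂ x` of fixed vectors of `U c`. `phi g` is the scalar with `E (g x) = phi g • x`, `E` the projection on the fixed
vectors of `U c`. Main result: `g ↦ (-1) ^ ℓ(w) q_w phi g` is a homomorphism `G → ℂ`, so that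
`phi g = (-1) ^ ℓ(w) / q_w`, `w = δ c (g c)`, if `G` is perfect.
-/

set_option autoImplicit false
set_option linter.unusedSectionVars false

open scoped Pointwise

namespace Cfsg.Agent.H330.GowUniq

open Cfsg Cfsg.Agent.Tits.Core Cfsg.Agent.Tits.Core.Bldg Cfsg.Agent.Tits.Exchange Cfsg.Agent.FixBN
  Cfsg.Agent.Tits Cfsg.Agent.H330.GowSt

/-! ### averages -/

section Av

variable {G : Type*} [Group G] [Finite G] {V : Type*} [AddCommGroup V] [Module ℂ V] (ρ : Representation ℂ G V)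

/-- the projection on the fixed vectors of `H` -/
noncomputable def av (H : Subgroup G) : V →ₗ[ℂ] V := (Nat.card H : ℂ)⁻¹ • ∑ᶠ h : H, ρ (h : G)

theorem av_eq (H : Subgroup G) [Fintype H] : av ρ H = (Nat.card H : ℂ)⁻¹ • ∑ h : H, ρ (h : G) := by
  rw [av, finsum_eq_sum_of_fintype]

theorem av_apply_eq (H : Subgroup G) [Fintype H] (v : V) :
    av ρ H v = (Nat.card H : ℂ)⁻¹ • ∑ h : H, ρ (h : G) v := by
  rw [av_eq, LinearMap.smul_apply, LinearMap.sum_apply]

theorem av_eq_sig (H : Subgroup G) (v : V) : av ρ H v = (Nat.card H : ℂ)⁻¹ • H996.DefectZero.sig ρ H v := by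
  have := Fintype.ofFinite H
  rw [av_apply_eq, H996.DefectZero.sig_eq]

theorem card_ne (H : Subgroup G) : (Nat.card H : ℂ) ≠ 0 := by exact_mod_cast Nat.card_pos.ne'

variable {ρ}

theorem apply_av {H : Subgroup G} {h : G} (hh : h ∈ H) (v : V) : ρ h (av ρ H v) = av ρ H v := by
  rw [av_eq_sig, map_smul, H996.DefectZero.apply_sig ρ H hh]

theorem av_apply {H : Subgroup G} {h : G} (hh : h ∈ H) (v : V) : av ρ H (ρ h v) = av ρ H v := by
  rw [av_eq_sig, av_eq_sig, H996.DefectZero.sig_apply ρ H hh]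

theorem av_fixed {H : Subgroup G} {v : V} (hv : ∀ h ∈ H, ρ h v = v) : av ρ H v = v := by
  rw [av_eq_sig, H996.DefectZero.sig_fixed ρ H hv, smul_smul, inv_mul_cancel₀ (card_ne H), one_smul]

theorem av_conj {H H' : Subgroup G} (g : G) (hH : ∀ h, h ∈ H ↔ g * h * g⁻¹ ∈ H') (v : V) :
    ρ g (av ρ H v) = av ρ H' (ρ g v) := by
  have := Fintype.ofFinite H
  have := Fintype.ofFinite H'
  have hcard : Nat.card H = Nat.card H' := by
    refine Nat.card_congr ⟨fun h => ⟨g * h * g⁻¹, (hH h).1 h.2⟩, fun h => ⟨g⁻¹ * h * g, (hH _).2 ?_⟩,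
      fun h => Subtype.ext ?_, fun h => Subtype.ext ?_⟩
    · have e : g * (g⁻¹ * (h : G) * g) * g⁻¹ = h := by group
      rw [e]
      exact h.2
    · change g⁻¹ * (g * (h : G) * g⁻¹) * g = h
      group
    · change g * (g⁻¹ * (h : G) * g) * g⁻¹ = h
      group
  rw [av_apply_eq, av_apply_eq, map_smul, map_sum, hcard]
  congr 1
  refine Fintype.sum_bijective (fun h : H => (⟨g * h * g⁻¹, (hH h).1 h.2⟩ : H')) ⟨?_, ?_⟩ _ _ ?_
  · intro a b hab
    have h1 : g * (a : G) * g⁻¹ = g * b * g⁻¹ := congrArg Subtype.val hab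
    exact Subtype.ext (mul_left_cancel (mul_right_cancel h1))
  · intro h
    refine ⟨⟨g⁻¹ * h * g, (hH _).2 ?_⟩, Subtype.ext ?_⟩
    · have e : g * (g⁻¹ * (h : G) * g) * g⁻¹ = h := by group
      rw [e]
      exact h.2
    · change g * (g⁻¹ * (h : G) * g) * g⁻¹ = h
      group
  · intro h
    change ρ g (ρ (h : G) v) = ρ (g * h * g⁻¹) (ρ g v)
    rw [← Module.End.mul_apply, ← Module.End.mul_apply, ← map_mul, ← map_mul]
    congr 2
    group

theorem av_av_av {H K L : Subgroup G} (h : ∀ k ∈ K, ∃ a ∈ H, ∃ b ∈ L, k = a * b) (v : V) :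
    av ρ H (av ρ K (av ρ L v)) = av ρ H (av ρ L v) := by
  have := Fintype.ofFinite K
  rw [av_apply_eq ρ K, map_smul, map_sum]
  have h1 : ∀ k : K, av ρ H (ρ (k : G) (av ρ L v)) = av ρ H (av ρ L v) := by
    intro k
    obtain ⟨a, ha, b, hb, e⟩ := h k k.2
    rw [e, map_mul, Module.End.mul_apply, apply_av hb, av_apply ha]
  rw [Finset.sum_congr rfl fun k _ => h1 k, Finset.sum_const, Finset.card_univ, ← Nat.card_eq_fintype_card,
    ← Nat.cast_smul_eq_nsmul ℂ, smul_smul, inv_mul_cancel₀ (card_ne K), one_smul]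

end Av

/-! ### the function `phi` -/

variable {I : Type*} {M : CoxeterMatrix I} {W : Type*} [Group W] {cs : CoxeterSystem M W} {C : Type*}

local prefix:100 "ℓ" => cs.length

variable {Δ : Bldg cs C} {G : Type*} [Group G] [MulAction G C] {p : ℕ} (S : Sys Δ G p)
  {V : Type*} [AddCommGroup V] [Module ℂ V] (ρ : Representation ℂ G V)

/-- The fixed vectors of `U c` form the line `ℂ x`. -/
structure Ctx (c : C) (x : V) : Prop where
  ne : x ≠ 0
  fix : ∀ u ∈ S.U c, ρ u x = x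
  uniq : ∀ v, (∀ u ∈ S.U c, ρ u v = v) → ∃ a : ℂ, v = a • x

section

variable [Finite G] {c : C} {x : V}

variable {S ρ}

theorem Ctx.av_eq (h : Ctx S ρ c x) (v : V) : ∃ a : ℂ, av ρ (S.U c) v = a • x :=
  h.uniq _ fun _ hu => apply_av hu v

variable (S ρ) in
open Classical in
/-- the scalar of `g` -/
noncomputable def phi (c : C) (x : V) (g : G) : ℂ :=
  if h : ∃ a : ℂ, av ρ (S.U c) (ρ g x) = a • x then h.choose else 0

theorem Ctx.phi_spec (h : Ctx S ρ c x) (g : G) : av ρ (S.U c) (ρ g x) = phi S ρ c x g • x := by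
  have h1 := h.av_eq (ρ g x)
  rw [phi, dif_pos h1]
  exact h1.choose_spec

theorem Ctx.phi_eq (h : Ctx S ρ c x) {g : G} {a : ℂ} (ha : av ρ (S.U c) (ρ g x) = a • x) :
    phi S ρ c x g = a := by
  rw [h.phi_spec] at ha
  exact smul_left_injective ℂ h.ne ha

theorem av_smul_U (g : G) (c : C) (v : V) : ρ g (av ρ (S.U c) v) = av ρ (S.U (g • c)) (ρ g v) :=
  av_conj g (fun _ => S.conj_mem_U_iff.symm) v

theorem fix_smul (h : Ctx S ρ c x) (g : G) : ∀ u ∈ S.U (g • c), ρ u (ρ g x) = ρ g x := by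
  intro u hu
  have h1 : g⁻¹ * u * g ∈ S.U c := by
    rw [← S.conj_mem_U_iff (g := g)]
    have e : g * (g⁻¹ * u * g) * g⁻¹ = u := by group
    rwa [e]
  have h2 := h.fix _ h1
  rw [← Module.End.mul_apply, ← map_mul]
  have e : u * g = g * (g⁻¹ * u * g) := by group
  rw [e, map_mul, Module.End.mul_apply, h2]

/-- `U e = (U e ∩ U c) (U e ∩ U d)` for `e` between `c` and `d`. -/
theorem factor [F : OppRes.Cox cs] {c e d : C} (hl : ℓ (Δ.δ c e * Δ.δ e d) = ℓ (Δ.δ c e) + ℓ (Δ.δ e d)) {u : G}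
    (hu : u ∈ S.U e) : ∃ a ∈ S.U c, ∃ b ∈ S.U d, u = a * b := by
  have h1 : Δ.δ e (u • d) = Δ.δ e d := by
    have := S.iso u e d
    rwa [S.fix e u hu] at this
  have h2 : Δ.δ c d = Δ.δ c e * Δ.δ e d := Δ.δ_mul_of rfl rfl hl
  have h3 : Δ.δ c (u • d) = Δ.δ c e * Δ.δ e d := by
    refine Δ.δ_mul_of rfl h1 hl
  obtain ⟨a, ha, had⟩ := S.exists_move (h2.trans h3.symm)
  have hae : a • e = e := by
    refine Δ.between_unique hl (x := c) (z := u • d) ?_ ?_ rfl h1
    · have := S.iso a c e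
      rwa [S.fix c a ha] at this
    · rw [← had, S.iso]
  have hae' : a ∈ S.U e := S.mem_U_of_fix ha hae
  refine ⟨a, ha, a⁻¹ * u, ?_, by group⟩
  refine S.mem_U_of_fix (x := e) (mul_mem (inv_mem hae') hu) ?_
  rw [mul_smul, ← had, inv_smul_smul]

/-- **`phi` is multiplicative if the lengths add.** -/
theorem phi_mul [F : OppRes.Cox cs] (h : Ctx S ρ c x) {g k : G}
    (hl : ℓ (Δ.δ c (g • c) * Δ.δ c (k • c)) = ℓ (Δ.δ c (g • c)) + ℓ (Δ.δ c (k • c))) :
    phi S ρ c x (g * k) = phi S ρ c x g * phi S ρ c x k := by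
  have h1 : Δ.δ (g • c) ((g * k) • c) = Δ.δ c (k • c) := by rw [mul_smul, S.iso]
  have h2 := av_av_av (ρ := ρ) (H := S.U c) (K := S.U (g • c)) (L := S.U ((g * k) • c))
    (fun u hu => factor (S := S) (c := c) (e := g • c) (d := (g * k) • c) (by rw [h1]; exact hl) hu) (ρ (g * k) x)
  rw [av_fixed (fix_smul h (g * k))] at h2
  apply h.phi_eq
  rw [← h2, map_mul, Module.End.mul_apply, ← av_smul_U, h.phi_spec k, map_smul, map_smul, h.phi_spec g, smul_smul,
    mul_comm]

theorem phi_stab (h : Ctx S ρ c x) {b : G} (hb : b • c = c) : ρ b x = phi S ρ c x b • x := by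
  have h1 := fix_smul h b
  rw [hb] at h1
  have h2 := h.phi_spec b
  rwa [av_fixed h1] at h2

theorem phi_stab_ne (h : Ctx S ρ c x) {b : G} (hb : b • c = c) : phi S ρ c x b ≠ 0 := by
  intro h0
  have h1 := phi_stab h hb
  rw [h0, zero_smul] at h1
  apply h.ne
  have h2 := congrArg (ρ b⁻¹) h1
  rw [map_zero, ← Module.End.mul_apply, ← map_mul, inv_mul_cancel, map_one] at h2
  exact h2

theorem phi_U (h : Ctx S ρ c x) {u : G} (hu : u ∈ S.U c) : phi S ρ c x u = 1 := by
  apply h.phi_eq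
  rw [h.fix u hu, av_fixed h.fix, one_smul]

end

section RankOne

variable {S ρ} [F : OppRes.Cox cs] [Finite G] {c : C} {x : V} {i : I}

theorem phi_one (h : Ctx S ρ c x) : phi S ρ c x 1 = 1 := phi_U h (one_mem _)

theorem phi_mul_left (h : Ctx S ρ c x) {b g : G} (hb : b • c = c) :
    phi S ρ c x (b * g) = phi S ρ c x b * phi S ρ c x g :=
  phi_mul h (by rw [hb, Δ.δ_self, one_mul, cs.length_one, zero_add])

theorem phi_mul_right (h : Ctx S ρ c x) {b g : G} (hb : b • c = c) :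
    phi S ρ c x (g * b) = phi S ρ c x g * phi S ρ c x b :=
  phi_mul h (by rw [hb, Δ.δ_self, mul_one, cs.length_one, add_zero])

theorem smul_inv_eq {b : G} (hb : b • c = c) : b⁻¹ • c = c := by
  conv_lhs => rw [← hb]
  exact inv_smul_smul b c

theorem phi_stab_inv (h : Ctx S ρ c x) {b : G} (hb : b • c = c) : phi S ρ c x b * phi S ρ c x b⁻¹ = 1 := by
  rw [← phi_mul_left h hb, mul_inv_cancel, phi_one h]

/-- two elements moving `c` to chambers at the same distance -/
theorem exists_dec {g k : G} (e : Δ.δ c (g • c) = Δ.δ c (k • c)) :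
    ∃ u ∈ S.U c, ∃ b : G, b • c = c ∧ k = u * g * b := by
  obtain ⟨u, hu, huz⟩ := S.exists_move e
  refine ⟨u, hu, g⁻¹ * u⁻¹ * k, ?_, by group⟩
  rw [mul_smul, ← huz, mul_smul, inv_smul_smul, inv_smul_smul]

theorem phi_dec (h : Ctx S ρ c x) {u g b : G} (hu : u ∈ S.U c) (hb : b • c = c) :
    phi S ρ c x (u * g * b) = phi S ρ c x g * phi S ρ c x b := by
  rw [phi_mul_right h hb, phi_mul_left h (S.fix c u hu), phi_U h hu, one_mul]

theorem phi_dec_inv (h : Ctx S ρ c x) {u g b : G} (hu : u ∈ S.U c) (hb : b • c = c) :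
    phi S ρ c x (u * g * b)⁻¹ = phi S ρ c x b⁻¹ * phi S ρ c x g⁻¹ := by
  have e : (u * g * b)⁻¹ = b⁻¹ * (g⁻¹ * u⁻¹) := by group
  rw [e, phi_mul_left h (smul_inv_eq hb), phi_mul_right h (smul_inv_eq (S.fix c u hu)), phi_U h (inv_mem hu),
    mul_one]

theorem kappa_eq (h : Ctx S ρ c x) {g k : G} (e : Δ.δ c (g • c) = Δ.δ c (k • c)) :
    phi S ρ c x k * phi S ρ c x k⁻¹ = phi S ρ c x g * phi S ρ c x g⁻¹ := by
  obtain ⟨u, hu, b, hb, rfl⟩ := exists_dec (S := S) e
  rw [phi_dec h hu hb, phi_dec_inv h hu hb]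
  have := phi_stab_inv h hb
  linear_combination (phi S ρ c x g * phi S ρ c x g⁻¹) * this

include S in
theorem delta_inv {g : G} (hg : Δ.δ c (g • c) = cs.simple i) : Δ.δ c (g⁻¹ • c) = cs.simple i := by
  rw [← S.iso g, smul_inv_smul]
  exact Δ.δ_symm_simple hg

/-! #### the panel -/

variable [Fintype C]

variable (S ρ) in
open Classical in
/-- the sum of the projections of the chambers of the panel -/
noncomputable def sg (i : I) (c : C) : V →ₗ[ℂ] V :=
  ∑ d ∈ Finset.univ.filter (fun d => d ∈ Δ.Pan i c), av ρ (S.U d)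

include S in
theorem pan_smul {g : G} (hg : g • c ∈ Δ.Pan i c) (d : C) : g • d ∈ Δ.Pan i c ↔ d ∈ Δ.Pan i c := by
  have h1 : g • d ∈ Δ.Pan i (g • c) ↔ d ∈ Δ.Pan i c := by
    rw [mem_Pan, mem_Pan, S.iso]
    constructor
    · rintro (h | h)
      · left
        have := congrArg (fun z => g⁻¹ • z) h
        simpa using this
      · exact Or.inr h
    · rintro (h | h)
      · left
        rw [h]
      · exact Or.inr h
  rw [← h1, Δ.Pan_eq_of_mem hg]

theorem apply_sg {g : G} (hg : g • c ∈ Δ.Pan i c) (v : V) : ρ g (sg S ρ i c v) = sg S ρ i c (ρ g v) := by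
  classical
  unfold sg
  rw [LinearMap.sum_apply, LinearMap.sum_apply, map_sum]
  refine Finset.sum_bij (fun d _ => g • d) ?_ ?_ ?_ ?_
  · intro d hd
    rw [Finset.mem_filter] at hd ⊢
    exact ⟨Finset.mem_univ _, (pan_smul (S := S) hg d).2 hd.2⟩
  · intro a _ b _ hab
    exact smul_left_cancel g hab
  · intro d hd
    rw [Finset.mem_filter] at hd
    refine ⟨g⁻¹ • d, ?_, smul_inv_smul g d⟩
    rw [Finset.mem_filter]
    refine ⟨Finset.mem_univ _, ?_⟩
    rw [← pan_smul (S := S) hg, smul_inv_smul]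
    exact hd.2
  · intro d _
    exact av_smul_U (S := S) g d v

theorem av_conj_apply (h : Ctx S ρ c x) (k g : G) :
    av ρ (S.U (k • c)) (ρ g x) = phi S ρ c x (k⁻¹ * g) • ρ k x := by
  have h1 := av_smul_U (S := S) (ρ := ρ) k c (ρ (k⁻¹ * g) x)
  rw [h.phi_spec, map_smul] at h1
  have h2 : ρ k (ρ (k⁻¹ * g) x) = ρ g x := by
    rw [← Module.End.mul_apply, ← map_mul, mul_inv_cancel_left]
  rw [h1, h2]

/-- `sg` is a scalar on the orbit of `x`. -/
theorem sg_apply (h : Ctx S ρ c x) {n : G} (hn : Δ.δ c (n • c) = cs.simple i) {g : G} (hg : g • c ∈ Δ.Pan i c)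
    (ht : ∀ x y : C, ∃ g : G, g • x = y) :
    sg S ρ i c (ρ g x) = (1 + (sph Δ c (cs.simple i) : ℂ) * (phi S ρ c x n * phi S ρ c x n⁻¹)) • ρ g x := by
  classical
  rw [← apply_sg hg, ← map_smul]
  congr 1
  -- the value at `x`
  have h1 : ∀ u ∈ S.U c, ρ u (sg S ρ i c x) = sg S ρ i c x := by
    intro u hu
    rw [apply_sg (by rw [S.fix c u hu]; exact Δ.self_mem_Pan i c), h.fix u hu]
  obtain ⟨a, ha⟩ := h.uniq _ h1
  have h2 : av ρ (S.U c) (sg S ρ i c x) = a • x := by
    rw [ha, map_smul, av_fixed h.fix]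
  have h3 : av ρ (S.U c) (sg S ρ i c x) =
      (1 + (sph Δ c (cs.simple i) : ℂ) * (phi S ρ c x n * phi S ρ c x n⁻¹)) • x := by
    unfold sg
    rw [LinearMap.sum_apply, map_sum]
    have h4 : ∀ d ∈ Finset.univ.filter (fun d => d ∈ Δ.Pan i c), av ρ (S.U c) (av ρ (S.U d) x) =
        (if d = c then (1 : ℂ) else phi S ρ c x n * phi S ρ c x n⁻¹) • x := by
      intro d hd
      rw [Finset.mem_filter] at hd
      split_ifs with hdc
      · rw [hdc, av_fixed h.fix, av_fixed h.fix, one_smul]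
      · obtain ⟨k, rfl⟩ := ht c d
        have hk : Δ.δ c (k • c) = cs.simple i := by
          rcases hd.2 with h5 | h5
          · exact absurd h5 hdc
          · exact h5
        have h5 := av_conj_apply h k 1
        rw [map_one, Module.End.one_apply, mul_one] at h5
        rw [h5, map_smul, h.phi_spec, smul_smul, ← kappa_eq h (hn.trans hk.symm), mul_comm]
    rw [Finset.sum_congr rfl h4, ← Finset.sum_smul]
    congr 1
    have h6 : Finset.univ.filter (fun d => d ∈ Δ.Pan i c) =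
        insert c (Finset.univ.filter (fun d => Δ.δ c d = cs.simple i)) := by
      ext d
      simp only [Finset.mem_filter, Finset.mem_univ, true_and, Finset.mem_insert]
      rfl
    have h7 : c ∉ Finset.univ.filter (fun d => Δ.δ c d = cs.simple i) := by
      intro h8
      rw [Finset.mem_filter] at h8
      exact Δ.ne_of_δ_simple h8.2 rfl
    rw [h6, Finset.sum_insert h7, if_pos rfl]
    congr 1
    rw [Finset.sum_congr rfl fun d hd => if_neg (fun hdc : d = c => h7 (by rw [hdc] at hd; exact hd)),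
      Finset.sum_const, nsmul_eq_mul]
    congr 2
    rw [← Fintype.card_subtype, sph, Nat.card_eq_fintype_card]
  rw [ha, smul_left_injective ℂ h.ne (h2.symm.trans h3)]

theorem Ctx.smul (h : Ctx S ρ c x) (g : G) : Ctx S ρ (g • c) (ρ g x) where
  ne := by
    intro h0
    apply h.ne
    have h2 := congrArg (ρ g⁻¹) h0
    rwa [map_zero, ← Module.End.mul_apply, ← map_mul, inv_mul_cancel, map_one] at h2
  fix := fix_smul h g
  uniq := by
    intro v hv
    have h1 : ∀ u ∈ S.U c, ρ u (ρ g⁻¹ v) = ρ g⁻¹ v := by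
      intro u hu
      have h2 := hv _ (S.conj_mem_U hu g)
      rw [← Module.End.mul_apply, ← map_mul]
      have e : u * g⁻¹ = g⁻¹ * (g * u * g⁻¹) := by group
      rw [e, map_mul, Module.End.mul_apply, h2]
    obtain ⟨a, ha⟩ := h.uniq _ h1
    refine ⟨a, ?_⟩
    have h2 := congrArg (ρ g) ha
    rwa [← Module.End.mul_apply, ← map_mul, mul_inv_cancel, map_one, Module.End.one_apply, map_smul] at h2

theorem exists_dual (hx : x ≠ 0) : ∃ f : V →ₗ[ℂ] ℂ, f x = 1 := by
  obtain ⟨f, hf⟩ := (not_forall.1 fun h => hx ((Module.forall_dual_apply_eq_zero_iff ℂ x).1 h))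
  exact ⟨(f x)⁻¹ • f, by rw [LinearMap.smul_apply, smul_eq_mul, inv_mul_cancel₀ hf]⟩

/-- The trace of the projection on a line followed by an operator. -/
theorem trace_av_mul (h : Ctx S ρ c x) (g : G) [FiniteDimensional ℂ V] :
    LinearMap.trace ℂ V (av ρ (S.U c) * ρ g) = phi S ρ c x g := by
  obtain ⟨f, hf⟩ := exists_dual h.ne
  have h1 : av ρ (S.U c) * ρ g = (f ∘ₗ (av ρ (S.U c) * ρ g)).smulRight x := by
    ext v
    obtain ⟨a, ha⟩ := h.av_eq (ρ g v)
    rw [Module.End.mul_apply, LinearMap.smulRight_apply, LinearMap.comp_apply, Module.End.mul_apply, ha, map_smul,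
      hf, smul_eq_mul, mul_one]
  rw [h1, LinearMap.trace_smulRight, LinearMap.comp_apply, Module.End.mul_apply, h.phi_spec, map_smul, hf,
    smul_eq_mul, mul_one]

theorem trace_av (h : Ctx S ρ c x) [FiniteDimensional ℂ V] : LinearMap.trace ℂ V (av ρ (S.U c)) = 1 := by
  have := trace_av_mul h 1
  rwa [map_one, mul_one, phi_one h] at this

open Classical in
theorem card_pan : (Finset.univ.filter (fun d => d ∈ Δ.Pan i c)).card = sph Δ c (cs.simple i) + 1 := by
  have h6 : Finset.univ.filter (fun d => d ∈ Δ.Pan i c) =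
      insert c (Finset.univ.filter (fun d => Δ.δ c d = cs.simple i)) := by
    ext d
    simp only [Finset.mem_filter, Finset.mem_univ, true_and, Finset.mem_insert]
    rfl
  have h7 : c ∉ Finset.univ.filter (fun d => Δ.δ c d = cs.simple i) := by
    intro h8
    rw [Finset.mem_filter] at h8
    exact Δ.ne_of_δ_simple h8.2 rfl
  rw [h6, Finset.card_insert_of_notMem h7, ← Fintype.card_subtype, sph, Nat.card_eq_fintype_card]

theorem trace_sg (h : Ctx S ρ c x) (ht : ∀ x y : C, ∃ g : G, g • x = y) [FiniteDimensional ℂ V] :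
    LinearMap.trace ℂ V (sg S ρ i c) = (sph Δ c (cs.simple i) : ℂ) + 1 := by
  classical
  unfold sg
  rw [map_sum]
  have h1 : ∀ d ∈ Finset.univ.filter (fun d => d ∈ Δ.Pan i c), LinearMap.trace ℂ V (av ρ (S.U d)) = 1 := by
    intro d _
    obtain ⟨g, rfl⟩ := ht c d
    exact trace_av (h.smul g)
  rw [Finset.sum_congr rfl h1, Finset.sum_const, card_pan, nsmul_eq_mul, mul_one]
  push_cast
  rfl

variable (Δ ρ) in
/-- the span of the orbit of `x` under the stabiliser of the panel -/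
def Wp (i : I) (c : C) (x : V) : Submodule ℂ V := Submodule.span ℂ {v | ∃ g : G, g • c ∈ Δ.Pan i c ∧ v = ρ g x}

theorem sg_mem (h : Ctx S ρ c x) (ht : ∀ x y : C, ∃ g : G, g • x = y) (v : V) : sg S ρ i c v ∈ Wp Δ ρ i c x := by
  classical
  unfold sg
  rw [LinearMap.sum_apply]
  refine Submodule.sum_mem _ fun d hd => ?_
  rw [Finset.mem_filter] at hd
  obtain ⟨g, rfl⟩ := ht c d
  obtain ⟨a, ha⟩ := (h.smul g).av_eq v
  rw [ha]
  exact Submodule.smul_mem _ _ (Submodule.subset_span ⟨g, hd.2, rfl⟩)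

theorem sg_of_mem (h : Ctx S ρ c x) {n : G} (hn : Δ.δ c (n • c) = cs.simple i)
    (ht : ∀ x y : C, ∃ g : G, g • x = y) {v : V} (hv : v ∈ Wp Δ ρ i c x) :
    sg S ρ i c v = (1 + (sph Δ c (cs.simple i) : ℂ) * (phi S ρ c x n * phi S ρ c x n⁻¹)) • v := by
  unfold Wp at hv
  induction hv using Submodule.span_induction with
  | mem v hv =>
    obtain ⟨g, hg, rfl⟩ := hv
    exact sg_apply h hn hg ht
  | zero => rw [map_zero, smul_zero]
  | add v w _ _ h1 h2 => rw [map_add, h1, h2, smul_add]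
  | smul a v _ h1 => rw [map_smul, h1, smul_comm]

/-- **`(1 + q κ) dim W = q + 1`.** -/
theorem finrank_eq (h : Ctx S ρ c x) {n : G} (hn : Δ.δ c (n • c) = cs.simple i)
    (ht : ∀ x y : C, ∃ g : G, g • x = y) [FiniteDimensional ℂ V]
    (h0 : 1 + (sph Δ c (cs.simple i) : ℂ) * (phi S ρ c x n * phi S ρ c x n⁻¹) ≠ 0) :
    (1 + (sph Δ c (cs.simple i) : ℂ) * (phi S ρ c x n * phi S ρ c x n⁻¹)) * (Module.finrank ℂ (Wp Δ ρ i c x) : ℂ) =
      (sph Δ c (cs.simple i) : ℂ) + 1 := by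
  set lam := 1 + (sph Δ c (cs.simple i) : ℂ) * (phi S ρ c x n * phi S ρ c x n⁻¹) with hlam
  have hproj : LinearMap.IsProj (Wp Δ ρ i c x) (lam⁻¹ • sg S ρ i c) := by
    refine ⟨fun v => ?_, fun v hv => ?_⟩
    · rw [LinearMap.smul_apply]
      exact Submodule.smul_mem _ _ (sg_mem h ht v)
    · rw [LinearMap.smul_apply, sg_of_mem h hn ht hv, smul_smul, inv_mul_cancel₀ h0, one_smul]
  have h1 := hproj.trace
  rw [map_smul, trace_sg h ht, smul_eq_mul] at h1
  rw [← h1, mul_inv_cancel_left₀ h0]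

theorem mem_Wp : x ∈ Wp Δ ρ i c x :=
  Submodule.subset_span ⟨1, by rw [one_smul]; exact Δ.self_mem_Pan i c, by rw [map_one]; rfl⟩

theorem finrank_pos (h : Ctx S ρ c x) [FiniteDimensional ℂ V] : 0 < Module.finrank ℂ (Wp Δ ρ i c x) := by
  have : Nontrivial (Wp Δ ρ i c x) := ⟨⟨⟨x, mem_Wp⟩, 0, fun h0 => h.ne (congrArg Subtype.val h0)⟩⟩
  exact Module.finrank_pos

theorem finrank_le (h : Ctx S ρ c x) (ht : ∀ x y : C, ∃ g : G, g • x = y) [FiniteDimensional ℂ V] :
    Module.finrank ℂ (Wp Δ ρ i c x) ≤ sph Δ c (cs.simple i) + 1 := by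
  classical
  choose k hk using ht c
  have h1 : Wp Δ ρ i c x ≤ Submodule.span ℂ
      (((Finset.univ.filter (fun d => d ∈ Δ.Pan i c)).image fun d => ρ (k d) x : Finset V) : Set V) := by
    unfold Wp
    rw [Submodule.span_le]
    rintro _ ⟨g, hg, rfl⟩
    have h2 : ((k (g • c))⁻¹ * g) • c = c := by
      rw [mul_smul, inv_smul_eq_iff, hk]
    have h3 : ρ g x = phi S ρ c x ((k (g • c))⁻¹ * g) • ρ (k (g • c)) x := by
      rw [← map_smul, ← phi_stab h h2, ← Module.End.mul_apply, ← map_mul, mul_inv_cancel_left]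
    rw [SetLike.mem_coe, h3]
    refine Submodule.smul_mem _ _ (Submodule.subset_span ?_)
    rw [Finset.mem_coe, Finset.mem_image]
    exact ⟨g • c, by rw [Finset.mem_filter]; exact ⟨Finset.mem_univ _, hg⟩, rfl⟩
  have h2 := Submodule.finrank_mono h1
  have h3 := finrank_span_finset_le_card (R := ℂ)
    ((Finset.univ.filter (fun d => d ∈ Δ.Pan i c)).image fun d => ρ (k d) x)
  have h4 := Finset.card_image_le (s := Finset.univ.filter (fun d => d ∈ Δ.Pan i c)) (f := fun d => ρ (k d) x)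
  rw [card_pan] at h4
  exact h2.trans (h3.trans h4)

/-- **The value at an element of `U e` which moves `c`.** -/
theorem phi_opp (h : Ctx S ρ c x) {n : G} (hn : Δ.δ c (n • c) = cs.simple i)
    (ht : ∀ x y : C, ∃ g : G, g • x = y) [FiniteDimensional ℂ V]
    (hD : Module.finrank ℂ (Wp Δ ρ i c x) = sph Δ c (cs.simple i))
    (hκ : phi S ρ c x n * phi S ρ c x n⁻¹ = ((sph Δ c (cs.simple i) : ℂ) ^ 2)⁻¹) {v : G} (hv : v ∈ S.U (n • c))
    (hvc : v • c ≠ c) : phi S ρ c x v = -(sph Δ c (cs.simple i) : ℂ)⁻¹ := by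
  classical
  set q := sph Δ c (cs.simple i) with hq
  have hq0 : (q : ℂ) ≠ 0 := by
    have := sph_pos Δ c (cs.simple i)
    exact_mod_cast this.ne'
  set e := n • c with he
  have hec : Δ.δ e c = cs.simple i := Δ.δ_symm_simple hn
  have hne : c ≠ e := Δ.ne_of_δ_simple hn
  have hePan : e ∈ Δ.Pan i c := Δ.mem_Pan_of_δ hn
  have hed : ∀ d, d ∈ Δ.Pan i c → d ≠ e → Δ.δ e d = cs.simple i := fun d hd hde =>
    Δ.δ_eq_of_mem_Pan hePan hd (Ne.symm hde)
  have hex : ∀ d, d ∈ Δ.Pan i c ∧ d ≠ e → ∃ u ∈ S.U e, u • c = d := fun d hd =>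
    S.exists_move (hec.trans (hed d hd.1 hd.2).symm)
  let ι := {d // d ∈ Δ.Pan i c ∧ d ≠ e}
  choose u hu huc using fun d : ι => hex d.1 d.2
  let y : ι → V := fun d => ρ (u d) x
  have hcι : c ∈ Δ.Pan i c ∧ c ≠ e := ⟨Δ.self_mem_Pan i c, hne⟩
  have hyc : y ⟨c, hcι⟩ = x := h.fix _ (S.mem_U_of_fix (hu _) (huc ⟨c, hcι⟩))
  -- the vector of a chamber
  have hy : ∀ (w : G) (hw : w ∈ S.U e) (d : ι), w • c = d.1 → ρ w x = y d := by
    intro w hw d hwd
    have h1 : ((u d)⁻¹ * w) • c = c := by rw [mul_smul, hwd, ← huc d, inv_smul_smul]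
    have h2 : (u d)⁻¹ * w ∈ S.U c := S.mem_U_of_fix (mul_mem (inv_mem (hu d)) hw) h1
    have h3 := h.fix _ h2
    change ρ w x = ρ (u d) x
    conv_rhs => rw [← h3, ← Module.End.mul_apply, ← map_mul, mul_inv_cancel_left]
  -- the projection of `x` by `U e`
  have hEe : av ρ (S.U e) x = (q : ℂ)⁻¹ • ∑ d : ι, y d := by
    have : Fintype (S.U e) := Fintype.ofFinite _
    let f : S.U e → ι := fun w => ⟨(w : G) • c, by
      have h1 : Δ.δ e ((w : G) • c) = cs.simple i := by
        have := S.iso (w : G) e c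
        rwa [S.fix e w w.2, hec] at this
      exact ⟨Δ.mem_Pan_trans hePan (Δ.mem_Pan_of_δ h1), (Δ.ne_of_δ_simple h1).symm⟩⟩
    rw [av_apply_eq]
    have h1 : ∀ w : S.U e, ρ (w : G) x = y (f w) := fun w => hy w w.2 _ rfl
    rw [Finset.sum_congr rfl fun w _ => h1 w, ← Finset.sum_fiberwise Finset.univ f]
    have h2 : ∀ d : ι, (∑ w ∈ Finset.univ.filter (fun w => f w = d), y (f w)) =
        (Nat.card ↥(S.U e ⊓ S.U c) : ℂ) • y d := by
      intro d
      have h3 : ∀ w ∈ Finset.univ.filter (fun w => f w = d), y (f w) = y d := by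
        intro w hw
        rw [Finset.mem_filter] at hw
        rw [hw.2]
      rw [Finset.sum_congr rfl h3, Finset.sum_const, ← Nat.cast_smul_eq_nsmul ℂ]
      congr 2
      rw [← Fintype.card_subtype, ← Nat.card_eq_fintype_card]
      refine Nat.card_congr ⟨fun w => ⟨(u d)⁻¹ * w.1, ?_⟩, fun z => ⟨⟨u d * z, mul_mem (hu d) z.2.1⟩, ?_⟩,
        fun w => ?_, fun z => ?_⟩
      · have h4 : ((u d)⁻¹ * (w.1 : G)) • c = c := by
          have h5 : (w.1 : G) • c = d.1 := congrArg Subtype.val w.2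
          rw [mul_smul, h5, ← huc d, inv_smul_smul]
        have h6 := mul_mem (inv_mem (hu d)) w.1.2
        exact ⟨h6, S.mem_U_of_fix h6 h4⟩
      · apply Subtype.ext
        change (u d * (z : G)) • c = d.1
        rw [mul_smul, S.fix c z z.2.2, huc]
      · apply Subtype.ext
        apply Subtype.ext
        exact mul_inv_cancel_left _ _
      · apply Subtype.ext
        exact inv_mul_cancel_left _ _
    rw [Finset.sum_congr rfl fun d _ => h2 d, ← Finset.smul_sum, smul_smul]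
    congr 1
    have h3 := card_U S e c
    have h4 : sph Δ e (Δ.δ e c) = q := by
      rw [hec, he, sph_smul Δ S.iso]
    rw [h4] at h3
    rw [h3]
    push_cast
    have h5 := card_ne (S.U e ⊓ S.U c)
    field_simp
  -- the family spans `W`
  have hcard : Fintype.card ι = q := by
    have h1 : Finset.univ.filter (fun d => d ∈ Δ.Pan i c) =
        insert e (Finset.univ.filter (fun d => d ∈ Δ.Pan i c ∧ d ≠ e)) := by
      ext d
      simp only [Finset.mem_filter, Finset.mem_univ, true_and, Finset.mem_insert]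
      constructor
      · intro hd
        by_cases hde : d = e
        · exact Or.inl hde
        · exact Or.inr ⟨hd, hde⟩
      · rintro (rfl | hd)
        · exact hePan
        · exact hd.1
    have h2 := card_pan (Δ := Δ) (c := c) (i := i)
    rw [h1, Finset.card_insert_of_notMem (by simp), ← Fintype.card_subtype] at h2
    exact Nat.succ_injective h2
  have hn0 : phi S ρ c x n⁻¹ ≠ 0 := by
    intro h0
    rw [h0, mul_zero] at hκ
    exact (inv_ne_zero (pow_ne_zero 2 hq0)) hκ.symm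
  have hspan : Submodule.span ℂ (Set.range y) = Wp Δ ρ i c x := by
    apply le_antisymm
    · rw [Submodule.span_le]
      rintro _ ⟨d, rfl⟩
      refine Submodule.subset_span ⟨u d, ?_, rfl⟩
      rw [huc d]
      exact d.2.1
    · unfold Wp
      rw [Submodule.span_le]
      rintro _ ⟨g, hg, rfl⟩
      rw [SetLike.mem_coe]
      by_cases hge : g • c = e
      · have h1 : (n⁻¹ * g) • c = c := by rw [mul_smul, hge, he, inv_smul_smul]
        have h2 : ρ g x = phi S ρ c x (n⁻¹ * g) • ρ n x := by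
          rw [← map_smul, ← phi_stab h h1, ← Module.End.mul_apply, ← map_mul, mul_inv_cancel_left]
        have h3 := av_conj_apply h n 1
        rw [map_one, Module.End.one_apply, mul_one, ← he, hEe] at h3
        have h4 : ρ n x = (phi S ρ c x n⁻¹)⁻¹ • (q : ℂ)⁻¹ • ∑ d : ι, y d := by
          rw [h3, smul_smul, inv_mul_cancel₀ hn0, one_smul]
        rw [h2, h4]
        refine Submodule.smul_mem _ _ (Submodule.smul_mem _ _ (Submodule.smul_mem _ _ ?_))
        exact Submodule.sum_mem _ fun d _ => Submodule.subset_span ⟨d, rfl⟩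
      · set d : ι := ⟨g • c, hg, hge⟩ with hd
        have h1 : ((u d)⁻¹ * g) • c = c := by rw [mul_smul, inv_smul_eq_iff, huc d]
        have h2 : ρ g x = phi S ρ c x ((u d)⁻¹ * g) • y d := by
          change ρ g x = phi S ρ c x ((u d)⁻¹ * g) • ρ (u d) x
          rw [← map_smul, ← phi_stab h h1, ← Module.End.mul_apply, ← map_mul, mul_inv_cancel_left]
        rw [h2]
        exact Submodule.smul_mem _ _ (Submodule.subset_span ⟨d, rfl⟩)
  have hind : LinearIndependent ℂ y := by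
    rw [linearIndependent_iff_card_eq_finrank_span, Set.finrank, hspan, hD, hcard]
  -- the relation
  have hrel : ∑ d : ι, ((q : ℂ)⁻¹ + phi S ρ c x (u d)⁻¹ - if d.1 = c then 1 + (q : ℂ)⁻¹ else 0) • y d = 0 := by
    have h1 := sg_apply h hn (g := 1) (by rw [one_smul]; exact Δ.self_mem_Pan i c) ht
    rw [map_one, Module.End.one_apply, hκ] at h1
    have h2 : (1 : ℂ) + (q : ℂ) * ((q : ℂ) ^ 2)⁻¹ = 1 + (q : ℂ)⁻¹ := by
      field_simp
    rw [← hq, h2] at h1
    have h3 : sg S ρ i c x = av ρ (S.U e) x + ∑ d : ι, av ρ (S.U d.1) x := by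
      unfold sg
      have h4 : Finset.univ.filter (fun d => d ∈ Δ.Pan i c) =
          insert e (Finset.univ.filter (fun d => d ∈ Δ.Pan i c ∧ d ≠ e)) := by
        ext d
        simp only [Finset.mem_filter, Finset.mem_univ, true_and, Finset.mem_insert]
        constructor
        · intro hd
          by_cases hde : d = e
          · exact Or.inl hde
          · exact Or.inr ⟨hd, hde⟩
        · rintro (rfl | hd)
          · exact hePan
          · exact hd.1
      rw [h4, LinearMap.sum_apply, Finset.sum_insert (by simp)]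
      congr 1
      exact (Finset.sum_subtype _ (fun d => by simp) fun d => av ρ (S.U d) x)
    have h5 : ∀ d : ι, av ρ (S.U d.1) x = phi S ρ c x (u d)⁻¹ • y d := by
      intro d
      have h6 := av_conj_apply h (u d) 1
      rwa [map_one, Module.End.one_apply, mul_one, huc d] at h6
    rw [h3, hEe, Finset.sum_congr rfl fun d _ => h5 d] at h1
    have h7 : ∑ d : ι, ((if d.1 = c then 1 + (q : ℂ)⁻¹ else 0) : ℂ) • y d = (1 + (q : ℂ)⁻¹) • x := by
      rw [Finset.sum_eq_single (⟨c, hcι⟩ : ι)]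
      · rw [if_pos rfl, hyc]
      · intro d _ hd
        rw [if_neg (fun h8 => hd (Subtype.ext h8)), zero_smul]
      · intro h8
        exact absurd (Finset.mem_univ _) h8
    simp only [sub_smul, add_smul, Finset.sum_sub_distrib, Finset.sum_add_distrib]
    rw [h7, ← h1, Finset.smul_sum, sub_self]
  have hcoef := Fintype.linearIndependent_iff.1 hind _ hrel
  -- the element `v`
  have hvinv : v⁻¹ • c ≠ c := fun h8 => hvc (by
    have := congrArg (fun z => v • z) h8
    simpa using this.symm)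
  have hvPan : v⁻¹ • c ∈ Δ.Pan i c ∧ v⁻¹ • c ≠ e := by
    have h1 : Δ.δ e (v⁻¹ • c) = cs.simple i := by
      have := S.iso v⁻¹ e c
      rwa [S.fix e _ (inv_mem hv), hec] at this
    exact ⟨Δ.mem_Pan_trans hePan (Δ.mem_Pan_of_δ h1), (Δ.ne_of_δ_simple h1).symm⟩
  set d : ι := ⟨v⁻¹ • c, hvPan⟩ with hd
  have h1 := hcoef d
  rw [if_neg hvinv, sub_zero] at h1
  have h2 : ((u d)⁻¹ * v⁻¹) • c = c := by rw [mul_smul, inv_smul_eq_iff, huc d]
  have h3 : (u d)⁻¹ * v⁻¹ ∈ S.U c := S.mem_U_of_fix (mul_mem (inv_mem (hu d)) (inv_mem hv)) h2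
  have h4 : v = ((u d)⁻¹ * v⁻¹)⁻¹ * (u d)⁻¹ := by group
  rw [h4, phi_mul_left h (S.fix c _ (inv_mem h3)), phi_U h (inv_mem h3), one_mul]
  linear_combination h1

/-- **The product of two elements of the panel stabiliser.** -/
theorem phi_pan (h : Ctx S ρ c x) (ht : ∀ x y : C, ∃ g : G, g • x = y) [FiniteDimensional ℂ V]
    (hD : Module.finrank ℂ (Wp Δ ρ i c x) = sph Δ c (cs.simple i))
    (hκ : ∀ n : G, Δ.δ c (n • c) = cs.simple i →
      phi S ρ c x n * phi S ρ c x n⁻¹ = ((sph Δ c (cs.simple i) : ℂ) ^ 2)⁻¹) {g k : G}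
    (hg : Δ.δ c (g • c) = cs.simple i) (hk : Δ.δ c (k • c) = cs.simple i) (hgk : (g * k) • c ≠ c) :
    phi S ρ c x (g * k) = -(sph Δ c (cs.simple i) : ℂ) * (phi S ρ c x g * phi S ρ c x k) := by
  have hq0 : (sph Δ c (cs.simple i) : ℂ) ≠ 0 := by
    have := sph_pos Δ c (cs.simple i)
    exact_mod_cast this.ne'
  have h1 : Δ.δ c ((g * k) • c) = cs.simple i := by
    have h2 : (g * k) • c ∈ Δ.Pan i (g • c) := by
      rw [mul_smul, mem_Pan, S.iso]
      exact Or.inr hk
    have h3 := Δ.mem_Pan_trans (Δ.mem_Pan_of_δ hg) h2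
    rcases h3 with h3 | h3
    · exact absurd h3 hgk
    · exact h3
  obtain ⟨u, hu, b, hb, e⟩ := exists_dec (S := S) (g := g) (k := g * k) (hg.trans h1.symm)
  -- `v = g⁻¹ u g` lies in `U (g⁻¹ c)`
  have hv : g⁻¹ * u * g ∈ S.U (g⁻¹ • c) := by
    have := S.conj_mem_U hu g⁻¹
    rwa [inv_inv] at this
  have hk' : k = g⁻¹ * u * g * b := by
    have : k = g⁻¹ * (g * k) := by group
    rw [this, e]
    group
  have hvc : (g⁻¹ * u * g) • c ≠ c := by
    intro h3
    have h4 : k • c = c := by rw [hk', mul_smul, hb, h3]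
    exact Δ.ne_of_δ_simple hk h4.symm
  have hφv := phi_opp h (n := g⁻¹) (delta_inv (S := S) hg) ht hD (hκ _ (delta_inv (S := S) hg)) hv hvc
  have h5 : phi S ρ c x k = -(sph Δ c (cs.simple i) : ℂ)⁻¹ * phi S ρ c x b := by
    rw [hk', phi_mul_right h hb, hφv]
  rw [e, phi_dec h hu hb, h5]
  field_simp

end RankOne

/-! ### the homomorphism -/

section Lambda

variable {S ρ} [F : OppRes.Cox cs] [Finite G] [Fintype C] {c : C} {x : V}

variable (S ρ) in
/-- The conclusions of the rank one analysis, for all the panels of `c`. -/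
structure ROne (c : C) (x : V) : Prop where
  ctx : Ctx S ρ c x
  ht : ∀ x y : C, ∃ g : G, g • x = y
  dim : ∀ i : I, Module.finrank ℂ (Wp Δ ρ i c x) = sph Δ c (cs.simple i)
  kap : ∀ (i : I) (n : G), Δ.δ c (n • c) = cs.simple i →
    phi S ρ c x n * phi S ρ c x n⁻¹ = ((sph Δ c (cs.simple i) : ℂ) ^ 2)⁻¹

variable (S ρ) in
/-- `(-1) ^ ℓ(w) q_w phi g` -/
noncomputable def lam (c : C) (x : V) (g : G) : ℂ :=
  (-1) ^ ℓ (Δ.δ c (g • c)) * (sph Δ c (Δ.δ c (g • c)) : ℂ) * phi S ρ c x g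

theorem sph_one : sph Δ c (1 : W) = 1 := by
  unfold sph
  rw [Nat.card_eq_one_iff_unique]
  refine ⟨⟨fun a b => Subtype.ext ?_⟩, ⟨⟨c, Δ.δ_self c⟩⟩⟩
  rw [← Δ.eq_of_δ_eq_one a.2, ← Δ.eq_of_δ_eq_one b.2]

theorem sph_const (h : ROne S ρ c x) (w : W) (y y' : C) : sph Δ y w = sph Δ y' w := by
  obtain ⟨g, rfl⟩ := h.ht y y'
  exact (sph_smul Δ S.iso g y w).symm

theorem lam_stab {b : G} (hb : b • c = c) : lam S ρ c x b = phi S ρ c x b := by
  unfold lam
  rw [hb, Δ.δ_self, cs.length_one, pow_zero, one_mul, sph_one, Nat.cast_one, one_mul]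

theorem lam_simple {i : I} {g : G} (hg : Δ.δ c (g • c) = cs.simple i) :
    lam S ρ c x g = -(sph Δ c (cs.simple i) : ℂ) * phi S ρ c x g := by
  unfold lam
  rw [hg, cs.length_simple, pow_one]
  ring

theorem lam_add (h : ROne S ρ c x) {g k : G}
    (hl : ℓ (Δ.δ c (g • c) * Δ.δ c (k • c)) = ℓ (Δ.δ c (g • c)) + ℓ (Δ.δ c (k • c))) :
    lam S ρ c x (g * k) = lam S ρ c x g * lam S ρ c x k := by
  have h1 : Δ.δ (g • c) ((g * k) • c) = Δ.δ c (k • c) := by rw [mul_smul, S.iso]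
  have h2 : Δ.δ c ((g * k) • c) = Δ.δ c (g • c) * Δ.δ c (k • c) := Δ.δ_mul_of rfl h1 hl
  unfold lam
  rw [h2, sph_mul Δ c hl (fun y y' => sph_const h _ y y'), hl, pow_add, phi_mul h.ctx hl]
  push_cast
  ring

theorem lam_pan [FiniteDimensional ℂ V] (h : ROne S ρ c x) {i : I} {g k : G} (hg : Δ.δ c (g • c) = cs.simple i)
    (hk : Δ.δ c (k • c) = cs.simple i) : lam S ρ c x (g * k) = lam S ρ c x g * lam S ρ c x k := by
  have hq0 : (sph Δ c (cs.simple i) : ℂ) ≠ 0 := by
    have := sph_pos Δ c (cs.simple i)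
    exact_mod_cast this.ne'
  rw [lam_simple hg, lam_simple hk]
  by_cases hgk : (g * k) • c = c
  · rw [lam_stab hgk]
    have e : k = g⁻¹ * (g * k) := by group
    have h1 : phi S ρ c x k = phi S ρ c x g⁻¹ * phi S ρ c x (g * k) := by
      conv_lhs => rw [e]
      rw [phi_mul_right h.ctx hgk]
    have h2 := h.kap i g hg
    rw [h1]
    have h3 : phi S ρ c x g * phi S ρ c x g⁻¹ * (sph Δ c (cs.simple i) : ℂ) ^ 2 = 1 := by
      rw [h2, inv_mul_cancel₀ (pow_ne_zero 2 hq0)]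
    linear_combination (-phi S ρ c x (g * k)) * h3
  · have h1 : Δ.δ c ((g * k) • c) = cs.simple i := by
      have h2 : (g * k) • c ∈ Δ.Pan i (g • c) := by
        rw [mul_smul, mem_Pan, S.iso]
        exact Or.inr hk
      have h3 := Δ.mem_Pan_trans (Δ.mem_Pan_of_δ hg) h2
      rcases h3 with h3 | h3
      · exact absurd h3 hgk
      · exact h3
    rw [lam_simple h1, phi_pan h.ctx h.ht (h.dim i) (h.kap i) hg hk hgk]
    ring

theorem lam_mul_simple [FiniteDimensional ℂ V] (h : ROne S ρ c x) {i : I} (g : G) {k : G}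
    (hk : Δ.δ c (k • c) = cs.simple i) : lam S ρ c x (g * k) = lam S ρ c x g * lam S ρ c x k := by
  set w := Δ.δ c (g • c) with hw
  rcases cs.length_mul_simple w i with hl | hl
  · exact lam_add h (by rw [← hw, hk, hl, cs.length_simple])
  · -- `w = w' s`
    have hw' : w = w * cs.simple i * cs.simple i := by rw [mul_assoc, cs.simple_mul_simple_self, mul_one]
    have hl' : ℓ (w * cs.simple i * cs.simple i) = ℓ (w * cs.simple i) + ℓ (cs.simple i) := by
      rw [← hw', cs.length_simple]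
      omega
    obtain ⟨e, he1, he2⟩ := Δ.exists_between (x := c) (z := g • c) (hw.symm.trans hw') hl'
    obtain ⟨g', rfl⟩ := h.ht c e
    set k' := g'⁻¹ * g with hk'
    have hg : g = g' * k' := by rw [hk']; group
    have hk's : Δ.δ c (k' • c) = cs.simple i := by
      rw [← S.iso g', ← mul_smul, ← hg]
      exact he2
    have h1 : lam S ρ c x g = lam S ρ c x g' * lam S ρ c x k' := by
      conv_lhs => rw [hg]
      refine lam_add h ?_
      rw [he1, hk's, hl']
    have h2 : lam S ρ c x (g' * (k' * k)) = lam S ρ c x g' * lam S ρ c x (k' * k) := by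
      refine lam_add h ?_
      rw [he1]
      have h3 : (k' * k) • c ∈ Δ.Pan i c := by
        have h4 : (k' * k) • c ∈ Δ.Pan i (k' • c) := by
          rw [mul_smul k' k c, mem_Pan, S.iso]
          exact Or.inr hk
        exact Δ.mem_Pan_trans (Δ.mem_Pan_of_δ hk's) h4
      rcases h3 with h3 | h3
      · rw [h3, Δ.δ_self, mul_one, cs.length_one, add_zero]
      · rw [h3, hl']
    rw [h1, hg, mul_assoc, h2, lam_pan h hk's hk, mul_assoc]

/-- **`lam` is multiplicative.** -/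
theorem lam_mul [FiniteDimensional ℂ V] (h : ROne S ρ c x) (g k : G) :
    lam S ρ c x (g * k) = lam S ρ c x g * lam S ρ c x k := by
  obtain ⟨n, hn⟩ : ∃ n, ℓ (Δ.δ c (k • c)) = n := ⟨_, rfl⟩
  induction n generalizing k with
  | zero =>
    have h1 := cs.length_eq_zero_iff.1 hn
    exact lam_add h (by rw [h1, mul_one, cs.length_one, add_zero])
  | succ n ih =>
    set w := Δ.δ c (k • c) with hw
    have hne : w ≠ 1 := fun h1 => by rw [h1, cs.length_one] at hn; omega
    obtain ⟨i, hi⟩ := cs.exists_rightDescent_of_ne_one hne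
    rw [cs.isRightDescent_iff] at hi
    have hw' : w = w * cs.simple i * cs.simple i := by rw [mul_assoc, cs.simple_mul_simple_self, mul_one]
    have hl' : ℓ (w * cs.simple i * cs.simple i) = ℓ (w * cs.simple i) + ℓ (cs.simple i) := by
      rw [← hw', cs.length_simple]
      omega
    obtain ⟨e, he1, he2⟩ := Δ.exists_between (x := c) (z := k • c) (hw.symm.trans hw') hl'
    obtain ⟨k₁, rfl⟩ := h.ht c e
    set k₂ := k₁⁻¹ * k with hk₂
    have hk : k = k₁ * k₂ := by rw [hk₂]; group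
    have hk₂s : Δ.δ c (k₂ • c) = cs.simple i := by
      rw [← S.iso k₁, ← mul_smul, ← hk]
      exact he2
    have h1 := ih k₁ (by rw [he1]; omega)
    rw [hk, ← mul_assoc, lam_mul_simple h _ hk₂s, lam_mul_simple h _ hk₂s, h1, mul_assoc]

/-- **The value of `phi` if `G` is perfect.** -/
theorem phi_eq_of_perfect [FiniteDimensional ℂ V] (h : ROne S ρ c x) (hG : commutator G = ⊤) (g : G) :
    phi S ρ c x g = (-1) ^ ℓ (Δ.δ c (g • c)) / (sph Δ c (Δ.δ c (g • c)) : ℂ) := by
  let Λ : G →* ℂ :=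
    { toFun := lam S ρ c x
      map_one' := by rw [lam_stab (one_smul G c), phi_one h.ctx]
      map_mul' := lam_mul h }
  have h1 : Λ.toHomUnits.ker = ⊤ := by
    rw [eq_top_iff, ← hG]
    exact Abelianization.commutator_subset_ker Λ.toHomUnits
  have h2 : Λ g = 1 := by
    have h3 : g ∈ Λ.toHomUnits.ker := by rw [h1]; trivial
    have h4 := congrArg (fun z : ℂˣ => (z : ℂ)) (MonoidHom.mem_ker.1 h3)
    exact h4
  have h3 : (-1) ^ ℓ (Δ.δ c (g • c)) * (sph Δ c (Δ.δ c (g • c)) : ℂ) * phi S ρ c x g = 1 := h2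
  have hq0 : (sph Δ c (Δ.δ c (g • c)) : ℂ) ≠ 0 := by
    have := sph_pos Δ c (Δ.δ c (g • c))
    exact_mod_cast this.ne'
  have h4 : ((-1 : ℂ) ^ ℓ (Δ.δ c (g • c))) * ((-1 : ℂ) ^ ℓ (Δ.δ c (g • c))) = 1 := by
    rw [← mul_pow]
    norm_num
  rw [eq_div_iff hq0]
  linear_combination (-1 : ℂ) ^ ℓ (Δ.δ c (g • c)) * h3 -
    (sph Δ c (Δ.δ c (g • c)) : ℂ) * phi S ρ c x g * h4

end Lambda

/-! ### the number theory -/

theorem num {M : Ideal AlgInt} (hM : IsPModular p M) {q a D : ℕ} (hq : q = p ^ a) (ha : a ≠ 0) (hD0 : 0 < D)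
    (hD : D ≤ q + 1) {ν : ℂ} (h1 : MemLocalRing M ν) (h2 : ¬ MemLocalIdeal M ν)
    (h : ((q : ℂ) + ν) * D = q * (q + 1)) : D = q ∧ ν = 1 := by
  have hp : p.Prime := hM.1
  have hq2 : 2 ≤ q := by
    rw [hq]
    calc 2 ≤ p := hp.two_le
      _ = p ^ 1 := (pow_one p).symm
      _ ≤ p ^ a := Nat.pow_le_pow_right hp.pos (Nat.one_le_iff_ne_zero.2 ha)
  have hqM : MemLocalIdeal M (q : ℂ) := by
    rw [Blocks.LocalRing.memLocalIdeal_natCast_iff hM, hq]
    exact dvd_pow_self p ha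
  have hqν : ¬ MemLocalIdeal M ((q : ℂ) + ν) := by
    intro h3
    apply h2
    have := Blocks.LocalRing.memLocalIdeal_sub hM h3 hqM
    rwa [add_sub_cancel_left] at this
  have hqνR : MemLocalRing M ((q : ℂ) + ν) :=
    Blocks.LocalRing.memLocalRing_add hM (Blocks.LocalRing.memLocalRing_natCast hM q) h1
  obtain ⟨m, hm, hDm⟩ : ∃ m, ¬ p ∣ m ∧ D = p ^ D.factorization p * m :=
    ⟨D / p ^ D.factorization p, Nat.not_dvd_ordCompl hp hD0.ne', (Nat.ordProj_mul_ordCompl_eq_self D p).symm⟩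
  set b := D.factorization p with hb
  have hab : a ≤ b := by
    by_contra hlt
    push Not at hlt
    have h3 : ((q : ℂ) + ν) * m = (p ^ (a - b) * (q + 1) : ℕ) := by
      have hpb : ((p : ℂ) ^ b) ≠ 0 := pow_ne_zero _ (by exact_mod_cast hp.ne_zero)
      apply mul_left_cancel₀ hpb
      have h4 : ((q : ℂ)) = (p : ℂ) ^ b * (p : ℂ) ^ (a - b) := by
        rw [← pow_add, hq]
        push_cast
        congr 1
        omega
      have h5 : (D : ℂ) = (p : ℂ) ^ b * m := by rw [hDm]; push_cast; rfl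
      rw [h5] at h
      push_cast
      calc (p : ℂ) ^ b * (((q : ℂ) + ν) * m) = ((q : ℂ) + ν) * ((p : ℂ) ^ b * m) := by ring
        _ = q * (q + 1) := h
        _ = (p : ℂ) ^ b * ((p : ℂ) ^ (a - b) * (q + 1)) := by rw [← mul_assoc, ← h4]
    have h4 : MemLocalIdeal M (((q : ℂ) + ν) * m) := by
      rw [h3, Blocks.LocalRing.memLocalIdeal_natCast_iff hM]
      exact Dvd.dvd.mul_right (dvd_pow_self p (by omega)) _
    rw [Blocks.LocalRing.memLocalIdeal_mul_iff hM hqνR (Blocks.LocalRing.memLocalRing_natCast hM m)] at h4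
    rcases h4 with h4 | h4
    · exact hqν h4
    · rw [Blocks.LocalRing.memLocalIdeal_natCast_iff hM] at h4
      exact hm h4
  have hqD : q ∣ D := by
    rw [hq, hDm]
    exact Dvd.dvd.mul_right (pow_dvd_pow p hab) _
  have hDq : D = q := by
    obtain ⟨k, hk⟩ := hqD
    have hk0 : k ≠ 0 := by
      rintro rfl
      omega
    have hk1 : k < 2 := by
      by_contra hk2
      push Not at hk2
      have : q * 2 ≤ q * k := Nat.mul_le_mul_left q hk2
      omega
    have : k = 1 := by omega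
    rw [hk, this, mul_one]
  refine ⟨hDq, ?_⟩
  rw [hDq] at h
  have hq0 : (q : ℂ) ≠ 0 := by exact_mod_cast (by omega : q ≠ 0)
  have h3 : (q : ℂ) * (q + ν) = q * (q + 1) := by rw [mul_comm]; exact h
  have h4 := mul_left_cancel₀ hq0 h3
  exact add_left_cancel h4

/-! ### characters of defect zero -/

section Core

variable {S} [Fintype I] [Finite W] [Finite G] [Fintype C]

include S in
theorem two_le_sph (hth : Δ.Thick) (ht : ∀ x y : C, ∃ g : G, g • x = y) (c : C) {w : W} (hw : w ≠ 1) :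
    2 ≤ sph Δ c w := by
  obtain ⟨i, hi⟩ := cs.exists_leftDescent_of_ne_one hw
  have hi' : ℓ (cs.simple i * w) < ℓ w := hi
  have e : cs.simple i * (cs.simple i * w) = w := by rw [← mul_assoc, cs.simple_mul_simple_self, one_mul]
  have hl : ℓ (cs.simple i * (cs.simple i * w)) = ℓ (cs.simple i) + ℓ (cs.simple i * w) := by
    rw [e, cs.length_simple]
    have := cs.length_simple_mul w i
    omega
  have h1 := sph_mul Δ c hl (fun y y' => by
    obtain ⟨g, rfl⟩ := ht y y'
    exact (sph_smul Δ S.iso g y _).symm)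
  rw [e] at h1
  have h2 : 2 ≤ sph Δ c (cs.simple i) := by
    obtain ⟨y, z, hyz, hy, hz⟩ := hth c i
    unfold sph
    have : Nontrivial {z // Δ.δ c z = cs.simple i} := ⟨⟨⟨y, hy⟩, ⟨z, hz⟩, fun h => hyz (congrArg Subtype.val h)⟩⟩
    exact Finite.one_lt_card
  have h3 := sph_pos Δ c (cs.simple i * w)
  rw [h1]
  calc 2 ≤ sph Δ c (cs.simple i) := h2
    _ ≤ sph Δ c (cs.simple i) * sph Δ c (cs.simple i * w) := Nat.le_mul_of_pos_right _ h3

include S in
theorem sph_w0_eq (ht : ∀ x y : C, ∃ g : G, g • x = y) (c : C) (w : W) :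
    sph Δ c w * sph Δ c (w⁻¹ * w0 cs) = sph Δ c (w0 cs) := by
  have hl : ℓ (w * (w⁻¹ * w0 cs)) = ℓ w + ℓ (w⁻¹ * w0 cs) := by
    have h1 := length_mul_w0 cs w⁻¹
    rw [cs.length_inv] at h1
    rw [mul_inv_cancel_left]
    omega
  have h1 := sph_mul Δ c hl (fun y y' => by
    obtain ⟨g, rfl⟩ := ht y y'
    exact (sph_smul Δ S.iso g y _).symm)
  rw [mul_inv_cancel_left] at h1
  exact h1.symm

variable (S) in
theorem card_U_w0 (c : C) : Nat.card (S.U c) = sph Δ c (w0 cs) := by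
  have F : OppRes.Cox cs := inferInstance
  obtain ⟨f, hf⟩ := Δ.exists_δ c (w0 cs)
  have h0 := card_U S c f
  rwa [U_inf_opp S (show Δ.Opp c f from hf), Subgroup.card_bot, mul_one, hf] at h0

theorem exists_inf (hth : Δ.Thick) (ht : ∀ x y : C, ∃ g : G, g • x = y) {c d : C} (hcd : ¬ Δ.Opp c d) :
    ∃ z ∈ S.U c, z ∈ S.U d ∧ z ≠ 1 := by
  have F : OppRes.Cox cs := inferInstance
  by_contra hcon
  push Not at hcon
  have h1 : S.U c ⊓ S.U d = ⊥ := by
    rw [eq_bot_iff]
    rintro z ⟨hz, hz'⟩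
    exact Subgroup.mem_bot.2 (hcon z hz hz')
  have h2 := card_U S c d
  rw [h1, Subgroup.card_bot, mul_one, card_U_w0 S c, ← sph_w0_eq (S := S) ht c (Δ.δ c d)] at h2
  have h3 : (Δ.δ c d)⁻¹ * w0 cs ≠ 1 := by
    intro h4
    apply hcd
    exact inv_mul_eq_one.1 h4
  have h4 := two_le_sph (S := S) hth ht c h3
  have h5 := sph_pos Δ c (Δ.δ c d)
  have h6 : sph Δ c (Δ.δ c d) * 2 ≤ sph Δ c (Δ.δ c d) * sph Δ c ((Δ.δ c d)⁻¹ * w0 cs) :=
    Nat.mul_le_mul_left _ h4
  omega

theorem card_Rg {c : C} (g : G) :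
    Nat.card (H996.DefectZero.Rg (S.U c) g) = Nat.card ↥(S.U c ⊓ S.U (g • c)) := by
  refine Nat.card_congr ⟨fun u => ⟨u.1.1, u.1.2, ?_⟩, fun u => ⟨⟨u.1, u.2.1⟩, ?_⟩, fun u => rfl, fun u => rfl⟩
  · have h1 := S.conj_mem_U (H996.DefectZero.mem_Rg.1 u.2) g
    have e : g * (g⁻¹ * ((u.1 : S.U c) : G) * g) * g⁻¹ = u.1 := by group
    rwa [e] at h1
  · rw [H996.DefectZero.mem_Rg, ← S.conj_mem_U_iff (g := g)]
    have e : g * (g⁻¹ * (u : G) * g) * g⁻¹ = u := by group
    rw [e]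
    exact u.2.2

/-- **The rank one data of an irreducible representation of defect zero.** -/
theorem exists_rone {V : Type*} [AddCommGroup V] [Module ℂ V] [FiniteDimensional ℂ V] {ρ : Representation ℂ G V}
    {M : Ideal AlgInt} (hM : IsPModular p M) (hρ : ρ.IsIrreducible) {g₀ : G}
    (h1 : MemLocalRing M ((Nat.card G : ℂ) * ρ.character g₀ / (Module.finrank ℂ V : ℂ)))
    (h2 : ¬ MemLocalIdeal M ((Nat.card G : ℂ) * ρ.character g₀ / (Module.finrank ℂ V : ℂ)))
    (hth : Δ.Thick) (ht : ∀ x y : C, ∃ g : G, g • x = y) {c a0 : C} (ha0 : Δ.Opp c a0)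
    (hT : ∀ s t : G, s • c = c → s • a0 = a0 → t • c = c → t • a0 = a0 → s * t = t * s)
    (hfix : ∃ v : V, v ≠ 0 ∧ ∀ u ∈ S.U c, ρ u v = v) : ∃ x : V, ROne S ρ c x := by
  have F : OppRes.Cox cs := inferInstance
  have hp : p.Prime := hM.1
  have : Fact p.Prime := ⟨hp⟩
  obtain ⟨n₀, hn₀⟩ := ht c a0
  let T : Subgroup G := MulAction.stabilizer G c ⊓ MulAction.stabilizer G a0
  have hmT : ∀ t, t ∈ T ↔ t • c = c ∧ t • a0 = a0 := fun t => Iff.rfl
  have hTU : ∀ t : G, t • c = c → ∀ u ∈ S.U c, t⁻¹ * u * t ∈ S.U c := by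
    intro t htc u hu
    have h3 := S.conj_mem_U hu t⁻¹
    rwa [inv_inv, smul_inv_eq htc] at h3
  have hcell : ∀ g : G, (∃ u ∈ S.U c, ∃ t ∈ T, ∃ u' ∈ S.U c, g = u * n₀ * t * u') ∨
      ∃ z ∈ S.U c, z ≠ 1 ∧ g⁻¹ * z * g ∈ S.U c := by
    intro g
    by_cases hg : Δ.Opp c (g • c)
    · left
      obtain ⟨u, hu, hua⟩ := S.trans c a0 (g • c) ha0 hg
      set b := n₀⁻¹ * u⁻¹ * g with hb
      have hbc : b • c = c := by
        rw [hb, mul_smul, ← hua, mul_smul, inv_smul_smul, ← hn₀, inv_smul_smul]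
      have hba : Δ.Opp c (b • a0) := by
        have := S.iso b c a0
        rw [hbc] at this
        exact this.trans ha0
      obtain ⟨u'', hu'', hu''a⟩ := S.trans c a0 (b • a0) ha0 hba
      have htT : u''⁻¹ * b ∈ T := by
        rw [hmT]
        constructor
        · rw [mul_smul, hbc]
          exact smul_inv_eq (S.fix c u'' hu'')
        · rw [mul_smul, ← hu''a, inv_smul_smul]
      refine ⟨u, hu, u''⁻¹ * b, htT, (u''⁻¹ * b)⁻¹ * u'' * (u''⁻¹ * b), hTU _ ((hmT _).1 htT).1 u'' hu'', ?_⟩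
      rw [hb]
      group
    · right
      obtain ⟨z, hz, hz', hz1⟩ := exists_inf (S := S) hth ht hg
      refine ⟨z, hz, hz1, ?_⟩
      rw [← S.conj_mem_U_iff (g := g)]
      have e : g * (g⁻¹ * z * g) * g⁻¹ = z := by group
      rwa [e]
  obtain ⟨x, hx0, hxU, -, huniq, ⟨β, hβ1, hβ2, hβ⟩, hτ⟩ := H996.DefectZero.core hM ρ hρ h1 h2 (S.U c) T (S.isP c)
    (fun t htt u hu => hTU t ((hmT t).1 htt).1 u hu)
    (fun s hs t htt => hT s t ((hmT s).1 hs).1 ((hmT s).1 hs).2 ((hmT t).1 htt).1 ((hmT t).1 htt).2) n₀ hcell hfix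
  have hctx : Ctx S ρ c x := ⟨hx0, hxU, huniq⟩
  -- the local integers
  have hphi : ∀ g : G, ∃ τ : ℂ, MemLocalRing M τ ∧ phi S ρ c x g = τ / (sph Δ c (Δ.δ c (g • c)) : ℂ) := by
    intro g
    obtain ⟨τ, hτ1, hτ2⟩ := hτ g
    refine ⟨τ, hτ1, hctx.phi_eq ?_⟩
    rw [av_eq_sig, hτ2, card_Rg, smul_smul, smul_smul]
    congr 1
    have h3 := card_U S c (g • c)
    have h4 := card_ne (S.U c ⊓ S.U (g • c))
    have h5 : (sph Δ c (Δ.δ c (g • c)) : ℂ) ≠ 0 := by
      have := sph_pos Δ c (Δ.δ c (g • c))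
      exact_mod_cast this.ne'
    rw [h3]
    push_cast
    field_simp
  have hphin₀ : phi S ρ c x n₀ = β / (sph Δ c (w0 cs) : ℂ) := by
    apply hctx.phi_eq
    rw [av_eq_sig, hβ, smul_smul, card_U_w0 S c]
    congr 1
    ring
  have hstabR : ∀ b : G, b • c = c → MemLocalRing M (phi S ρ c x b) := by
    intro b hb
    obtain ⟨τ, hτ1, hτ2⟩ := hphi b
    rw [hτ2, hb, Δ.δ_self, sph_one, Nat.cast_one, div_one]
    exact hτ1
  have hstabU : ∀ b : G, b • c = c → ¬ MemLocalIdeal M (phi S ρ c x b) := by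
    intro b hb h3
    have h4 := Blocks.LocalRing.memLocalIdeal_mul_right hM h3 (hstabR b⁻¹ (smul_inv_eq hb))
    rw [phi_stab_inv hctx hb] at h4
    exact Blocks.LocalRing.not_memLocalIdeal_one hM h4
  -- units
  have hunit : ∀ (i : I) (g : G), Δ.δ c (g • c) = cs.simple i → ∃ τ : ℂ, MemLocalRing M τ ∧ ¬ MemLocalIdeal M τ ∧
      phi S ρ c x g = τ / (sph Δ c (cs.simple i) : ℂ) := by
    intro i g hg
    obtain ⟨τ, hτ1, hτ2⟩ := hphi g
    rw [hg] at hτ2
    refine ⟨τ, hτ1, ?_, hτ2⟩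
    intro h3
    obtain ⟨y, hy⟩ := Δ.exists_δ c ((cs.simple i)⁻¹ * w0 cs)
    obtain ⟨m, rfl⟩ := ht c y
    obtain ⟨σ, hσ1, hσ2⟩ := hphi m
    rw [hy] at hσ2
    have hl : ℓ (Δ.δ c (g • c) * Δ.δ c (m • c)) = ℓ (Δ.δ c (g • c)) + ℓ (Δ.δ c (m • c)) := by
      rw [hg, hy, mul_inv_cancel_left]
      have h4 := length_mul_w0 cs (cs.simple i)⁻¹
      rw [cs.length_inv] at h4
      omega
    have h4 := phi_mul hctx hl
    have h5 : Δ.δ c (n₀ • c) = Δ.δ c ((g * m) • c) := by
      have h6 : Δ.δ (g • c) ((g * m) • c) = Δ.δ c (m • c) := by rw [mul_smul, S.iso]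
      rw [Δ.δ_mul_of rfl h6 hl, hg, hy, mul_inv_cancel_left, hn₀]
      exact ha0
    obtain ⟨u, hu, b, hb, e⟩ := exists_dec (S := S) h5
    rw [e, phi_dec hctx hu hb, hphin₀, hτ2, hσ2] at h4
    have h6 := sph_w0_eq (S := S) ht c (cs.simple i)
    have h7 : (sph Δ c (cs.simple i) : ℂ) ≠ 0 := by
      have := sph_pos Δ c (cs.simple i)
      exact_mod_cast this.ne'
    have h8 : (sph Δ c ((cs.simple i)⁻¹ * w0 cs) : ℂ) ≠ 0 := by
      have := sph_pos Δ c ((cs.simple i)⁻¹ * w0 cs)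
      exact_mod_cast this.ne'
    have h9 : β * phi S ρ c x b = τ * σ := by
      rw [← h6] at h4
      push_cast at h4
      field_simp at h4
      exact h4
    have h10 : MemLocalIdeal M (β * phi S ρ c x b) := by
      rw [h9]
      exact Blocks.LocalRing.memLocalIdeal_mul_right hM h3 hσ1
    rw [Blocks.LocalRing.memLocalIdeal_mul_iff hM hβ1 (hstabR b hb)] at h10
    rcases h10 with h10 | h10
    · exact hβ2 h10
    · exact hstabU b hb h10
  -- the rank one relations
  have key : ∀ (i : I) (n : G), Δ.δ c (n • c) = cs.simple i →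
      Module.finrank ℂ (Wp Δ ρ i c x) = sph Δ c (cs.simple i) ∧
        phi S ρ c x n * phi S ρ c x n⁻¹ = ((sph Δ c (cs.simple i) : ℂ) ^ 2)⁻¹ := by
    intro i n hn
    obtain ⟨τ, hτ1, hτ2, hτ3⟩ := hunit i n hn
    obtain ⟨σ, hσ1, hσ2, hσ3⟩ := hunit i n⁻¹ (delta_inv (S := S) hn)
    have hs1 : cs.simple i ≠ 1 := by
      intro h3
      have h4 := cs.length_simple i
      rw [h3, cs.length_one] at h4
      exact absurd h4 (by norm_num)
    have hq2 := two_le_sph (S := S) hth ht c hs1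
    have hq0 : (sph Δ c (cs.simple i) : ℂ) ≠ 0 := by exact_mod_cast (by omega : sph Δ c (cs.simple i) ≠ 0)
    obtain ⟨a, ha⟩ : ∃ a, sph Δ c (cs.simple i) = p ^ a := by
      have h3 := card_U S c (n • c)
      rw [hn] at h3
      obtain ⟨k, hk⟩ := (S.isP c).exists_card_eq
      have h4 : sph Δ c (cs.simple i) ∣ p ^ k := by
        rw [← hk, h3]
        exact dvd_mul_right _ _
      obtain ⟨a, -, ha⟩ := (Nat.dvd_prime_pow hp).1 h4
      exact ⟨a, ha⟩
    have ha0' : a ≠ 0 := by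
      rintro rfl
      rw [pow_zero] at ha
      omega
    set q := sph Δ c (cs.simple i) with hq
    have hνR : MemLocalRing M (τ * σ) := Blocks.LocalRing.memLocalRing_mul hM hτ1 hσ1
    have hνI : ¬ MemLocalIdeal M (τ * σ) := by
      rw [Blocks.LocalRing.memLocalIdeal_mul_iff hM hτ1 hσ1]
      rintro (h3 | h3)
      · exact hτ2 h3
      · exact hσ2 h3
    have hqM : MemLocalIdeal M (q : ℂ) := by
      rw [Blocks.LocalRing.memLocalIdeal_natCast_iff hM, ha]
      exact dvd_pow_self p ha0'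
    have hκ : phi S ρ c x n * phi S ρ c x n⁻¹ = (τ * σ) / (q : ℂ) ^ 2 := by
      rw [hτ3, hσ3]
      field_simp
    have hqν : (q : ℂ) + τ * σ ≠ 0 := by
      intro h3
      apply hνI
      have h4 : τ * σ = -(q : ℂ) := by linear_combination h3
      rw [h4]
      exact Blocks.LocalRing.memLocalIdeal_neg hqM
    have hlam : (1 : ℂ) + (q : ℂ) * (phi S ρ c x n * phi S ρ c x n⁻¹) = ((q : ℂ) + τ * σ) / q := by
      rw [hκ]
      field_simp
    have h3 := finrank_eq hctx hn ht (by rw [← hq, hlam]; exact div_ne_zero hqν hq0)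
    rw [← hq, hlam] at h3
    have h4 : ((q : ℂ) + τ * σ) * (Module.finrank ℂ (Wp Δ ρ i c x) : ℂ) = q * (q + 1) := by
      rw [← h3]
      field_simp
    obtain ⟨hD, hν⟩ := num (p := p) hM ha ha0' (finrank_pos hctx) (finrank_le hctx ht) hνR hνI h4
    refine ⟨hD, ?_⟩
    rw [hκ, hν, one_div]
  refine ⟨x, hctx, ht, fun i => ?_, fun i n hn => (key i n hn).2⟩
  obtain ⟨y, hy⟩ := Δ.exists_δ c (cs.simple i)
  obtain ⟨n, rfl⟩ := ht c y
  exact (key i n hy).1

end Core

end Cfsg.Agent.H330.GowUniq
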