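import Mathlib
import Cfsg.Prelude.Def_TwoFusion
import Cfsg.Prelude.Def_SporadicB
import Cfsg.Agent.ThreePrime.Transfer
import Cfsg.Agent.H94.Matching

/-!
# A 2-central involution `J` with `C(J) = ⟨J⟩ × A_m`: then `m = 4` or `m = 5` (fusion part of S3285)
-/

set_option autoImplicit false
open Cfsg Subgroup

namespace Cfsg.Agent.H330.TwoTimes

variable {G : Type*} [Group G]

/-- `J` is an involution in the centre of the Sylow 2-subgroup `P` and `C(J) = ⟨J⟩ × T`. -/
structure Dat (P : Sylow 2 G) (J : G) (T : Subgroup G) : Prop where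
  ord : orderOf J = 2
  mem : J ∈ (P : Subgroup G)
  cen : ∀ x ∈ (P : Subgroup G), x * J = J * x
  dir : Cfsg.IsInternalDirectProduct (zpowers J) T (centralizer ({J} : Set G))

namespace Dat

variable {P : Sylow 2 G} {J : G} {T : Subgroup G}

theorem JJ (D : Dat P J T) : J * J = 1 := by
  have := pow_orderOf_eq_one J
  rwa [D.ord, pow_two] at this

theorem ne_one (D : Dat P J T) : J ≠ 1 := by
  intro h
  have := D.ord
  rw [h, orderOf_one] at this
  exact absurd this (by norm_num)

theorem J_notMem (D : Dat P J T) : J ∉ T := by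
  intro h
  have h1 : J ∈ (zpowers J ⊓ T : Subgroup G) := ⟨mem_zpowers J, h⟩
  rw [D.dir.2.2.2.1, mem_bot] at h1
  exact D.ne_one h1

theorem comm (D : Dat P J T) {t : G} (ht : t ∈ T) : J * t = t * J :=
  D.dir.2.2.1 J (mem_zpowers J) t ht

theorem T_le (D : Dat P J T) : T ≤ centralizer ({J} : Set G) := D.dir.2.1

theorem P_le (D : Dat P J T) : (P : Subgroup G) ≤ centralizer ({J} : Set G) := fun x hx =>
  mem_centralizer_singleton_iff.2 (D.cen x hx)

/-- every element of `C(J)` is in `T` or in `J T` -/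
theorem cases (D : Dat P J T) {c : G} (hc : c ∈ centralizer ({J} : Set G)) : c ∈ T ∨ J * c ∈ T := by
  have JJ := D.JJ
  have h1 : ∀ c, J * c ∈ T → c * J = J * c := by
    intro c hc
    have h := D.comm hc
    rw [← mul_assoc, JJ, one_mul] at h
    calc c * J = (J * c * J) * J := by rw [← h]
      _ = J * c * (J * J) := by group
      _ = J * c := by rw [JJ, mul_one]
  let E : Subgroup G :=
    { carrier := {c | c ∈ T ∨ J * c ∈ T}
      one_mem' := Or.inl (one_mem T)
      mul_mem' := by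
        rintro a b (ha | ha) (hb | hb)
        · exact Or.inl (mul_mem ha hb)
        · refine Or.inr ?_
          rw [← mul_assoc, D.comm ha, mul_assoc]
          exact mul_mem ha hb
        · refine Or.inr ?_
          rw [← mul_assoc]
          exact mul_mem ha hb
        · refine Or.inl ?_
          have h2 : a * b = (J * a) * (J * b) := by
            rw [← h1 a ha]
            calc a * b = a * (1 * b) := by rw [one_mul]
              _ = a * (J * J * b) := by rw [JJ]
              _ = a * J * (J * b) := by group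
          rw [h2]
          exact mul_mem ha hb
      inv_mem' := by
        rintro a (ha | ha)
        · exact Or.inl (inv_mem ha)
        · refine Or.inr ?_
          have h2 := h1 a ha
          have h3 : J * a⁻¹ = (J * a)⁻¹ := by
            rw [mul_inv_rev]
            have h4 : J⁻¹ = J := inv_eq_of_mul_eq_one_left JJ
            rw [h4]
            calc J * a⁻¹ = a⁻¹ * (a * J) * a⁻¹ := by group
              _ = a⁻¹ * (J * a) * a⁻¹ := by rw [h2]
              _ = _ := by group
          rw [h3]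
          exact inv_mem ha }
  have hE : zpowers J ⊔ T ≤ E := by
    rw [sup_le_iff]
    refine ⟨?_, fun x hx => Or.inl hx⟩
    rw [zpowers_le]
    exact Or.inr (by rw [JJ]; exact one_mem T)
  rw [D.dir.2.2.2.2] at hE
  exact hE hc

theorem mul_mem_iff (D : Dat P J T) {b : G} (hb : b ∈ centralizer ({J} : Set G)) : b * J ∈ T ↔ b ∉ T := by
  have hbJ : b * J = J * b := mem_centralizer_singleton_iff.1 hb
  constructor
  · intro h1 h2
    apply D.J_notMem
    have : J = b⁻¹ * (b * J) := by group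
    rw [this]
    exact mul_mem (inv_mem h2) h1
  · intro h1
    rcases D.cases hb with h | h
    · exact absurd h h1
    · rw [hbJ]; exact h

theorem relIndex_T (D : Dat P J T) : T.relIndex (centralizer ({J} : Set G)) = 2 := by
  rw [relIndex, index_eq_two_iff]
  refine ⟨⟨J, mem_centralizer_singleton_iff.2 rfl⟩, fun b => ?_⟩
  rw [mem_subgroupOf, mem_subgroupOf]
  have := D.mul_mem_iff b.2
  by_cases hb : (b : G) ∈ T
  · refine Or.inr ⟨hb, fun h => (this.1 h) hb⟩
  · exact Or.inl ⟨this.2 hb, hb⟩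

theorem relIndex_P (D : Dat P J T) : ((P : Subgroup G) ⊓ T).relIndex (P : Subgroup G) = 2 := by
  rw [relIndex, index_eq_two_iff]
  refine ⟨⟨J, D.mem⟩, fun b => ?_⟩
  rw [mem_subgroupOf, mem_subgroupOf]
  have := D.mul_mem_iff (D.P_le b.2)
  by_cases hb : (b : G) ∈ T
  · refine Or.inr ⟨⟨b.2, hb⟩, fun h => (this.1 h.2) hb⟩
  · exact Or.inl ⟨⟨mul_mem b.2 D.mem, this.2 hb⟩, fun h => hb h.2⟩

/-- **transfer**: `J` is conjugate in `N(P)` to an element of `P ∩ T`. -/
theorem exists_conj [Finite G] (D : Dat P J T) (hG : ∀ N : Subgroup G, N.index ≠ 2) :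
    ∃ g : G, g * J * g⁻¹ ∈ (P : Subgroup G) ⊓ T ∧ ∀ c ∈ (P : Subgroup G), g * c * g⁻¹ ∈ (P : Subgroup G) := by
  obtain ⟨g, hg, hgc⟩ := ThreePrime.Transfer.exists_conj P (S₀ := (P : Subgroup G) ⊓ T) inf_le_left D.relIndex_P
    hG (s := J) D.mem (fun h => D.J_notMem h.2) (by
      intro t ht ht'
      rw [D.ord]
      have h1 : t ≠ 1 := by rintro rfl; exact ht' (one_mem _)
      have h2 : 0 < orderOf t := orderOf_pos t
      have h3 : orderOf t ≠ 1 := fun h => h1 (orderOf_eq_one_iff.1 h)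
      omega)
  exact ⟨g, hg, fun c hc => hgc c hc (D.cen c hc)⟩

/-- `P ∩ T` is a Sylow 2-subgroup of `T`. -/
theorem not_dvd [Finite G] (D : Dat P J T) : ¬ 2 ∣ ((P : Subgroup G) ⊓ T).relIndex T := by
  have hp : Fact (Nat.Prime 2) := ⟨Nat.prime_two⟩
  have h1 : ¬ 2 ∣ (P : Subgroup G).relIndex (centralizer ({J} : Set G)) := by
    intro h
    exact P.not_dvd_index (h.trans (relIndex_dvd_index_of_le D.P_le))
  have h2 := relIndex_mul_relIndex ((P : Subgroup G) ⊓ T) T (centralizer ({J} : Set G)) inf_le_right D.T_le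
  have h3 := relIndex_mul_relIndex ((P : Subgroup G) ⊓ T) (P : Subgroup G) (centralizer ({J} : Set G))
    inf_le_left D.P_le
  rw [D.relIndex_T] at h2
  rw [D.relIndex_P, ← h2] at h3
  have h4 : (P : Subgroup G).relIndex (centralizer ({J} : Set G)) = ((P : Subgroup G) ⊓ T).relIndex T := by
    omega
  rwa [← h4]

/-- a Sylow 2-subgroup of `T ≅ A_m`, `m ≥ 6`, is self-normalizing -/
theorem selfNorm [Finite G] (D : Dat P J T) {m : ℕ} (hm : 6 ≤ m) (e : ↥T ≃* ↥(alternatingGroup (Fin m)))
    {h : G} (hT : h ∈ T) (hn : ∀ x ∈ (P : Subgroup G) ⊓ T, h * x * h⁻¹ ∈ (P : Subgroup G) ⊓ T) :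
    h ∈ (P : Subgroup G) := by
  have hp : Fact (Nat.Prime 2) := ⟨Nat.prime_two⟩
  have hpg : IsPGroup 2 (((P : Subgroup G) ⊓ T).subgroupOf T) := by
    have h1 : IsPGroup 2 ((P : Subgroup G) ⊓ T : Subgroup G) := P.2.to_le inf_le_left
    exact h1.of_equiv (subgroupOfEquivOfLe inf_le_right).symm
  let S : Sylow 2 T := hpg.toSylow D.not_dvd
  have hS : (S : Subgroup T) = ((P : Subgroup G) ⊓ T).subgroupOf T := rfl
  let S' : Sylow 2 (alternatingGroup (Fin m)) := S.mapSurjective (f := e.toMonoidHom) e.surjective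
  have hS' : (S' : Subgroup (alternatingGroup (Fin m))) = (S : Subgroup T).map e.toMonoidHom := rfl
  have h1 := Cfsg.Agent.H94.Syl2Sym.alt_selfNorm (by rw [Fintype.card_fin]; exact hm) S'
  have h2 : e ⟨h, hT⟩ ∈ normalizer ((S' : Subgroup (alternatingGroup (Fin m))) : Set (alternatingGroup (Fin m))) := by
    have hle : (S' : Subgroup (alternatingGroup (Fin m))).map (MulAut.conj (e ⟨h, hT⟩)).toMonoidHom ≤ S' := by
      rintro _ ⟨_, ⟨x, hx, rfl⟩, rfl⟩
      refine ⟨⟨h, hT⟩ * x * ⟨h, hT⟩⁻¹, ?_, ?_⟩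
      · exact hn x hx
      · simp
    have heq : (S' : Subgroup (alternatingGroup (Fin m))).map (MulAut.conj (e ⟨h, hT⟩)).toMonoidHom = S' := by
      apply eq_of_le_of_card_ge hle
      rw [card_map_of_injective (MulAut.conj _).injective]
    rw [mem_normalizer_iff]
    intro x
    constructor
    · intro hx
      rw [← heq]
      exact ⟨x, hx, rfl⟩
    · intro hx
      rw [← heq] at hx
      obtain ⟨y, hy, hyx⟩ := hx
      have : y = x := (MulAut.conj (e ⟨h, hT⟩)).injective hyx
      rwa [← this]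
  obtain ⟨x, hx, hxe⟩ := h1 h2
  have h3 : x = ⟨h, hT⟩ := e.injective hxe
  rw [h3] at hx
  exact (mem_inf.1 (mem_subgroupOf.1 hx)).1

/-- **`m ≤ 5`** -/
theorem not_six [Finite G] (D : Dat P J T) (hG : ∀ N : Subgroup G, N.index ≠ 2) {m : ℕ} (hm : 6 ≤ m)
    (e : ↥T ≃* ↥(alternatingGroup (Fin m))) : False := by
  have hp : Fact (Nat.Prime 2) := ⟨Nat.prime_two⟩
  obtain ⟨g, hg, hgP⟩ := D.exists_conj hG
  set j := g * J * g⁻¹ with hj
  have hjj : j * j = 1 := by
    rw [hj]
    calc g * J * g⁻¹ * (g * J * g⁻¹) = g * (J * J) * g⁻¹ := by group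
      _ = 1 := by rw [D.JJ]; group
  have hPeq : (P : Subgroup G).map (MulAut.conj g).toMonoidHom = P := by
    apply eq_of_le_of_card_ge
    · rintro _ ⟨x, hx, rfl⟩; exact hgP x hx
    · rw [card_map_of_injective (MulAut.conj g).injective]
  have hgP' : ∀ c ∈ (P : Subgroup G), g⁻¹ * c * g ∈ (P : Subgroup G) := by
    intro c hc
    rw [← hPeq] at hc
    obtain ⟨x, hx, rfl⟩ := hc
    have : g⁻¹ * (MulAut.conj g).toMonoidHom x * g = x := by
      show g⁻¹ * (g * x * g⁻¹) * g = x
      group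
    rw [this]; exact hx
  have jcen : ∀ c ∈ (P : Subgroup G), c * j = j * c := by
    intro c hc
    have h1 := D.cen _ (hgP' c hc)
    rw [hj]
    calc c * (g * J * g⁻¹) = g * ((g⁻¹ * c * g) * J) * g⁻¹ := by group
      _ = g * (J * (g⁻¹ * c * g)) * g⁻¹ := by rw [h1]
      _ = _ := by group
  set M : Subgroup G := ((P : Subgroup G) ⊓ T).map (MulAut.conj g).toMonoidHom with hM
  have memM : ∀ b ∈ (P : Subgroup G), (b ∈ M ↔ g⁻¹ * b * g ∈ T) := by
    intro b hb
    constructor
    · rintro ⟨x, hx, rfl⟩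
      have : g⁻¹ * (MulAut.conj g).toMonoidHom x * g = x := by
        show g⁻¹ * (g * x * g⁻¹) * g = x
        group
      rw [this]; exact hx.2
    · intro h
      refine ⟨g⁻¹ * b * g, ⟨hgP' b hb, h⟩, ?_⟩
      show g * (g⁻¹ * b * g) * g⁻¹ = b
      group
  have key : ∀ b ∈ (P : Subgroup G), (b * j ∈ M ↔ b ∉ M) := by
    intro b hb
    rw [memM b hb, memM (b * j) (mul_mem hb hg.1)]
    have h1 : g⁻¹ * (b * j) * g = (g⁻¹ * b * g) * J := by rw [hj]; group
    rw [h1]
    exact D.mul_mem_iff (D.P_le (hgP' b hb))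
  have hjM : j ∉ M := by
    have := (key 1 (one_mem _)).not
    rw [one_mul, not_not] at this
    exact this.2 (one_mem M)
  -- the Sylow group of `T`
  have hpg : IsPGroup 2 (((P : Subgroup G) ⊓ T).subgroupOf T) := by
    have h1 : IsPGroup 2 ((P : Subgroup G) ⊓ T : Subgroup G) := P.2.to_le inf_le_left
    exact h1.of_equiv (subgroupOfEquivOfLe inf_le_right).symm
  let S : Sylow 2 T := hpg.toSylow D.not_dvd
  have hS : (S : Subgroup T) = ((P : Subgroup G) ⊓ T).subgroupOf T := rfl
  have hsimp : IsSimpleGroup T := by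
    have : IsSimpleGroup (alternatingGroup (Fin m)) :=
      alternatingGroup.isSimpleGroup (by rw [Nat.card_eq_fintype_card, Fintype.card_fin]; omega)
    exact e.isSimpleGroup
  have hTidx : ∀ N : Subgroup T, N.index ≠ 2 := by
    intro N hN
    have hn := normal_of_index_eq_two hN
    have : Nontrivial (Fin m) := Fin.nontrivial_iff_two_le.2 (by omega)
    have hcard : Nat.card T = m.factorial / 2 := by
      rw [Nat.card_congr e.toEquiv, nat_card_alternatingGroup, Nat.card_eq_fintype_card, Fintype.card_fin]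
    rcases hn.eq_bot_or_eq_top with h1 | h1
    · rw [h1, index_bot, hcard] at hN
      have h2 : Nat.factorial 6 ≤ m.factorial := Nat.factorial_le hm
      have h3 : Nat.factorial 6 = 720 := by decide
      omega
    · rw [h1, index_top] at hN
      exact absurd hN (by norm_num)
  let S₀ : Subgroup T := (M ⊓ ((P : Subgroup G) ⊓ T)).subgroupOf T
  have hS₀ : S₀ ≤ (S : Subgroup T) := by
    intro x hx
    exact (mem_inf.1 (mem_subgroupOf.1 hx)).2
  let jT : T := ⟨j, hg.2⟩
  have hidx : S₀.relIndex (S : Subgroup T) = 2 := by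
    rw [relIndex, index_eq_two_iff]
    refine ⟨⟨jT, hg⟩, fun b => ?_⟩
    change Xor (((b * ⟨jT, hg⟩ : S) : T) ∈ S₀) ((b : T) ∈ S₀)
    have hbP : ((b : T) : G) ∈ (P : Subgroup G) ⊓ T := b.2
    have hk := key _ hbP.1
    have e1 : (((b * ⟨jT, hg⟩ : S) : T) ∈ S₀) ↔ ((b : T) : G) * j ∈ M := by
      constructor
      · intro h
        exact (mem_inf.1 (mem_subgroupOf.1 h)).1
      · intro h
        exact mem_subgroupOf.2 (mem_inf.2 ⟨h, mul_mem hbP hg⟩)
    have e2 : ((b : T) ∈ S₀) ↔ ((b : T) : G) ∈ M := by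
      constructor
      · intro h
        exact (mem_inf.1 (mem_subgroupOf.1 h)).1
      · intro h
        exact mem_subgroupOf.2 (mem_inf.2 ⟨h, hbP⟩)
    rw [e1, e2, hk]
    by_cases hb : ((b : T) : G) ∈ M
    · exact Or.inr ⟨hb, fun h => h hb⟩
    · exact Or.inl ⟨hb, hb⟩
  obtain ⟨h, hh, hhc⟩ := ThreePrime.Transfer.exists_conj S (S₀ := S₀) hS₀ hidx hTidx (s := jT) hg
    (fun h => hjM (mem_inf.1 (mem_subgroupOf.1 h)).1) (by
      intro t ht ht'
      have h0 : orderOf jT ∣ 2 := orderOf_dvd_of_pow_eq_one (by rw [pow_two]; exact Subtype.ext hjj)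
      have h00 := Nat.le_of_dvd (by norm_num) h0
      have h1 : t ≠ 1 := by rintro rfl; exact ht' (one_mem _)
      have h2 : 0 < orderOf t := orderOf_pos t
      have h3 : orderOf t ≠ 1 := fun h => h1 (orderOf_eq_one_iff.1 h)
      omega)
  have hhP : (h : G) ∈ (P : Subgroup G) := by
    apply D.selfNorm hm e h.2
    intro x hx
    exact hhc ⟨x, hx.2⟩ hx (Subtype.ext (jcen x hx.1))
  have h5 : ((h * jT * h⁻¹ : T) : G) = j := by
    show (h : G) * j * (h : G)⁻¹ = j
    rw [jcen _ hhP]; group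
  have h6 := (mem_inf.1 (mem_subgroupOf.1 hh)).1
  rw [h5] at h6
  exact hjM h6

/-- **`m = 4` or `m = 5`** -/
theorem four_or_five [Finite G] (D : Dat P J T) (hG : ∀ N : Subgroup G, N.index ≠ 2) {m : ℕ}
    (e : ↥T ≃* ↥(alternatingGroup (Fin m))) : m = 4 ∨ m = 5 := by
  by_contra hcon
  rcases Nat.lt_or_ge m 6 with h6 | h6
  · have hm : m < 4 := by omega
    obtain ⟨g, hg, -⟩ := D.exists_conj hG
    have h1 : orderOf (⟨g * J * g⁻¹, hg.2⟩ : T) = 2 := by
      rw [Subgroup.orderOf_mk]
      rw [← D.ord]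
      exact (orderOf_injective (MulAut.conj g).toMonoidHom (MulAut.conj g).injective J)
    have h2 : 2 ∣ Nat.card T := by rw [← h1]; exact orderOf_dvd_natCard _
    rw [Nat.card_congr e.toEquiv] at h2
    interval_cases m
    · have : Nat.card (alternatingGroup (Fin 0)) = 1 := by
        rw [Nat.card_eq_one_iff_unique]; exact ⟨⟨fun a b => by apply Subtype.ext; exact Subsingleton.elim _ _⟩, ⟨1⟩⟩
      omega
    · have : Nat.card (alternatingGroup (Fin 1)) = 1 := by
        rw [Nat.card_eq_one_iff_unique]; exact ⟨⟨fun a b => by apply Subtype.ext; exact Subsingleton.elim _ _⟩, ⟨1⟩⟩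
      omega
    · have : Nat.card (alternatingGroup (Fin 2)) = 1 := by
        rw [nat_card_alternatingGroup, Nat.card_eq_fintype_card, Fintype.card_fin]; rfl
      omega
    · have : Nat.card (alternatingGroup (Fin 3)) = 3 := by
        rw [nat_card_alternatingGroup, Nat.card_eq_fintype_card, Fintype.card_fin]; rfl
      omega
  · exact D.not_six hG h6 e

end Dat

end Cfsg.Agent.H330.TwoTimes
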